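import Cfsg.Agent.Lib.FPQ.Fitting
import Cfsg.Agent.Lib.Coprime.Factorization

/-!
# A minimal counterexample: invariant Sylow subgroups and solvable invariant subgroups (helper25)

* `Cx`: minimal counterexample; `isolate`
* `le_pCoreIn_of_le_commutator`, `le_opc_of_centralizes`, `le_normalizer_core_commutator`, `le_core_commutator`
* `pxq`: Thompson's `A × B` lemma
-/

set_option autoImplicit false
set_option linter.unusedSectionVars false

namespace Cfsg.Agent.FPQ

open Subgroup LocalCharP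
open scoped Pointwise IsMulCommutative commutatorElement

universe u

variable {G : Type u} [Group G] [Finite G]

theorem coprime_of_isPGroup {p r : ℕ} [Fact p.Prime] [Fact r.Prime] (hpr : r ≠ p) {Y : Subgroup G}
    (hY : IsPGroup r Y) : (Nat.card Y).Coprime p := by
  obtain ⟨k, hk⟩ := IsPGroup.iff_card.1 hY
  rw [hk]
  exact ((Nat.coprime_primes (Fact.out : r.Prime) (Fact.out : p.Prime)).2 hpr).pow_left k

theorem coprime_card_of_isPGroup {p r : ℕ} [Fact p.Prime] [Fact r.Prime] (hpr : r ≠ p) {X Y : Subgroup G}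
    (hX : IsPGroup p X) (hY : IsPGroup r Y) : (Nat.card Y).Coprime (Nat.card X) := by
  obtain ⟨k, hk⟩ := IsPGroup.iff_card.1 hX
  rw [hk]
  exact (coprime_of_isPGroup hpr hY).pow_right k

theorem coprime_sup {p : ℕ} {S O : Subgroup G} (h : S ≤ normalizer (O : Set G))
    (hS : (Nat.card S).Coprime p) (hO : (Nat.card O).Coprime p) : (Nat.card (O ⊔ S : Subgroup G)).Coprime p := by
  have h1 := Solvable.card_sup_mul_card_inf (S.subgroupOf (normalizer (O : Set G)))
    (O.subgroupOf (normalizer (O : Set G)))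
  rw [← Subgroup.subgroupOf_sup h Subgroup.le_normalizer,
    Nat.card_congr (subgroupOfEquivOfLe (sup_le h Subgroup.le_normalizer)).toEquiv,
    Nat.card_congr (subgroupOfEquivOfLe h).toEquiv,
    Nat.card_congr (subgroupOfEquivOfLe (Subgroup.le_normalizer (H := O))).toEquiv] at h1
  rw [sup_comm]
  exact (Nat.Coprime.mul_left hS hO).coprime_dvd_left (h1 ▸ dvd_mul_right _ _)

theorem commutator_le_of_le {M X Y : Subgroup G} (hX : X ≤ M) (hY : Y ≤ M) : ⁅X, Y⁆ ≤ ⁅M, M⁆ :=
  Subgroup.commutator_mono hX hY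

theorem commutator_le_self (M : Subgroup G) : ⁅M, M⁆ ≤ M := Subgroup.commutator_le.2 fun x hx y hy => by
  rw [commutatorElement_def]
  exact M.mul_mem (M.mul_mem (M.mul_mem hx hy) (M.inv_mem hx)) (M.inv_mem hy)

theorem le_normalizer_commutator_self (M : Subgroup G) : M ≤ normalizer ((⁅M, M⁆ : Subgroup G) : Set G) :=
  inv_commutator Subgroup.le_normalizer Subgroup.le_normalizer

/-- With nilpotent derived group, `p`-subgroups of the derived group lie in `O_p`. -/
theorem le_pCoreIn_of_le_commutator {p : ℕ} [Fact p.Prime] {M U : Subgroup G}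
    (hn : Group.IsNilpotent (⁅M, M⁆ : Subgroup G)) (hU : IsPGroup p U) (hUM : U ≤ ⁅M, M⁆) :
    U ≤ pCoreIn p M := by
  set D : Subgroup G := ⁅M, M⁆ with hD
  have h1 : pCoreIn p D ≤ pCoreIn p M := le_pCoreIn ((pCoreIn_le p D).trans (commutator_le_self M))
    (isPGroup_pCoreIn p D)
    ((le_normalizer_commutator_self M).trans (normalizer_le_normalizer_pCoreIn p D))
  refine le_trans ?_ h1
  obtain ⟨S, hS⟩ := (hU.of_equiv (subgroupOfEquivOfLe hUM).symm).exists_le_sylow
  have : (S : Subgroup D).Normal :=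
    ((Group.isNilpotent_of_finite_tfae (G := D)).out 0 3 rfl rfl).mp hn p inferInstance S
  rw [← map_subgroupOf_eq_of_le hUM]
  refine map_mono (hS.trans ?_)
  rw [Cores.pCore_eq_sylow S]

theorem commute_pCoreIn_opc {p : ℕ} [Fact p.Prime] {M : Subgroup G} {c d : G} (hc : c ∈ pCoreIn p M)
    (hd : d ∈ opc p M) : c * d = d * c := by
  obtain ⟨c', hc', rfl⟩ := hc
  obtain ⟨d', hd', rfl⟩ := hd
  exact congrArg Subtype.val (Cores.pCore_pPrimeCore_commute hc' hd')

theorem opc_le_centralizer {p : ℕ} [Fact p.Prime] (M : Subgroup G) :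
    opc p M ≤ centralizer (pCoreIn p M : Set G) := fun _ hd =>
  Subgroup.mem_centralizer_iff.2 fun _ hc => commute_pCoreIn_opc hc hd

theorem pCoreIn_le_opc {p r : ℕ} [Fact p.Prime] [Fact r.Prime] (hpr : r ≠ p) (M : Subgroup G) :
    pCoreIn r M ≤ opc p M :=
  le_opc (pCoreIn_le r M) (le_normalizer_pCoreIn r M) (coprime_of_isPGroup hpr (isPGroup_pCoreIn r M))

theorem commutator_le_cores {p : ℕ} [Fact p.Prime] {A M : Subgroup G} (hAM : A ≤ normalizer (M : Set G))
    (hcop : (Nat.card A).Coprime (Nat.card M)) (hA : Group.IsSolvable A)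
    (hn : Group.IsNilpotent (⁅M, M⁆ : Subgroup G)) : ⁅M, M⁆ ≤ pCoreIn p M ⊔ opc p M := by
  refine Coprime.le_of_invariant_sylow_le (inv_commutator hAM hAM)
    (hcop.coprime_dvd_right (Subgroup.card_dvd_of_le (commutator_le_self M))) (Or.inl hA)
    fun t Q ht hQ hQt _ => ?_
  have := Fact.mk ht
  by_cases h : t = p
  · subst h; exact le_sup_of_le_left (le_pCoreIn_of_le_commutator hn hQt hQ)
  · exact le_sup_of_le_right ((le_pCoreIn_of_le_commutator hn hQt hQ).trans (pCoreIn_le_opc h M))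

/-- A `p'`-subgroup centralising `O_p` lies in `O_{p'}` when the derived group is nilpotent. -/
theorem le_opc_of_centralizes {p : ℕ} [Fact p.Prime] {A M S : Subgroup G}
    (hAM : A ≤ normalizer (M : Set G)) (hcop : (Nat.card A).Coprime (Nat.card M))
    (hA : Group.IsSolvable A) (hn : Group.IsNilpotent (⁅M, M⁆ : Subgroup G)) (hS : S ≤ M)
    (hSp : (Nat.card S).Coprime p) (hSc : S ≤ centralizer (pCoreIn p M : Set G)) : S ≤ opc p M := by
  set O := opc p M with hO
  have hOn : M ≤ normalizer (O : Set G) := le_normalizer_opc p M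
  set T := O ⊔ S with hT
  have hTM : T ≤ M := sup_le (opc_le p M) hS
  have hTp : (Nat.card T).Coprime p := coprime_sup (hS.trans hOn) hSp (coprime_card_opc p M)
  have hTn : M ≤ normalizer (T : Set G) := by
    intro g hg
    refine Coprime.mem_normalizer_of_forall fun t ht => ?_
    obtain ⟨o, ho, s, hs, rfl⟩ := (Coprime.mem_sup_iff (hS.trans hOn)).1 ht
    have h1 : g * s * g⁻¹ ∈ T := by
      have h2 := commutator_le_cores hAM hcop hA hn (Subgroup.commutator_mem_commutator hg (hS hs)) (p := p)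
      obtain ⟨c, hc, d, hd, hcd⟩ := (Coprime.mem_sup_iff
        ((opc_le p M).trans (le_normalizer_pCoreIn p M))).1 h2
      have hgs : g * s * g⁻¹ = c * (d * s) := by
        rw [← mul_assoc, hcd, commutatorElement_def]; group
      have hds : d * s ∈ T := T.mul_mem (mem_sup_left hd) (mem_sup_right hs)
      have hcomm : Commute c (d * s) := Commute.mul_right (commute_pCoreIn_opc hc hd)
        (Subgroup.mem_centralizer_iff.1 (hSc hs) c hc)
      have h3 : (c * (d * s)) ^ Nat.card T = 1 := by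
        rw [← hgs, conj_pow, show s ^ Nat.card T = 1 from
          congrArg Subtype.val (pow_card_eq_one' (x := (⟨s, mem_sup_right hs⟩ : T))), mul_one,
          mul_inv_cancel]
      rw [hcomm.mul_pow, show (d * s) ^ Nat.card T = 1 from
        congrArg Subtype.val (pow_card_eq_one' (x := (⟨d * s, hds⟩ : T))), mul_one] at h3
      have hc1 : c = 1 := eq_one_of_coprime (isPGroup_pCoreIn p M) hc
        (hTp.coprime_dvd_left (orderOf_dvd_of_pow_eq_one h3))
      rw [hgs, hc1, one_mul]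
      exact hds
    have e : g * (o * s) * g⁻¹ = (g * o * g⁻¹) * (g * s * g⁻¹) := by group
    rw [e]
    exact T.mul_mem (mem_sup_left (commute_conj_mem (hOn hg) ho)) h1
  exact le_sup_right.trans (le_opc hTM hTn hTp)

/-- `[O_p(M), Y]` is normal in `M` for a `p'`-subgroup `Y`. -/
theorem le_normalizer_core_commutator {p : ℕ} [Fact p.Prime] {A M Y : Subgroup G}
    (hAM : A ≤ normalizer (M : Set G)) (hcop : (Nat.card A).Coprime (Nat.card M))
    (hA : Group.IsSolvable A) (hn : Group.IsNilpotent (⁅M, M⁆ : Subgroup G)) (hY : Y ≤ M)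
    (hYp : (Nat.card Y).Coprime p) :
    M ≤ normalizer ((⁅pCoreIn p M, Y⁆ : Subgroup G) : Set G) := by
  set P := pCoreIn p M with hP
  set O := opc p M with hO
  have hOn : M ≤ normalizer (O : Set G) := le_normalizer_opc p M
  have hPn : M ≤ normalizer (P : Set G) := le_normalizer_pCoreIn p M
  set Z := O ⊔ Y with hZ
  have hZM : Z ≤ M := sup_le (opc_le p M) hY
  have hPc : O ≤ centralizer (P : Set G) := opc_le_centralizer M
  -- `[P, Z] = [P, Y]`
  have hPZ : ⁅P, Z⁆ = ⁅P, Y⁆ := by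
    refine le_antisymm ?_ (Subgroup.commutator_mono le_rfl le_sup_right)
    rw [Subgroup.commutator_le]
    intro v hv z hz
    obtain ⟨o, ho, y, hy, rfl⟩ := (Coprime.mem_sup_iff (hY.trans hOn)).1 hz
    have hv' : ⁅v, y⁆ ∈ P := (Subgroup.le_normalizer_iff_commutator_le_left.1 (hY.trans hPn))
      (Subgroup.commutator_mem_commutator hv hy)
    have e : ⁅v, o * y⁆ = ⁅v, o⁆ * (o * ⁅v, y⁆ * o⁻¹) := by
      simp only [commutatorElement_def]; group
    rw [e, conj_eq_of_mem_centralizer (hPc ho) hv',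
      commutatorElement_eq_one_iff_mul_comm.2 (Subgroup.mem_centralizer_iff.1 (hPc ho) v hv), one_mul]
    exact Subgroup.commutator_mem_commutator hv hy
  have hZp : (Nat.card Z).Coprime p := coprime_sup (hY.trans hOn) hYp (coprime_card_opc p M)
  have hPZ' : (Nat.card Z).Coprime (Nat.card P) := by
    obtain ⟨k, hk⟩ := IsPGroup.iff_card.1 (isPGroup_pCoreIn p M)
    rw [hP, hk]; exact hZp.pow_right k
  have hsolvP : Group.IsSolvable P := by
    have := (isPGroup_pCoreIn p M).isNilpotent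
    infer_instance
  have hM'le : ⁅M, M⁆ ≤ P ⊔ O := commutator_le_cores hAM hcop hA hn
  intro g hg
  have hle : MulAut.conj g • Z ≤ P ⊔ Z := by
    intro x hx
    set z := g⁻¹ * x * g with hzdef
    have hz : z ∈ Z := Coprime.mem_conj.1 hx
    have h1 : ⁅g, z⁆ ∈ P ⊔ Z :=
      (sup_le_sup_left le_sup_left P) (hM'le (Subgroup.commutator_mem_commutator hg (hZM hz)))
    have e : x = ⁅g, z⁆ * z := by rw [hzdef, commutatorElement_def]; group
    rw [e]
    exact Subgroup.mul_mem _ h1 (mem_sup_right hz)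
  obtain ⟨c, hc, hcZ⟩ := Coprime.exists_conj_eq_of_le_sup (hZM.trans hPn) hPZ' (Or.inr hsolvP) hle
    (Coprime.card_conj g Z)
  have hPg : MulAut.conj g • P = P := Coprime.conj_eq_of_mem_normalizer (hPn hg)
  have hPc' : MulAut.conj c • P = P := Coprime.conj_eq_of_mem_normalizer (Subgroup.le_normalizer hc)
  have hUc : c ∈ normalizer ((⁅P, Y⁆ : Subgroup G) : Set G) :=
    Subgroup.normalizer_commutator_ge_left P Y hc
  refine Coprime.mem_normalizer_of_conj_eq ?_
  have hmap : ∀ h : G, MulAut.conj h • ⁅P, Z⁆ = ⁅MulAut.conj h • P, MulAut.conj h • Z⁆ := fun h =>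
    Subgroup.map_commutator _ _ _
  rw [← hPZ, hmap, hPg, ← hcZ]
  conv_lhs => rw [← hPc']
  rw [← hmap, hPZ]
  exact Coprime.conj_eq_of_mem_normalizer hUc

/-- A `p`-subgroup `W ≤ [W, Y]` of `M` lies in `[O_p(M), Y]`. -/
theorem le_core_commutator {p : ℕ} [Fact p.Prime] {M W Y : Subgroup G}
    (hn : Group.IsNilpotent (⁅M, M⁆ : Subgroup G)) (hW : W ≤ M) (hY : Y ≤ M) (hWp : IsPGroup p W)
    (h : W ≤ ⁅W, Y⁆) : W ≤ ⁅pCoreIn p M, Y⁆ :=
  h.trans (Subgroup.commutator_mono
    (le_pCoreIn_of_le_commutator hn hWp (h.trans (commutator_le_of_le hW hY))) le_rfl)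

/-- Thompson's `A × B` lemma. -/
theorem pxq {p : ℕ} [Fact p.Prime] {V B : Subgroup G} (hV : IsPGroup p V) (hB : IsPGroup p B)
    (hBV : B ≤ normalizer (V : Set G)) {y : G} (hy : (orderOf y).Coprime p)
    (hyV : y ∈ normalizer (V : Set G)) (hyB : y ∈ centralizer (B : Set G))
    (h : V ⊓ centralizer (B : Set G) ≤ centralizer {y}) : V ≤ centralizer {y} := by
  set T := B ⊔ V with hT
  have hTp : IsPGroup p T := hB.to_sup_of_normal_right' hV hBV
  set C := (centralizer ({y} : Set G)).subgroupOf T with hC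
  by_contra hcon
  have hne : C ≠ ⊤ := fun e => hcon fun v hv => by
    have : (⟨v, mem_sup_right hv⟩ : T) ∈ C := e ▸ mem_top _
    exact this
  have := hTp.isNilpotent
  obtain ⟨t, htN, htC⟩ := SetLike.exists_of_lt
    (Group.normalizerCondition_of_isNilpotent C (lt_top_iff_ne_top.2 hne))
  obtain ⟨v, hv, b, hb, hvb⟩ := (Coprime.mem_sup_iff hBV).1
    (show (t : G) ∈ V ⊔ B by rw [sup_comm]; exact t.2)
  have hbC : ∀ b' ∈ B, b' ∈ centralizer ({y} : Set G) := fun b' hb' =>
    Subgroup.mem_centralizer_singleton_iff.2 (Subgroup.mem_centralizer_iff.1 hyB b' hb')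
  have hvT : (⟨v, mem_sup_right hv⟩ : T) ∈ normalizer (C : Set T) := by
    have e : (⟨v, mem_sup_right hv⟩ : T) = t * (⟨b, mem_sup_left hb⟩ : T)⁻¹ :=
      Subtype.ext (show v = (t : G) * b⁻¹ by rw [← hvb, mul_inv_cancel_right])
    rw [e]
    exact Subgroup.mul_mem _ htN (Subgroup.inv_mem _ (Subgroup.le_normalizer (hbC b hb)))
  set w := v⁻¹ * y * v with hw
  set c := w * y⁻¹ with hc
  have hcV : c ∈ V := by
    have e : c = v⁻¹ * (y * v * y⁻¹) := by rw [hc, hw]; group
    rw [e]
    exact V.mul_mem (V.inv_mem hv) (commute_conj_mem hyV hv)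
  have hwB : ∀ b' ∈ B, b' * w = w * b' := fun b' hb' => by
    have h1 : (⟨v, mem_sup_right hv⟩ : T) * ⟨b', mem_sup_left hb'⟩ * (⟨v, mem_sup_right hv⟩ : T)⁻¹ ∈ C :=
      (Subgroup.mem_normalizer_iff.1 hvT _).1 (hbC b' hb')
    have h2 : v * b' * v⁻¹ * y = y * (v * b' * v⁻¹) := Subgroup.mem_centralizer_singleton_iff.1 h1
    calc b' * w = v⁻¹ * (v * b' * v⁻¹ * y) * v := by rw [hw]; group
      _ = w * b' := by rw [h2, hw]; group
  have hcB : c ∈ centralizer (B : Set G) := Subgroup.mem_centralizer_iff.2 fun b' hb' => by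
    have h1 := Subgroup.mem_centralizer_iff.1 hyB b' hb'
    have h1' : b' * y⁻¹ = y⁻¹ * b' := ((show Commute b' y from h1).inv_right).eq
    rw [hc, ← mul_assoc, hwB b' hb', mul_assoc w b', h1', ← mul_assoc]
  have hcy : Commute c y := Subgroup.mem_centralizer_singleton_iff.1 (h ⟨hcV, hcB⟩)
  have hcy' : c * y = w := by rw [hc, inv_mul_cancel_right]
  have hpow : (c * y) ^ orderOf y = 1 := by
    have e : c * y = v⁻¹ * y * (v⁻¹)⁻¹ := by rw [hcy', hw]; group
    rw [e, conj_pow, pow_orderOf_eq_one, mul_one, mul_inv_cancel]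
  rw [hcy.mul_pow, pow_orderOf_eq_one, mul_one] at hpow
  have hc1 : c = 1 := eq_one_of_coprime hV hcV (hy.coprime_dvd_left (orderOf_dvd_of_pow_eq_one hpow))
  have hvy : v * y = y * v := by
    have e : v⁻¹ * y * v = y := by rw [← hw, ← hcy', hc1, one_mul]
    calc v * y = v * (v⁻¹ * y * v) := by rw [e]
      _ = y * v := by group
  apply htC
  show (t : G) ∈ centralizer {y}
  rw [← hvb]
  exact Subgroup.mul_mem _ (Subgroup.mem_centralizer_singleton_iff.2 hvy) (hbC b hb)

/-- A minimal counterexample. -/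
structure Cx (q : ℕ) (A K : Subgroup G) : Prop extends Op q A K where
  sol : ∀ X : Subgroup G, X ≤ K → A ≤ normalizer (X : Set G) → X ≠ K → Group.IsSolvable X
  min : ∀ N : Subgroup G, N ≤ K → A ≤ normalizer (N : Set G) → K ≤ normalizer (N : Set G) → N = ⊥ ∨ N = K
  nsol : ¬ Group.IsSolvable K

namespace Cx

variable {q : ℕ} {A K : Subgroup G} (hC : Cx q A K)
include hC

theorem nilpotent_commutator {X : Subgroup G} (hX : X ≤ K) (hXA : A ≤ normalizer (X : Set G))
    (hne : X ≠ K) : Group.IsNilpotent (⁅X, X⁆ : Subgroup G) :=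
  (hC.toOp.mono hX hXA).nilpotent_commutator (hC.sol X hX hXA hne)

theorem normalizer_ne {X : Subgroup G} (hX : X ≤ K) (hXA : A ≤ normalizer (X : Set G)) (hne : X ≠ ⊥)
    (hXs : Group.IsSolvable X) : K ⊓ normalizer (X : Set G) ≠ K := fun h => by
  rcases hC.min X hX hXA (fun g hg => ((h.symm ▸ hg : g ∈ K ⊓ normalizer (X : Set G))).2) with h1 | h1
  · exact hne h1
  · exact hC.nsol (h1 ▸ hXs)

theorem centralizer_ne {X : Subgroup G} (hX : X ≤ K) (hne : X ≠ ⊥) :
    K ⊓ centralizer (X : Set G) ≠ K := fun h => by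
  have hZ : X ≤ K ⊓ centralizer (K : Set G) := le_inf hX (Subgroup.le_centralizer_iff.1 fun g hg =>
    ((h.symm ▸ hg : g ∈ K ⊓ centralizer (X : Set G))).2)
  rcases hC.min (K ⊓ centralizer (K : Set G)) inf_le_left (inv_inf hC.norm (inv_centralizer hC.norm))
    (fun g hg => Coprime.mem_normalizer_of_forall fun z hz => by
      rw [Subgroup.mem_centralizer_iff.1 hz.2 g hg, mul_inv_cancel_right]; exact hz) with h1 | h1
  · exact hne (le_bot_iff.1 (h1 ▸ hZ))
  · refine hC.nsol (Group.isSolvable_of_comm fun a b => Subtype.ext ?_)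
    have hb : (b : G) ∈ K ⊓ centralizer (K : Set G) := h1.symm ▸ b.2
    exact Subgroup.mem_centralizer_iff.1 hb.2 a a.2

/-- An invariant Sylow subgroup contains every invariant `p`-subgroup. -/
theorem exists_isylow (p : ℕ) [Fact p.Prime] :
    ∃ P : Sylow p K, A ≤ normalizer ((P : Subgroup K).map K.subtype : Set G) ∧
      ∀ U : Subgroup G, U ≤ K → A ≤ normalizer (U : Set G) → IsPGroup p U →
        U ≤ (P : Subgroup K).map K.subtype := by
  obtain ⟨P, hP⟩ := Coprime.exists_invariant_sylow hC.norm hC.cop (Or.inl hC.toOp.solvA) p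
  refine ⟨P, hP, fun U hUK hUA hU => ?_⟩
  obtain ⟨Q, hUQ, hQ⟩ := Coprime.exists_invariant_sylow_ge hC.norm hC.cop (Or.inl hC.toOp.solvA) hUK hU hUA
  obtain ⟨c, hc, rfl⟩ := Coprime.invariant_sylow_conj hC.norm hC.cop (Or.inl hC.toOp.solvA) Q P hQ hP
  have hc1 : (c : G) = 1 := Subgroup.mem_bot.1 (hC.fix ▸ (⟨c.2, hc⟩ : (c : G) ∈ K ⊓ centralizer (A : Set G)))
  rwa [show c = 1 from Subtype.ext hc1, one_smul]

end Cx

end Cfsg.Agent.FPQ
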