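import Cfsg.Agent.Lib.FPQ.Fitting
import Cfsg.Agent.Lib.Coprime.Frattini

/-!
# Fixed points outside an invariant subgroup (helper25)

* `frat`: the Frattini subgroup inside the ambient group
* `exists_fixed_not_mem`: a line acting fixed-point-freely forces fixed points of every other line
* `centralizes_pgroup_of_two`
-/

set_option autoImplicit false
set_option linter.unusedSectionVars false

namespace Cfsg.Agent.FPQ

open Subgroup LocalCharP
open scoped Pointwise IsMulCommutative commutatorElement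

universe u

variable {G : Type u} [Group G] [Finite G]

/-- The Frattini subgroup of `U` inside the ambient group. -/
def frat (U : Subgroup G) : Subgroup G := (frattini U).map U.subtype

theorem frat_le (U : Subgroup G) : frat U ≤ U := map_subtype_le _

theorem normalizer_le_normalizer_frat (U : Subgroup G) :
    normalizer (U : Set G) ≤ normalizer (frat U : Set G) :=
  Cores.normalizer_le_normalizer_map _

theorem commutator_le_frat {p : ℕ} [Fact p.Prime] {U : Subgroup G} (hU : IsPGroup p U) :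
    ⁅U, U⁆ ≤ frat U := by
  have := hU.isNilpotent
  rw [Subgroup.commutator_le]
  intro x hx y hy
  exact ⟨_, Cores.commutator_le_frattini
    (Subgroup.commutator_mem_commutator (mem_top (⟨x, hx⟩ : U)) (mem_top (⟨y, hy⟩ : U))), rfl⟩

theorem eq_of_sup_frat {U S : Subgroup G} (hS : S ≤ U) (h : U ≤ S ⊔ frat U) : S = U := by
  have h1 : S.subgroupOf U ⊔ frattini U = ⊤ := by
    refine Subgroup.map_injective U.subtype_injective ?_
    rw [Subgroup.map_sup, map_subgroupOf_eq_of_le hS, ← MonoidHom.range_eq_map, Subgroup.range_subtype]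
    exact le_antisymm (sup_le hS (frat_le U)) h
  exact le_antisymm hS (Subgroup.subgroupOf_eq_top.1 (frattini_nongenerating h1))

theorem frat_ne {U : Subgroup G} (hne : U ≠ ⊥) : frat U ≠ U := fun h => by
  refine hne (eq_of_sup_frat bot_le ?_).symm
  rw [bot_sup_eq]; exact h.ge

theorem qimg_isMulCommutative {D U : Subgroup G} (_hU : U ≤ normalizer (D : Set G)) (h : ⁅U, U⁆ ≤ D) :
    IsMulCommutative (qimg D U) := by
  refine ⟨⟨?_⟩⟩
  rintro ⟨z, hz⟩ ⟨w, hw⟩
  obtain ⟨x, hx, hxU, rfl⟩ := mem_qimg.1 hz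
  obtain ⟨y, hy, hyU, rfl⟩ := mem_qimg.1 hw
  refine Subtype.ext ?_
  show qmk D x hx * qmk D y hy = qmk D y hy * qmk D x hx
  rw [← commutatorElement_eq_one_iff_mul_comm, ← map_commutatorElement, QuotientGroup.mk'_apply,
    QuotientGroup.eq_one_iff]
  exact h (Subgroup.commutator_mem_commutator hxU hyU)

namespace Op

variable {q : ℕ} {A K : Subgroup G} (hO : Op q A K)
include hO

theorem qimg_line {D Y : Subgroup G} (hAD : A ≤ normalizer (D : Set G)) {X : Subgroup G} (hYX : Y ≤ X)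
    {a : G} (ha : a ∈ A) (hY : Y ≤ K ⊓ centralizer {a}) :
    qimg D Y ≤ qimg D X ⊓ centralizer {qmk D a (hAD ha)} := by
  refine le_inf (qimg_mono hYX) fun z hz => ?_
  obtain ⟨y, hy, hyY, rfl⟩ := mem_qimg.1 hz
  rw [Subgroup.mem_centralizer_singleton_iff, ← map_mul, ← map_mul]
  exact congrArg _ (Subtype.ext (Subgroup.mem_centralizer_singleton_iff.1 (hY hyY).2))

theorem qmk_ne {D : Subgroup G} (hAD : A ≤ normalizer (D : Set G)) (hDK : D ≤ K) {a b : G} (ha : a ∈ A)
    (hb : b ∈ A) (hab : b ∉ zpowers a) : qmk D b (hAD hb) ∉ zpowers (qmk D a (hAD ha)) := by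
  intro h
  obtain ⟨n, hn⟩ := Subgroup.mem_zpowers_iff.1 h
  have h1 : qmk D (a ^ n) (zpow_mem (hAD ha) n) = qmk D b (hAD hb) := by
    rw [← hn]
    exact map_zpow (QuotientGroup.mk' _) (⟨a, hAD ha⟩ : normalizer (D : Set G)) n
  exact hab (inv_mul_eq_one.1 (Coprime.eq_one_of_mem_of_mem hO.cop (A.mul_mem (A.inv_mem (A.zpow_mem ha n)) hb)
    (hDK (qmk_eq_iff.1 h1))) ▸ zpow_mem (mem_zpowers a) n)

/-- If `[U, Y] = U` for `Y` in the line of `a`, every other line has a fixed point in `U` outside `D`. -/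
theorem exists_fixed_not_mem {a b : G} (ha : a ∈ A) (ha1 : a ≠ 1) (hb : b ∈ A) (hab : b ∉ zpowers a)
    {U D Y : Subgroup G} (hUK : U ≤ K) (hUA : A ≤ normalizer (U : Set G)) (hY : Y ≤ K ⊓ centralizer {a})
    (hYA : A ≤ normalizer (Y : Set G)) (hYU : Y ≤ normalizer (U : Set G))
    (hcop : (Nat.card Y).Coprime (Nat.card U)) (hfix : U ≤ ⁅U, Y⁆) (hDU : D ≤ U)
    (hDA : A ≤ normalizer (D : Set G)) (hUD : U ≤ normalizer (D : Set G))
    (hYD : Y ≤ normalizer (D : Set G)) (hcomm : ⁅U, U⁆ ≤ D) (hne : D ≠ U) :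
    ∃ u ∈ U ⊓ centralizer {b}, u ∉ D ∧ u ∉ centralizer (Y : Set G) := by
  have hYK : Y ≤ K := hY.trans inf_le_left
  have hXA := inv_sup hUA hYA
  have hX := hO.mono (sup_le hUK hYK) hXA
  have hXD : U ⊔ Y ≤ normalizer (D : Set G) := sup_le hUD hYD
  have hq := hX.quot (hDU.trans le_sup_left) hXD hDA
  have := qimg_isMulCommutative hUD hcomm
  have hV : ⁅qimg D U, qimg D Y⁆ = qimg D U := by
    rw [qimg_commutator hUD hYD]
    exact congrArg (qimg D) (le_antisymm (Subgroup.le_normalizer_iff_commutator_le_left.1 hYU) hfix)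
  have hcop' : (Nat.card (qimg D Y)).Coprime (Nat.card (qimg D U)) :=
    (hcop.coprime_dvd_left (card_qimg_dvd hYD)).coprime_dvd_right (card_qimg_dvd hUD)
  have hCY : qimg D U ⊓ centralizer (qimg D Y : Set (QG D)) = ⊥ := by
    have h := Coprime.abelian_inf_eq_bot (qimg_le_normalizer (N := D) hYU) hcop'
    rw [hV] at h
    rw [eq_bot_iff, ← h]
    exact le_inf le_rfl inf_le_left
  have hne' : qimg D U ≠ ⊥ := fun e => hne (le_antisymm hDU ((qimg_eq_bot hUD).1 e))
  have hfp := hq.fix_ne_bot (qmk_mem_qimg ha (hx := hDA ha))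
    (fun e => ha1 ((qimg_inj hO.toOp0 hDA (hDU.trans hUK) ha).1 e)) (qmk_mem_qimg hb (hx := hDA hb))
    (hO.qmk_ne hDA (hDU.trans hUK) ha hb hab) (qimg_le_normalizer (N := D) hUA)
    (hX.qimg_line hDA le_sup_right ha (le_inf le_sup_right (hY.trans inf_le_right)))
    (qimg_le_normalizer (N := D) hYA) (qimg_le_normalizer (N := D) hYU) hCY hne'
  obtain ⟨z, hz, hz1⟩ : ∃ z ∈ qimg D U ⊓ centralizer {qmk D b (hDA hb)}, z ≠ 1 := by
    by_contra hc
    push Not at hc
    exact hfp ((Subgroup.eq_bot_iff_forall _).2 hc)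
  obtain ⟨c, hcD, hc, rfl⟩ := hO.exists_fix_lift hDA hDU hUK hb (hUA hb) hz.1
    (Subgroup.mem_centralizer_singleton_iff.1 hz.2)
  refine ⟨c, hc, fun hd => hz1 (qmk_eq_one.2 hd), fun hcY => hz1 ?_⟩
  have hmem : qmk D c hcD ∈ qimg D U ⊓ centralizer (qimg D Y : Set (QG D)) := by
    refine ⟨qmk_mem_qimg hc.1, Subgroup.mem_centralizer_iff.2 fun w hw => ?_⟩
    obtain ⟨y, hy, hyY, rfl⟩ := mem_qimg.1 hw
    rw [← map_mul, ← map_mul]
    exact congrArg _ (Subtype.ext (Subgroup.mem_centralizer_iff.1 hcY y hyY))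
  rwa [hCY, Subgroup.mem_bot] at hmem

theorem exists_fixed_not_commute {p : ℕ} [Fact p.Prime] {a b : G} (ha : a ∈ A) (ha1 : a ≠ 1) (hb : b ∈ A)
    (hab : b ∉ zpowers a) {U Y : Subgroup G} (hUK : U ≤ K) (hUA : A ≤ normalizer (U : Set G))
    (hUp : IsPGroup p U) (hY : Y ≤ K ⊓ centralizer {a}) (hYA : A ≤ normalizer (Y : Set G))
    (hYU : Y ≤ normalizer (U : Set G)) (hcop : (Nat.card Y).Coprime (Nat.card U)) (hfix : U ≤ ⁅U, Y⁆)
    (hne : U ≠ ⊥) : ∃ u ∈ U ⊓ centralizer {b}, u ∉ centralizer (Y : Set G) := by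
  obtain ⟨u, hu, -, h⟩ := hO.exists_fixed_not_mem ha ha1 hb hab hUK hUA hY hYA hYU hcop hfix (frat_le U)
    (hUA.trans (normalizer_le_normalizer_frat U))
    (Subgroup.le_normalizer.trans (normalizer_le_normalizer_frat U))
    (hYU.trans (normalizer_le_normalizer_frat U)) (commutator_le_frat hUp) (frat_ne hne)
  exact ⟨u, hu, h⟩

/-- A coprime line group commuting with a group of another line acting fixed-point-freely centralises `U`. -/
theorem centralizes_pgroup_of_two {p : ℕ} [Fact p.Prime] {a b : G} (ha : a ∈ A) (ha1 : a ≠ 1) (hb : b ∈ A)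
    (hab : b ∉ zpowers a) {U Y Z : Subgroup G} (hUK : U ≤ K) (hUA : A ≤ normalizer (U : Set G))
    (hUp : IsPGroup p U) (hY : Y ≤ K ⊓ centralizer {a}) (hYA : A ≤ normalizer (Y : Set G))
    (hYU : Y ≤ normalizer (U : Set G)) (hcop : (Nat.card Y).Coprime (Nat.card U)) (hfix : U ≤ ⁅U, Y⁆)
    (hZ : Z ≤ K ⊓ centralizer {b}) (hZA : A ≤ normalizer (Z : Set G))
    (hZU : Z ≤ normalizer (U : Set G)) (hcopZ : (Nat.card Z).Coprime (Nat.card U))
    (hYZ : Y ≤ centralizer (Z : Set G)) : Z ≤ centralizer (U : Set G) := by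
  set D := frat U with hD
  have hDA : A ≤ normalizer (D : Set G) := hUA.trans (normalizer_le_normalizer_frat U)
  have hUD : U ≤ normalizer (D : Set G) := Subgroup.le_normalizer.trans (normalizer_le_normalizer_frat U)
  have hYD : Y ≤ normalizer (D : Set G) := hYU.trans (normalizer_le_normalizer_frat U)
  have hZD : Z ≤ normalizer (D : Set G) := hZU.trans (normalizer_le_normalizer_frat U)
  have hXA := inv_sup (inv_sup hUA hYA) hZA
  have hX := hO.mono (sup_le (sup_le hUK (hY.trans inf_le_left)) (hZ.trans inf_le_left)) hXA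
  have hDX : D ≤ U ⊔ Y ⊔ Z := (frat_le U).trans (le_sup_left.trans le_sup_left)
  have hq := hX.quot hDX (sup_le (sup_le hUD hYD) hZD) hDA
  have := qimg_isMulCommutative hUD (commutator_le_frat hUp)
  have hV : ⁅qimg D U, qimg D Y⁆ = qimg D U := by
    rw [qimg_commutator hUD hYD]
    exact congrArg (qimg D) (le_antisymm (Subgroup.le_normalizer_iff_commutator_le_left.1 hYU) hfix)
  have hcop' : (Nat.card (qimg D Y)).Coprime (Nat.card (qimg D U)) :=
    (hcop.coprime_dvd_left (card_qimg_dvd hYD)).coprime_dvd_right (card_qimg_dvd hUD)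
  have hCY : qimg D U ⊓ centralizer (qimg D Y : Set (QG D)) = ⊥ := by
    have h := Coprime.abelian_inf_eq_bot (qimg_le_normalizer (N := D) hYU) hcop'
    rw [hV] at h
    rw [eq_bot_iff, ← h]
    exact le_inf le_rfl inf_le_left
  have hcentr := hq.centralizes_of_two (qmk_mem_qimg ha (hx := hDA ha))
    (fun e => ha1 ((qimg_inj hO.toOp0 hDA ((frat_le U).trans hUK) ha).1 e)) (qmk_mem_qimg hb (hx := hDA hb))
    (hO.qmk_ne hDA ((frat_le U).trans hUK) ha hb hab) (qimg_mono (le_sup_left.trans le_sup_left))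
    (qimg_le_normalizer (N := D) hUA)
    (hX.qimg_line hDA (le_sup_right.trans le_sup_left) ha
      (le_inf (le_sup_right.trans le_sup_left) (hY.trans inf_le_right)))
    (qimg_le_normalizer (N := D) hYA) (qimg_le_normalizer (N := D) hYU) hCY
    (hX.qimg_line hDA le_sup_right hb (le_inf le_sup_right (hZ.trans inf_le_right)))
    (qimg_le_normalizer (N := D) hZA) (qimg_le_normalizer (N := D) hZU)
    ((hcopZ.coprime_dvd_left (card_qimg_dvd hZD)).coprime_dvd_right (card_qimg_dvd hUD))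
    (fun w hw => mem_normalizer_commutator (qimg_le_normalizer (N := D) hYU hw)
      (qimg_le_normalizer (N := D) hZU) fun z hz => by
        obtain ⟨y, hy, hyY, rfl⟩ := mem_qimg.1 hw
        obtain ⟨z, hz', hzZ, rfl⟩ := mem_qimg.1 hz
        rw [commutatorElement_eq_one_iff_mul_comm.2]
        · exact one_mem _
        · rw [← map_mul, ← map_mul]
          exact congrArg _ (Subtype.ext ((Subgroup.mem_centralizer_iff.1 (hYZ hyY) z hzZ).symm)))
  refine Coprime.le_centralizer_of_forall_mem_frattini hZU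
    (hcopZ.coprime_dvd_right (Subgroup.card_subgroup_dvd_card _)) fun z hz x hx => ?_
  refine conj_comm_mem (N := D) (hZD hz) (hUD hx) ?_
  exact (Subgroup.mem_centralizer_iff.1 (hcentr (qmk_mem_qimg hz)) _ (qmk_mem_qimg hx)).symm

end Op

end Cfsg.Agent.FPQ
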