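import Cfsg.Agent.Lib.FPQ.Pair
import Cfsg.Agent.Lib.FPQ.Lift

/-!
# Invariant Sylow subgroups for two primes: the maximal subgroups (helper25)

* `Central`: a nontrivial invariant central subgroup of a Sylow subgroup inside a line
* `trick`, `exists_not_mem`: lines inside and outside a maximal subgroup
* `no_third`: a maximal `{p, r}`-subgroup contains `P` or `R`
-/

set_option autoImplicit false
set_option linter.unusedSectionVars false

namespace Cfsg.Agent.FPQ

open Subgroup LocalCharP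
open scoped Pointwise IsMulCommutative commutatorElement

universe u

variable {G : Type u} [Group G] [Finite G]

theorem Op.centralizer_eq {q : ℕ} {A K : Subgroup G} (hO : Op q A K) {a b : G} (ha : a ∈ A) (ha1 : a ≠ 1)
    (hb : b ∈ A) (hb1 : b ≠ 1) (hab : b ∈ zpowers a) : centralizer ({b} : Set G) = centralizer {a} := by
  have h1 := Subgroup.eq_of_le_of_card_ge (zpowers_le.2 hab)
    (by rw [hO.card_zpowers ha ha1, hO.card_zpowers hb hb1])
  rw [← centralizer_closure ({b} : Set G), ← centralizer_closure ({a} : Set G), ← zpowers_eq_closure,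
    ← zpowers_eq_closure, h1]

theorem Op.exists_not_mem_two {q : ℕ} {A K : Subgroup G} (hO : Op q A K) {e f : G} (he : e ∈ A) (he1 : e ≠ 1)
    (hf : f ∈ A) (_hf1 : f ≠ 1) : ∃ c ∈ A, c ≠ 1 ∧ c ∉ zpowers e ∧ c ∉ zpowers f := by
  by_cases hfe : f ∈ zpowers e
  · obtain ⟨c, hc, hce⟩ := hO.exists_not_mem_zpowers e
    exact ⟨c, hc, hO.ne_one_of_not_mem hce, hce, fun h => hce (zpowers_le.2 hfe h)⟩
  · have hce : e * f ∉ zpowers e := fun h => hfe (by
      have := (zpowers e).mul_mem ((zpowers e).inv_mem (mem_zpowers e)) h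
      rwa [inv_mul_cancel_left] at this)
    refine ⟨e * f, A.mul_mem he hf, hO.ne_one_of_not_mem hce, hce, fun h => ?_⟩
    refine hO.not_mem_symm he he1 hf hfe ?_
    have := (zpowers f).mul_mem h ((zpowers f).inv_mem (mem_zpowers f))
    rwa [mul_inv_cancel_right] at this

/-- A nontrivial invariant central subgroup of `S`, in the line of `e`. -/
structure Central (A K S Z : Subgroup G) (e : G) : Prop where
  le : Z ≤ S
  cent : S ≤ centralizer (Z : Set G)
  inv : A ≤ normalizer (Z : Set G)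
  ne : Z ≠ ⊥
  mem : e ∈ A
  ne1 : e ≠ 1
  line : Z ≤ K ⊓ centralizer {e}

namespace PrPair

variable {q : ℕ} {A K : Subgroup G} {p r : ℕ} {P R : Subgroup G} (h : PrPair q A K p r P R)
include h

theorem exists_central : ∃ (Z : Subgroup G) (e : G), Central A K P Z e := by
  have := Fact.mk h.pPrime
  set C := P ⊓ centralizer (P : Set G) with hC
  have := h.isylP.pgroup.isNilpotent
  have : Nontrivial P := (Subgroup.nontrivial_iff_ne_bot P).2 h.P_ne_bot
  have hne : C ≠ ⊥ := by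
    intro e
    apply Group.IsNilpotent.center_ne_bot (G := P)
    rw [Subgroup.eq_bot_iff_forall]
    intro x hx
    have : (x : G) ∈ C := ⟨x.2, Subgroup.mem_centralizer_iff.2 fun y hy =>
      congrArg Subtype.val (Subgroup.mem_center_iff.1 hx ⟨y, hy⟩)⟩
    rw [e, Subgroup.mem_bot] at this
    exact Subtype.ext this
  have hCA : A ≤ normalizer (C : Set G) := inv_inf h.isylP.inv (inv_centralizer h.isylP.inv)
  obtain ⟨a, ha, ha1, hle⟩ := h.toCx.toOp.exists_line_not_le (inf_le_left.trans h.isylP.le) hCA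
    (fun e => hne (le_bot_iff.1 e) : ¬ C ≤ ⊥)
  refine ⟨C ⊓ centralizer {a}, a, inf_le_left.trans inf_le_left, ?_, h.toCx.toOp.inv_inf_line ha hCA,
    fun e => hle e.le, ha, ha1, inf_le_inf_right _ (inf_le_left.trans h.isylP.le)⟩
  rw [Subgroup.le_centralizer_iff]
  exact inf_le_left.trans inf_le_right

theorem isPr_line {a : G} (ha : a ∈ A) : IsPr A K p r (P ⊓ centralizer {a}) :=
  h.isPr_of_pgroup (inf_le_left.trans h.isylP.le) (h.toCx.toOp.inv_inf_line ha h.isylP.inv)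
    (h.isylP.pgroup.to_le inf_le_left)

theorem isPr_lineR {a : G} (ha : a ∈ A) : IsPr A K p r (R ⊓ centralizer {a}) :=
  (h.symm.isPr_line ha).symm

theorem isPr_P : IsPr A K p r P := h.isPr_of_pgroup h.isylP.le h.isylP.inv h.isylP.pgroup

theorem isPr_R : IsPr A K p r R := h.symm.isPr_P.symm

theorem isPr_central {Z : Subgroup G} {e : G} (hZ : Central A K P Z e) : IsPr A K p r Z :=
  h.isPr_of_pgroup (hZ.le.trans h.isylP.le) hZ.inv (h.isylP.pgroup.to_le hZ.le)

theorem isPr_centralR {Y : Subgroup G} {f : G} (hY : Central A K R Y f) : IsPr A K p r Y :=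
  (h.symm.isPr_central hY).symm

theorem cop_of {U Y : Subgroup G} (hU : U ≤ P) (hY : Y ≤ R) : (Nat.card Y).Coprime (Nat.card U) := by
  have := Fact.mk h.pPrime
  have := Fact.mk h.rPrime
  exact coprime_card_of_isPGroup h.pne.symm (h.isylP.pgroup.to_le hU) (h.isylR.pgroup.to_le hY)

theorem solvR {Y : Subgroup G} (hY : Y ≤ R) : Group.IsSolvable Y := by
  have := Fact.mk h.rPrime
  have := (h.isylR.pgroup.to_le hY).isNilpotent
  infer_instance

/-- The basic properties of `[O_p(M), Y]`. -/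
theorem core_comm {M Y : Subgroup G} (hM : IsPr A K p r M) (hYM : Y ≤ M) (hYR : Y ≤ R)
    (hYA : A ≤ normalizer (Y : Set G)) :
    ⁅pCoreIn p M, Y⁆ ≤ pCoreIn p M ∧ A ≤ normalizer ((⁅pCoreIn p M, Y⁆ : Subgroup G) : Set G) ∧
      M ≤ normalizer ((⁅pCoreIn p M, Y⁆ : Subgroup G) : Set G) ∧
      ⁅pCoreIn p M, Y⁆ ≤ ⁅⁅pCoreIn p M, Y⁆, Y⁆ := by
  have := Fact.mk h.pPrime
  have := Fact.mk h.rPrime
  have hn : Y ≤ normalizer (pCoreIn p M : Set G) := hYM.trans (le_normalizer_pCoreIn p M)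
  refine ⟨Subgroup.le_normalizer_iff_commutator_le_left.1 hn, inv_commutator (h.core_inv hM.inv p) hYA,
    le_normalizer_core_commutator hM.inv (h.copM hM) h.solvA (h.nil hM) hYM
      (coprime_of_isPGroup h.pne.symm (h.isylR.pgroup.to_le hYR)), ?_⟩
  exact (Coprime.commutator_commutator_eq hn (h.cop_of ((h.core_le_P hM).trans inf_le_right) hYR)
    (Or.inl (h.solvR hYR))).ge

theorem core_not_centralized {M Y : Subgroup G} {f : G} (hM : IsMaxPr A K p r M) (hR : ¬ R ≤ M)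
    (hY : Central A K R Y f) (_hYM : Y ≤ M) : ¬ Y ≤ centralizer (pCoreIn p M : Set G) := by
  have := Fact.mk h.pPrime
  intro hc
  obtain ⟨X, hX, hXall⟩ := h.exists_max_centralizer (hY.le.trans h.isylR.le) hY.inv hY.ne
  have hRX : R ≤ X := hXall R h.isPr_R hY.cent
  have hpX : pCoreIn p M ≤ X := hXall _ (hM.1.mono (pCoreIn_le p M) (h.core_inv hM.1.inv p))
    (Subgroup.le_centralizer_iff.1 hc)
  by_cases hr0 : pCoreIn r M = ⊥
  · obtain ⟨hPM, hn⟩ := h.le_of_core_eq_bot hM hr0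
    exact h.notPerm X hX.1 ((le_pCoreIn hPM h.isylP.pgroup hn).trans hpX) hRX
  · exact hR (hRX.trans (h.le_of_fitting hM (h.symm.core_ne_bot_of_not_le hM.symm hR) hr0 hX.1 hpX
      (((h.core_le_R hM.1).trans inf_le_right).trans hRX)))

theorem core_comm_ne {M Y : Subgroup G} {f : G} (hM : IsMaxPr A K p r M) (hR : ¬ R ≤ M)
    (hY : Central A K R Y f) (hYM : Y ≤ M) : ⁅pCoreIn p M, Y⁆ ≠ ⊥ := fun e =>
  h.core_not_centralized hM hR hY hYM (centralizer_of_commutator_eq_bot e)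

/-- A line of `R` lies in a maximal subgroup containing `P`. -/
theorem trick {M Y X₀ : Subgroup G} {f c : G} (hM : IsMaxPr A K p r M) (hPM : P ≤ M)
    (hY : Central A K R Y f) (hYM : Y ≤ M) (hc : c ∈ A) (hc1 : c ≠ 1) (hXne : X₀ ≠ ⊥)
    (hXA : A ≤ normalizer (X₀ : Set G)) (hXl : X₀ ≤ K ⊓ centralizer {c})
    (hXY : X₀ ≤ centralizer (Y : Set G))
    (hXU : X₀ ≤ centralizer ((⁅pCoreIn p M, Y⁆ : Subgroup G) : Set G)) :
    R ⊓ centralizer {c} ≤ M := by
  have := Fact.mk h.pPrime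
  have hR : ¬ R ≤ M := fun e => h.notPerm M hM.1 hPM e
  obtain ⟨hU1, hU2, hU3, hU4⟩ := h.core_comm hM.1 hYM hY.le hY.inv
  set U := ⁅pCoreIn p M, Y⁆ with hUdef
  obtain ⟨M', hM', hall⟩ := h.exists_max_centralizer (hXl.trans inf_le_left) hXA hXne
  have hUM : U ≤ M' := hall U (hM.1.mono (hU1.trans (pCoreIn_le p M)) hU2)
    (Subgroup.le_centralizer_iff.1 hXU)
  have hYM' : Y ≤ M' := hall Y (h.isPr_centralR hY) (Subgroup.le_centralizer_iff.1 hXY)
  have hRc : R ⊓ centralizer {c} ≤ M' := hall _ (h.isPr_lineR hc)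
    (h.toCx.toOp.le_centralizer_line hc hc1 (inf_le_inf_right _ h.isylR.le) hXl)
  obtain ⟨hV1, hV2, hV3, hV4⟩ := h.core_comm hM'.1 hYM' hY.le hY.inv
  set V := ⁅pCoreIn p M', Y⁆ with hVdef
  have hUV : U ≤ V := le_core_commutator (h.nil hM'.1) hUM hYM' ((isPGroup_pCoreIn p M).to_le hU1) hU4
  have hVU : V ≤ U := le_core_commutator (h.nil hM.1)
    ((hV1.trans ((h.core_le_P hM'.1).trans inf_le_right)).trans hPM) hYM ((isPGroup_pCoreIn p M').to_le hV1) hV4
  refine h.le_of_normalizer hM (hU1.trans (pCoreIn_le p M)) hU2 (h.core_comm_ne hM hR hY hYM) hU3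
    (h.isPr_lineR hc) ?_
  rw [show U = V from le_antisymm hUV hVU]
  exact hRc.trans hV3

theorem center_le {H Z : Subgroup G} {e : G} (hH : IsMaxPr A K p r H) (hPH : P ≤ H)
    (hZ : Central A K P Z e) {b : G} (hb : b ∈ A) (hb1 : b ≠ 1) (hbe : b ∈ zpowers e) :
    R ⊓ centralizer {b} ≤ H := by
  obtain ⟨M, hM, hall⟩ := h.exists_max_centralizer (hZ.le.trans h.isylP.le) hZ.inv hZ.ne
  rw [h.eq_of_sylow_le hH hM hPH (hall P h.isPr_P hZ.cent)]
  refine hall _ (h.isPr_lineR hb) ?_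
  rw [h.toCx.toOp.centralizer_eq hZ.mem hZ.ne1 hb hb1 hbe]
  exact h.toCx.toOp.le_centralizer_line hZ.mem hZ.ne1 (inf_le_inf_right _ h.isylR.le) hZ.line

theorem central_le_of_core_ne {H Y : Subgroup G} {f : G} (hH : IsMaxPr A K p r H)
    (h0 : pCoreIn r H ≠ ⊥) (hY : Central A K R Y f) : Y ≤ H := by
  refine h.le_of_normalizer hH (pCoreIn_le r H) (h.core_inv hH.1.inv r) h0 (le_normalizer_pCoreIn r H)
    (h.isPr_centralR hY) (le_trans ?_ (Subgroup.centralizer_le_normalizer _))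
  exact Subgroup.le_centralizer_iff.1 (((h.core_le_R hH.1).trans inf_le_right).trans hY.cent)

/-- Central subgroups of `P` lie in `O_p` of the maximal subgroup containing `P`. -/
theorem central_le_core {H Z : Subgroup G} {e : G} (hH : IsMaxPr A K p r H) (hPH : P ≤ H)
    (hZ : Central A K P Z e) : Z ≤ pCoreIn p H := by
  have := Fact.mk h.pPrime
  have := Fact.mk h.rPrime
  by_cases h0 : pCoreIn r H = ⊥
  · exact hZ.le.trans (le_pCoreIn hPH h.isylP.pgroup (h.le_of_core_eq_bot hH h0).2)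
  by_contra hne
  have hZH : Z ≤ H := hZ.le.trans hPH
  have hnc : ¬ Z ≤ centralizer (pCoreIn r H : Set G) := fun hc =>
    hne (h.symm.le_core_of_centralizes hH.1.symm hZH (h.isylP.pgroup.to_le hZ.le) hc)
  obtain ⟨Y, f, hY⟩ := h.symm.exists_central
  have hYH : Y ≤ H := h.central_le_of_core_ne hH h0 hY
  obtain ⟨hU1, hU2, hU3, hU4⟩ := h.symm.core_comm hH.1.symm hZH hZ.le hZ.inv
  have hUne : ⁅pCoreIn r H, Z⁆ ≠ ⊥ := fun e => hnc (centralizer_of_commutator_eq_bot e)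
  have hall : ∀ b ∈ A, b ≠ 1 → R ⊓ centralizer {b} ≤ H := by
    intro b hb hb1
    by_cases hbe : b ∈ zpowers e
    · exact h.center_le hH hPH hZ hb hb1 hbe
    obtain ⟨u, hu, hu'⟩ := h.toCx.toOp.exists_fixed_not_commute hZ.mem hZ.ne1 hb hbe
      ((hU1.trans (pCoreIn_le r H)).trans hH.1.le) hU2 ((isPGroup_pCoreIn r H).to_le hU1) hZ.line hZ.inv
      (hZH.trans hU3) (h.symm.cop_of (hU1.trans ((h.core_le_R hH.1).trans inf_le_right)) hZ.le) hU4 hUne
    refine h.trick hH hPH hY hYH hb hb1 (X₀ := pCoreIn r H ⊓ centralizer {b}) ?_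
      (h.toCx.toOp.inv_inf_line hb (h.core_inv hH.1.inv r))
      (inf_le_inf_right _ ((pCoreIn_le r H).trans hH.1.le))
      (inf_le_left.trans (((h.core_le_R hH.1).trans inf_le_right).trans hY.cent)) ?_
    · intro e0
      have hu1 : u = 1 := Subgroup.mem_bot.1 (e0 ▸ (⟨hU1 hu.1, hu.2⟩ : u ∈ pCoreIn r H ⊓ centralizer {b}))
      exact hu' (hu1 ▸ one_mem _)
    · refine inf_le_left.trans ((h.core_commute hH.1).trans (Subgroup.centralizer_le ?_))
      exact SetLike.coe_subset_coe.2 (h.core_comm hH.1 hYH hY.le hY.inv).1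
  exact h.notPerm H hH.1 hPH (h.toCx.toOp.le_of_lines h.isylR.le h.isylR.inv hall)

/-- A maximal subgroup `M ∌ P` containing a central subgroup of `P` meets the other lines of `R` outside `H`. -/
theorem exists_not_mem {H M Z : Subgroup G} {e : G} (hH : IsMaxPr A K p r H) (hPH : P ≤ H)
    (hM : IsMaxPr A K p r M) (hPM : ¬ P ≤ M) (hZ : Central A K P Z e) (hZM : Z ≤ M) {b : G}
    (hb : b ∈ A) (hbe : b ∉ zpowers e) : ∃ u ∈ pCoreIn r M ⊓ centralizer {b}, u ∉ H := by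
  have := Fact.mk h.pPrime
  have := Fact.mk h.rPrime
  obtain ⟨hU1, hU2, hU3, hU4⟩ := h.symm.core_comm hM.1.symm hZM hZ.le hZ.inv
  obtain ⟨u, hu, hu'⟩ := h.toCx.toOp.exists_fixed_not_commute hZ.mem hZ.ne1 hb hbe
    ((hU1.trans (pCoreIn_le r M)).trans hM.1.le) hU2 ((isPGroup_pCoreIn r M).to_le hU1) hZ.line hZ.inv
    (hZM.trans hU3) (h.symm.cop_of (hU1.trans ((h.core_le_R hM.1).trans inf_le_right)) hZ.le) hU4
    (h.symm.core_comm_ne hM.symm hPM hZ hZM)
  refine ⟨u, ⟨hU1 hu.1, hu.2⟩, fun huH => hu' (Subgroup.mem_centralizer_iff.2 fun z hz => ?_)⟩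
  have hz' : z ∈ pCoreIn p H := h.central_le_core hH hPH hZ hz
  have e1 : ⁅u, z⁆ ∈ pCoreIn p H := by
    rw [commutatorElement_def]
    exact Subgroup.mul_mem _ (commute_conj_mem (le_normalizer_pCoreIn p H huH) hz') (Subgroup.inv_mem _ hz')
  have e2 : ⁅u, z⁆ ∈ pCoreIn r M :=
    (Subgroup.le_normalizer_iff_commutator_le_left.1 (hZM.trans (le_normalizer_pCoreIn r M)))
      (Subgroup.commutator_mem_commutator (hU1 hu.1) hz)
  exact (commutatorElement_eq_one_iff_mul_comm.1 (disjoint_of_coprime (isPGroup_pCoreIn p H)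
    (coprime_of_isPGroup h.pne.symm (isPGroup_pCoreIn r M)) e1 e2)).symm

/-- A maximal `{p, r}`-subgroup contains `P` or `R`. -/
theorem no_third {M : Subgroup G} (hM : IsMaxPr A K p r M) : P ≤ M ∨ R ≤ M := by
  have := Fact.mk h.pPrime
  have := Fact.mk h.rPrime
  by_contra hcon
  obtain ⟨Z, e, hZ⟩ := h.exists_central
  obtain ⟨Y, f, hY⟩ := h.symm.exists_central
  obtain ⟨H, hH, hPH⟩ := h.exists_max h.isPr_P
  obtain ⟨M₀, ⟨hM₀, hP₀, hR₀⟩, hmax⟩ := Set.exists_max_image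
    {N : Subgroup G | IsMaxPr A K p r N ∧ ¬ P ≤ N ∧ ¬ R ≤ N}
    (fun N => Nat.card (⁅pCoreIn p N, Y⁆ : Subgroup G)) (Set.toFinite _)
    ⟨M, hM, fun h1 => hcon (Or.inl h1), fun h1 => hcon (Or.inr h1)⟩
  have hr0 := h.core_ne_bot_of_not_le hM₀ hP₀
  have hp0 := h.symm.core_ne_bot_of_not_le hM₀.symm hR₀
  have hYM : Y ≤ M₀ := h.central_le_of_core_ne hM₀ hr0 hY
  have hZM : Z ≤ M₀ := h.symm.central_le_of_core_ne hM₀.symm hp0 hZ
  obtain ⟨hU1, hU2, hU3, hU4⟩ := h.core_comm hM₀.1 hYM hY.le hY.inv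
  set U := ⁅pCoreIn p M₀, Y⁆ with hUdef
  have hUne : U ≠ ⊥ := h.core_comm_ne hM₀ hR₀ hY hYM
  have hlines : ∀ b ∈ A, b ≠ 1 → b ∉ zpowers e → R ⊓ centralizer {b} ≤ M₀ := by
    intro b hb hb1 hbe
    obtain ⟨u, hu, huH⟩ := h.exists_not_mem hH hPH hM₀ hP₀ hZ hZM hb hbe
    set X₀ := pCoreIn r M₀ ⊓ centralizer ({b} : Set G) with hX0
    have hX0R : X₀ ≤ R := inf_le_left.trans ((h.core_le_R hM₀.1).trans inf_le_right)
    have hXne : X₀ ≠ ⊥ := fun e0 => huH ((Subgroup.mem_bot.1 (e0 ▸ hu : u ∈ (⊥ : Subgroup G))) ▸ one_mem H)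
    obtain ⟨M', hM', hall⟩ := h.exists_max_centralizer (hX0R.trans h.isylR.le)
      (h.toCx.toOp.inv_inf_line hb (h.core_inv hM₀.1.inv r)) hXne
    have hUM : U ≤ M' := hall U (hM₀.1.mono (hU1.trans (pCoreIn_le p M₀)) hU2)
      (hU1.trans (Subgroup.le_centralizer_iff.1 (inf_le_left.trans (h.core_commute hM₀.1))))
    have hYM' : Y ≤ M' := hall Y (h.isPr_centralR hY) (Subgroup.le_centralizer_iff.1 (hX0R.trans hY.cent))
    have hRb : R ⊓ centralizer {b} ≤ M' := hall _ (h.isPr_lineR hb)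
      (h.toCx.toOp.le_centralizer_line hb hb1 (inf_le_inf_right _ h.isylR.le)
        (inf_le_inf_right _ ((pCoreIn_le r M₀).trans hM₀.1.le)))
    obtain ⟨hV1, hV2, hV3, hV4⟩ := h.core_comm hM'.1 hYM' hY.le hY.inv
    have hUV : U ≤ ⁅pCoreIn p M', Y⁆ :=
      le_core_commutator (h.nil hM'.1) hUM hYM' ((isPGroup_pCoreIn p M₀).to_le hU1) hU4
    have hPM' : ¬ P ≤ M' := fun hP => huH (by
      rw [h.eq_of_sylow_le hH hM' hPH hP]
      exact hRb ⟨((h.core_le_R hM₀.1).trans inf_le_right) hu.1, hu.2⟩)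
    have hRM' : ¬ R ≤ M' := by
      intro hRM'
      have hcore : pCoreIn p M' ≠ ⊥ := fun e0 => hUne (le_bot_iff.1 (e0 ▸ hUV.trans hV1))
      have hZM' : Z ≤ M' := h.symm.central_le_of_core_ne hM'.symm hcore hZ
      obtain ⟨c, hc, hc1, hce, hcf⟩ := h.toCx.toOp.exists_not_mem_two hZ.mem hZ.ne1 hY.mem hY.ne1
      obtain ⟨v, hv, hv'⟩ := h.toCx.toOp.exists_fixed_not_commute hY.mem hY.ne1 hc hcf
        ((hU1.trans (pCoreIn_le p M₀)).trans hM₀.1.le) hU2 ((isPGroup_pCoreIn p M₀).to_le hU1) hY.line hY.inv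
        (hYM.trans hU3) (h.cop_of (hU1.trans ((h.core_le_P hM₀.1).trans inf_le_right)) hY.le) hU4 hUne
      have hle : P ⊓ centralizer {c} ≤ M' := by
        refine h.symm.trick hM'.symm hRM' hZ hZM' hc hc1 (X₀ := pCoreIn p M' ⊓ centralizer {c}) ?_
          (h.toCx.toOp.inv_inf_line hc (h.core_inv hM'.1.inv p))
          (inf_le_inf_right _ ((pCoreIn_le p M').trans hM'.1.le))
          (inf_le_left.trans (((h.core_le_P hM'.1).trans inf_le_right).trans hZ.cent)) ?_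
        · intro e0
          have hv1 : v = 1 := Subgroup.mem_bot.1
            (e0 ▸ (⟨hV1 (hUV hv.1), hv.2⟩ : v ∈ pCoreIn p M' ⊓ centralizer {c}))
          exact hv' (hv1 ▸ one_mem _)
        · refine inf_le_left.trans ((h.symm.core_commute hM'.1.symm).trans (Subgroup.centralizer_le ?_))
          exact SetLike.coe_subset_coe.2 (h.symm.core_comm hM'.1.symm hZM' hZ.le hZ.inv).1
      obtain ⟨w, hw, hwK⟩ := h.symm.exists_not_mem hM'.symm hRM' hM₀.symm hR₀ hY hYM hc hcf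
      exact hwK (hle ⟨((h.core_le_P hM₀.1).trans inf_le_right) hw.1, hw.2⟩)
    have heq : U = ⁅pCoreIn p M', Y⁆ :=
      Subgroup.eq_of_le_of_card_ge hUV (hmax M' ⟨hM', hPM', hRM'⟩)
    exact hRb.trans (h.le_of_normalizer hM₀ (hU1.trans (pCoreIn_le p M₀)) hU2 hUne hU3 hM'.1 (heq ▸ hV3))
  -- the normaliser of `R ∩ M₀` in `R` lies in `M₀`
  obtain ⟨hW1, hW2, hW3, hW4⟩ := h.symm.core_comm hM₀.1.symm hZM hZ.le hZ.inv
  set W := ⁅pCoreIn r M₀, Z⁆ with hWdef
  have hWne : W ≠ ⊥ := h.symm.core_comm_ne hM₀.symm hP₀ hZ hZM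
  set S := R ⊓ M₀ with hS
  have hSA : A ≤ normalizer (S : Set G) := inv_inf h.isylR.inv hM₀.1.inv
  have hN : R ⊓ normalizer (S : Set G) ≤ M₀ := by
    refine h.toCx.toOp.le_of_lines (inf_le_left.trans h.isylR.le)
      (inv_inf h.isylR.inv (inv_normalizer hSA)) fun a ha ha1 => ?_
    by_cases hae : a ∈ zpowers e
    swap
    · exact (inf_le_inf_right _ inf_le_left).trans (hlines a ha ha1 hae)
    set N1 := R ⊓ normalizer (S : Set G) ⊓ centralizer ({a} : Set G) with hN1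
    have hN1A : A ≤ normalizer (N1 : Set G) :=
      h.toCx.toOp.inv_inf_line ha (inv_inf h.isylR.inv (inv_normalizer hSA))
    refine h.le_of_normalizer hM₀ (hW1.trans (pCoreIn_le r M₀)) hW2 hWne hW3
      (h.symm.isPr_of_pgroup ((inf_le_left.trans inf_le_left).trans h.isylR.le) hN1A
        (h.isylR.pgroup.to_le (inf_le_left.trans inf_le_left))).symm fun n hn => ?_
    have hnZ : MulAut.conj n • Z = Z := by
      refine Coprime.conj_eq_of_mem_normalizer (Subgroup.centralizer_le_normalizer _ ?_)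
      refine h.toCx.toOp.le_centralizer_line hZ.mem hZ.ne1 ?_ hZ.line hn
      rw [← h.toCx.toOp.centralizer_eq hZ.mem hZ.ne1 ha ha1 hae]
      exact inf_le_inf_right _ (inf_le_left.trans h.isylR.le)
    have hWS : W ≤ S := le_inf (hW1.trans ((h.core_le_R hM₀.1).trans inf_le_right))
      (hW1.trans (pCoreIn_le r M₀))
    set W' := MulAut.conj n • W with hW'
    have hW'S : W' ≤ S := (Subgroup.map_mono hWS).trans (Coprime.conj_eq_of_mem_normalizer hn.1.2).le
    have hW'W : W' ≤ ⁅W', Z⁆ := by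
      have h1 : MulAut.conj n • W ≤ MulAut.conj n • ⁅W, Z⁆ := Subgroup.map_mono hW4
      have h2 : MulAut.conj n • ⁅W, Z⁆ = ⁅MulAut.conj n • W, MulAut.conj n • Z⁆ :=
        Subgroup.map_commutator _ _ _
      rw [h2, hnZ] at h1
      exact h1
    have hle : W' ≤ W := le_core_commutator (h.nil hM₀.1) (hW'S.trans inf_le_right) hZM
      (h.isylR.pgroup.to_le (hW'S.trans inf_le_left)) hW'W
    exact Coprime.mem_normalizer_of_forall fun x hx => hle (Coprime.conj_mem_conj.2 hx)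
  have hSR : S = R := h.symm.eq_of_normalizer_le inf_le_left (le_inf inf_le_left hN)
  exact hR₀ (inf_eq_left.1 hSR)

end PrPair

end Cfsg.Agent.FPQ
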