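import Cfsg.Agent.Lib.FPQ.Argument
import Cfsg.Agent.Lib.PLocal.Complements
import Cfsg.Agent.Lib.Transfer.NilpotentHall

/-!
# Invariant Sylow subgroups permute in a minimal counterexample (helper25)

* `false_of_complement`, `not_le_line`
* `PrPair.false`: there is no pair of non-permuting invariant Sylow subgroups
-/

set_option autoImplicit false
set_option linter.unusedSectionVars false

namespace Cfsg.Agent.FPQ

open Subgroup LocalCharP
open scoped Pointwise IsMulCommutative commutatorElement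

universe u

variable {G : Type u} [Group G] [Finite G]

namespace PrPair

variable {q : ℕ} {A K : Subgroup G} {p r : ℕ} {P R : Subgroup G} (h : PrPair q A K p r P R)
include h

theorem exists_sylow : ∃ S : Sylow p K, (S : Subgroup K).map K.subtype = P := by
  have := Fact.mk h.pPrime
  obtain ⟨S, hSA, hS⟩ := h.toCx.exists_isylow p
  exact ⟨S, le_antisymm (h.isylP.max _ (map_subtype_le _) hSA (S.2.map _))
    (hS P h.isylP.le h.isylP.inv h.isylP.pgroup)⟩

theorem false_of_complement {N : Subgroup K} (hN : N.Normal) (hc : (Nat.card N).Coprime p)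
    (hsup : ∀ S : Sylow p K, N ⊔ S = ⊤) : False := by
  have := Fact.mk h.pPrime
  obtain ⟨S, hS⟩ := h.exists_sylow
  have hle : N.map K.subtype ≤ opc p K := map_mono (Cores.le_pPrimeCore hN hc)
  rcases h.toCx.min (opc p K) (opc_le p K) (h.norm.trans (normalizer_le_normalizer_opc p K))
    (le_normalizer_opc p K) with e | e
  · have hN0 : N = ⊥ := (Subgroup.map_eq_bot_iff_of_injective _ K.subtype_injective).1 (le_bot_iff.1 (e ▸ hle))
    have h1 := hsup S
    rw [hN0, bot_sup_eq] at h1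
    have : IsPGroup p K := (h1 ▸ S.2 : IsPGroup p (⊤ : Subgroup K)).of_equiv Subgroup.topEquiv
    have := this.isNilpotent
    exact h.nsol inferInstance
  · refine h.P_ne_bot ((Subgroup.eq_bot_iff_forall _).2 fun x hx => ?_)
    exact disjoint_of_coprime h.isylP.pgroup (coprime_card_opc p K) hx (e.symm ▸ h.isylP.le hx)

theorem not_le_line {a : G} (ha : a ∈ A) (ha1 : a ≠ 1) : ¬ P ≤ centralizer {a} := by
  intro hP
  have := Fact.mk h.pPrime
  have hO := h.toCx.toOp
  have hPl : P ≤ K ⊓ centralizer {a} := le_inf h.isylP.le hP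
  have hNC : K ⊓ normalizer (P : Set G) ≤ centralizer (P : Set G) := by
    refine hO.le_of_lines inf_le_left (inv_inf h.norm (inv_normalizer h.isylP.inv)) fun b hb hb1 => ?_
    by_cases hba : b ∈ zpowers a
    · refine hO.le_centralizer_line ha ha1 ?_ hPl
      rw [← hO.centralizer_eq ha ha1 hb hb1 hba]
      exact inf_le_inf_right _ inf_le_left
    set Nb := K ⊓ normalizer (P : Set G) ⊓ centralizer ({b} : Set G) with hNb
    have hNbA : A ≤ normalizer (Nb : Set G) :=
      hO.inv_inf_line hb (inv_inf h.norm (inv_normalizer h.isylP.inv))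
    intro y hy
    let φ : Nb → Nb := fun v => ⟨(v : G)⁻¹ * (a * v * a⁻¹),
      Nb.mul_mem (Nb.inv_mem v.2) (commute_conj_mem (hNbA ha) v.2)⟩
    have hinj : Function.Injective φ := by
      intro v w hvw
      have h1 : (v : G)⁻¹ * (a * v * a⁻¹) = (w : G)⁻¹ * (a * w * a⁻¹) := congrArg Subtype.val hvw
      have hm : (w : G) * (v : G)⁻¹ ∈ Nb := Nb.mul_mem w.2 (Nb.inv_mem v.2)
      have h2 : a * ((w : G) * (v : G)⁻¹) * a⁻¹ = (w : G) * (v : G)⁻¹ := by
        calc a * ((w : G) * (v : G)⁻¹) * a⁻¹ = (a * w * a⁻¹) * (a * v * a⁻¹)⁻¹ := by group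
          _ = w * ((w : G)⁻¹ * (a * w * a⁻¹)) * (v * ((v : G)⁻¹ * (a * v * a⁻¹)))⁻¹ := by group
          _ = w * ((v : G)⁻¹ * (a * v * a⁻¹)) * ((v : G)⁻¹ * (a * v * a⁻¹))⁻¹ * (v : G)⁻¹ := by
            rw [← h1]; group
          _ = w * (v : G)⁻¹ := by group
      have h3 : (w : G) * (v : G)⁻¹ = 1 := hO.eq_one_of_two hb hb1 ha
        (hO.not_mem_symm ha ha1 hb hba) hm.1.1 hm.2
        (Subgroup.mem_centralizer_singleton_iff.2 (mul_inv_eq_iff_eq_mul.1 h2).symm)
      exact Subtype.ext (mul_inv_eq_one.1 h3).symm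
    obtain ⟨v, hv⟩ := (Finite.injective_iff_surjective.1 hinj) ⟨y, hy⟩
    have hy' : y = (v : G)⁻¹ * (a * v * a⁻¹) := (congrArg Subtype.val hv).symm
    refine Subgroup.mem_centralizer_iff.2 fun s hs => ?_
    have hfix : ∀ t ∈ P, a * t * a⁻¹ = t := fun t ht => by
      rw [mul_inv_eq_iff_eq_mul]
      exact (Subgroup.mem_centralizer_singleton_iff.1 (hP ht)).symm
    have h4 : (a * v * a⁻¹) * s * (a * v * a⁻¹)⁻¹ = v * s * (v : G)⁻¹ := by
      calc (a * v * a⁻¹) * s * (a * v * a⁻¹)⁻¹ = a * (v * (a⁻¹ * (a * s * a⁻¹) * a) * (v : G)⁻¹) * a⁻¹ := by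
            rw [hfix s hs]; group
        _ = a * (v * s * (v : G)⁻¹) * a⁻¹ := by group
        _ = v * s * (v : G)⁻¹ := hfix _ (commute_conj_mem v.2.1.2 hs)
    have h5 : y * s * y⁻¹ = s := by
      calc y * s * y⁻¹ = (v : G)⁻¹ * ((a * v * a⁻¹) * s * (a * v * a⁻¹)⁻¹) * v := by rw [hy']; group
        _ = s := by rw [h4]; group
    rw [mul_inv_eq_iff_eq_mul] at h5
    exact h5.symm
  obtain ⟨S, hS⟩ := h.exists_sylow
  obtain ⟨N, hN, hc⟩ := Transfer.exists_normal_complement_of_normalizer_le_centralizer (S : Subgroup K)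
    S.card_coprime_index (fun x hx => by
      refine Subgroup.mem_centralizer_iff.2 fun y hy => Subtype.ext ?_
      have hxN : (x : G) ∈ normalizer (P : Set G) := by
        refine Coprime.mem_normalizer_of_forall ?_
        rw [← hS]
        rintro _ ⟨z, hz, rfl⟩
        exact ⟨_, (Subgroup.mem_normalizer_iff.1 hx z).1 hz, rfl⟩
      exact Subgroup.mem_centralizer_iff.1 (hNC ⟨x.2, hxN⟩) y (hS ▸ ⟨y, hy, rfl⟩))
  refine h.false_of_complement hN ?_ fun T => ?_
  · have h1 : Nat.card N = (S : Subgroup K).index := hc.index_eq_card.symm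
    rw [h1, Nat.coprime_comm]
    exact h.pPrime.coprime_iff_not_dvd.2 S.not_dvd_index
  · have h1 : Nat.card N * Nat.card (T : Subgroup K) = Nat.card K := by
      rw [T.card_eq_multiplicity, ← S.card_eq_multiplicity]; exact hc.card_mul_card
    refine (Subgroup.isComplement'_of_coprime h1 ?_).sup_eq_top
    rw [T.card_eq_multiplicity]
    refine Nat.Coprime.pow_right _ ?_
    rw [hc.index_eq_card.symm, Nat.coprime_comm]
    exact h.pPrime.coprime_iff_not_dvd.2 S.not_dvd_index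

theorem le_H_or_le_K {H Kk : Subgroup G} (hH : IsMaxPr A K p r H) (hPH : P ≤ H) (hKk : IsMaxPr A K p r Kk)
    (hRK : R ≤ Kk) {M : Subgroup G} (hM : IsMaxPr A K p r M) : M = H ∨ M = Kk :=
  (h.no_third hM).imp (fun e => h.eq_of_sylow_le hM hH e hPH)
    (fun e => h.symm.eq_of_sylow_le hM.symm hKk.symm e hRK)

theorem line_cases {H Kk : Subgroup G} (hH : IsMaxPr A K p r H) (hPH : P ≤ H) (hKk : IsMaxPr A K p r Kk)
    (hRK : R ≤ Kk) {b : G} (hb : b ∈ A) (hb1 : b ≠ 1) :
    R ⊓ centralizer {b} ≤ H ∨ P ⊓ centralizer {b} ≤ Kk := by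
  by_cases h0 : P ⊓ centralizer ({b} : Set G) = ⊥
  · exact Or.inr (h0 ▸ bot_le)
  have hO := h.toCx.toOp
  obtain ⟨M, hM, hall⟩ := h.exists_max_centralizer (inf_le_left.trans h.isylP.le)
    (hO.inv_inf_line hb h.isylP.inv) h0
  have h1 : R ⊓ centralizer {b} ≤ M := hall _ (h.isPr_lineR hb)
    (hO.le_centralizer_line hb hb1 (inf_le_inf_right _ h.isylR.le) (inf_le_inf_right _ h.isylP.le))
  have h2 : P ⊓ centralizer {b} ≤ M := hall _ (h.isPr_line hb)
    (hO.le_centralizer_line hb hb1 (inf_le_inf_right _ h.isylP.le) (inf_le_inf_right _ h.isylP.le))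
  rcases h.le_H_or_le_K hH hPH hKk hRK hM with rfl | rfl
  · exact Or.inl h1
  · exact Or.inr h2

theorem case_both {H Kk Z Y : Subgroup G} {e f : G} (hH : IsMaxPr A K p r H) (hPH : P ≤ H)
    (hKk : IsMaxPr A K p r Kk) (hRK : R ≤ Kk) (hZ : Central A K P Z e) (hZK : Z ≤ Kk)
    (hY : Central A K R Y f) (hYH : Y ≤ H) : False := by
  obtain ⟨c, hc, hc1, hce, hcf⟩ := h.toCx.toOp.exists_not_mem_two hZ.mem hZ.ne1 hY.mem hY.ne1
  obtain ⟨u, hu, huH⟩ := h.exists_not_mem hH hPH hKk (fun e => h.notPerm Kk hKk.1 e hRK) hZ hZK hc hce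
  obtain ⟨v, hv, hvK⟩ := h.symm.exists_not_mem hKk.symm hRK hH.symm (fun e => h.notPerm H hH.1 hPH e) hY hYH hc hcf
  rcases h.line_cases hH hPH hKk hRK hc hc1 with hl | hl
  · exact huH (hl ⟨((h.core_le_R hKk.1).trans inf_le_right) hu.1, hu.2⟩)
  · exact hvK (hl ⟨((h.core_le_P hH.1).trans inf_le_right) hv.1, hv.2⟩)

theorem case_one {H Kk Z : Subgroup G} {e : G} (hH : IsMaxPr A K p r H) (hPH : P ≤ H)
    (hKk : IsMaxPr A K p r Kk) (hRK : R ≤ Kk) (hZ : Central A K P Z e) (hZK : Z ≤ Kk)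
    (hno : ∀ (Y : Subgroup G) (f : G), Central A K R Y f → ¬ Y ≤ H) : False := by
  have := Fact.mk h.pPrime
  have := Fact.mk h.rPrime
  have hO := h.toCx.toOp
  have hPK : ¬ P ≤ Kk := fun e => h.notPerm Kk hKk.1 e hRK
  obtain ⟨Y₀, f, hY₀⟩ := h.symm.exists_central
  have hr0 : pCoreIn r H = ⊥ := by
    by_contra h0
    exact hno Y₀ f hY₀ (h.central_le_of_core_ne hH h0 hY₀)
  have hHP : H ≤ normalizer (P : Set G) := (h.le_of_core_eq_bot hH hr0).2
  -- lines other than that of `e`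
  have hPb : ∀ b ∈ A, b ∉ zpowers e → P ⊓ centralizer {b} ≤ Kk := by
    intro b hb hbe
    rcases h.line_cases hH hPH hKk hRK hb (hO.ne_one_of_not_mem hbe) with hl | hl
    · obtain ⟨u, hu, huH⟩ := h.exists_not_mem hH hPH hKk hPK hZ hZK hb hbe
      exact absurd (hl ⟨((h.core_le_R hKk.1).trans inf_le_right) hu.1, hu.2⟩) huH
    · exact hl
  have hcross : ∀ a ∈ A, a ≠ 1 → P ⊓ centralizer {a} ≤ Kk ∨ a ∈ zpowers e := fun a ha _ => by
    by_cases hae : a ∈ zpowers e
    · exact Or.inr hae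
    · exact Or.inl (hPb a ha hae)
  have hPe : ¬ P ⊓ centralizer {e} ≤ Kk := fun hle => hPK (hO.le_of_lines h.isylP.le h.isylP.inv
    fun a ha ha1 => by
      rcases hcross a ha ha1 with hl | hl
      · exact hl
      · rw [hO.centralizer_eq hZ.mem hZ.ne1 ha ha1 hl]; exact hle)
  have hRe : R ⊓ centralizer ({e} : Set G) = ⊥ := by
    by_contra h0
    obtain ⟨M, hM, hall⟩ := h.exists_max_centralizer (inf_le_left.trans h.isylR.le)
      (hO.inv_inf_line hZ.mem h.isylR.inv) h0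
    have h1 : Y₀ ≤ M := hall Y₀ (h.isPr_centralR hY₀)
      (Subgroup.le_centralizer_iff.1 (inf_le_left.trans hY₀.cent))
    have h2 : P ⊓ centralizer {e} ≤ M := hall _ (h.isPr_line hZ.mem)
      (hO.le_centralizer_line hZ.mem hZ.ne1 (inf_le_inf_right _ h.isylP.le) (inf_le_inf_right _ h.isylR.le))
    rcases h.le_H_or_le_K hH hPH hKk hRK hM with rfl | rfl
    · exact hno Y₀ f hY₀ h1
    · exact hPe h2
  have hPKA : A ≤ normalizer ((P ⊓ Kk : Subgroup G) : Set G) := inv_inf h.isylP.inv hKk.1.inv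
  -- `R ⊓ H = ⊥`
  have hRH : R ⊓ H = ⊥ := by
    by_contra h0
    obtain ⟨g, hg, hg1, hle⟩ := hO.exists_line_not_le (inf_le_left.trans h.isylR.le)
      (inv_inf h.isylR.inv hH.1.inv) (fun e => h0 (le_bot_iff.1 e) : ¬ R ⊓ H ≤ ⊥)
    set Y' := R ⊓ H ⊓ centralizer ({g} : Set G) with hY'
    have hY'A : A ≤ normalizer (Y' : Set G) := hO.inv_inf_line hg (inv_inf h.isylR.inv hH.1.inv)
    have hge : g ∉ zpowers e := fun hge => hle (le_trans
      (le_inf (inf_le_left.trans inf_le_left) ((hO.centralizer_eq hZ.mem hZ.ne1 hg hg1 hge) ▸ inf_le_right))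
      hRe.le)
    obtain ⟨M, hM, hall⟩ := h.exists_max_centralizer ((inf_le_left.trans inf_le_left).trans h.isylR.le)
      hY'A (fun e0 => hle e0.le)
    have hMK : M = Kk := (h.le_H_or_le_K hH hPH hKk hRK hM).resolve_left fun e0 => hno Y₀ f hY₀
      (e0 ▸ hall Y₀ (h.isPr_centralR hY₀)
        (Subgroup.le_centralizer_iff.1 ((inf_le_left.trans inf_le_left).trans hY₀.cent)))
    have hCP : P ⊓ centralizer (Y' : Set G) ≤ Kk := hMK ▸ hall _
      (h.isPr_P.mono inf_le_left (inv_inf h.isylP.inv (inv_centralizer hY'A))) inf_le_right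
    have hY'P : Y' ≤ normalizer (P : Set G) := (inf_le_left.trans inf_le_right).trans hHP
    have hY'R : Y' ≤ R := inf_le_left.trans inf_le_left
    have hcopY : (Nat.card Y').Coprime (Nat.card P) := h.cop_of le_rfl hY'R
    set U := ⁅P, Y'⁆ with hU
    have hUP : U ≤ P := Subgroup.le_normalizer_iff_commutator_le_left.1 hY'P
    have hUA : A ≤ normalizer (U : Set G) := inv_commutator h.isylP.inv hY'A
    have hUfix : U ≤ ⁅U, Y'⁆ :=
      (Coprime.commutator_commutator_eq hY'P hcopY (Or.inl (h.solvR hY'R))).ge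
    have hY'U : Y' ≤ normalizer (U : Set G) := Subgroup.normalizer_commutator_ge_right P Y'
    set D := (U ⊓ Kk) ⊔ frat U with hD
    have hDU : D ≤ U := sup_le inf_le_left (frat_le U)
    have hUD : U ≤ normalizer (D : Set G) := fun x hx =>
      Coprime.mem_normalizer_of_forall fun y hy => by
        have e1 : x * y * x⁻¹ = ⁅x, y⁆ * y := by rw [commutatorElement_def]; group
        rw [e1]
        exact D.mul_mem (mem_sup_right (commutator_le_frat (h.isylP.pgroup.to_le hUP)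
          (Subgroup.commutator_mem_commutator hx (hDU hy)))) hy
    have hY'K : Y' ≤ Kk := hY'R.trans hRK
    have hDeq : D = U := by
      by_contra hne
      obtain ⟨c, hc, hc1, hce, hcg⟩ := hO.exists_not_mem_two hZ.mem hZ.ne1 hg hg1
      obtain ⟨u, hu, huD, -⟩ := hO.exists_fixed_not_mem hg hg1 hc hcg (hUP.trans h.isylP.le) hUA
        (inf_le_inf_right _ (inf_le_left.trans h.isylR.le)) hY'A hY'U
        (h.cop_of hUP hY'R) hUfix hDU
        (inv_sup (inv_inf hUA hKk.1.inv) (hUA.trans (normalizer_le_normalizer_frat U))) hUD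
        (inv_sup (inv_inf hY'U (hY'K.trans Subgroup.le_normalizer)) (hY'U.trans (normalizer_le_normalizer_frat U)))
        ((commutator_le_frat (h.isylP.pgroup.to_le hUP)).trans le_sup_right) hne
      exact huD (mem_sup_left ⟨hu.1, hPb c hc hce ⟨hUP hu.1, hu.2⟩⟩)
    have hUK : U ≤ Kk := inf_eq_left.1 (eq_of_sup_frat inf_le_left hDeq.ge)
    exact hPK ((Coprime.commutator_sup_centralizer hY'P hcopY (Or.inl (h.solvR hY'R))).ge.trans
      (sup_le hUK hCP))
  -- `P_b ≤ O_p(Kk)`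
  set V := pCoreIn r Kk with hV
  have hVR : V ≤ R := (h.core_le_R hKk.1).trans inf_le_right
  have hZV : Z ≤ normalizer (V : Set G) := hZK.trans (le_normalizer_pCoreIn r Kk)
  have hcopZ : (Nat.card Z).Coprime (Nat.card V) := h.symm.cop_of hVR hZ.le
  have hCV : V ⊓ centralizer (Z : Set G) = ⊥ := by
    refine le_bot_iff.1 (le_trans (le_inf (inf_le_left.trans hVR) ?_) hRH.le)
    obtain ⟨M, hM, hall⟩ := h.exists_max_centralizer (hZ.le.trans h.isylP.le) hZ.inv hZ.ne
    rw [h.eq_of_sylow_le hH hM hPH (hall P h.isPr_P hZ.cent)]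
    exact hall _ (hKk.1.mono (inf_le_left.trans (pCoreIn_le r Kk))
      (inv_inf (h.core_inv hKk.1.inv r) (inv_centralizer hZ.inv))) inf_le_right
  have hVfix : V ≤ ⁅V, Z⁆ := by
    have hsolZ : Group.IsSolvable Z := h.symm.solvR hZ.le
    have h1 := Coprime.commutator_sup_centralizer hZV hcopZ (Or.inl hsolZ)
    rw [hCV, sup_bot_eq] at h1
    exact h1.ge
  have hPbQ : ∀ b ∈ A, b ∉ zpowers e → P ⊓ centralizer {b} ≤ pCoreIn p Kk := by
    intro b hb hbe
    refine h.symm.le_core_of_centralizes hKk.1.symm (hPb b hb hbe) (h.isylP.pgroup.to_le inf_le_left) ?_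
    exact hO.centralizes_pgroup_of_two (p := r) hZ.mem hZ.ne1 hb hbe (hVR.trans h.isylR.le)
      (h.core_inv hKk.1.inv r) (isPGroup_pCoreIn r Kk) hZ.line hZ.inv hZV hcopZ hVfix
      (inf_le_inf_right _ h.isylP.le) (hO.inv_inf_line hb h.isylP.inv)
      ((hPb b hb hbe).trans (le_normalizer_pCoreIn r Kk)) (h.symm.cop_of hVR inf_le_left)
      (Subgroup.le_centralizer_iff.1 (inf_le_left.trans hZ.cent))
  set Q := pCoreIn p Kk with hQ
  by_cases hQ0 : Q = ⊥
  · refine h.not_le_line hZ.mem hZ.ne1 (hO.le_of_lines h.isylP.le h.isylP.inv fun a ha ha1 => ?_)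
    by_cases hae : a ∈ zpowers e
    · rw [hO.centralizer_eq hZ.mem hZ.ne1 ha ha1 hae]; exact inf_le_right
    · exact ((hPbQ a ha hae).trans hQ0.le).trans bot_le
  set S := P ⊓ Kk with hS
  have hQS : Q ≤ S := le_inf ((h.core_le_P hKk.1).trans inf_le_right) (pCoreIn_le p Kk)
  have hQA : A ≤ normalizer (Q : Set G) := h.core_inv hKk.1.inv p
  have heA : e ∈ A := hZ.mem
  let T : Subgroup G :=
    { carrier := {w | w ∈ S ∧ w⁻¹ * (e * w * e⁻¹) ∈ Q}
      one_mem' := ⟨S.one_mem, by simp⟩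
      mul_mem' := fun {w w'} hw hw' => ⟨S.mul_mem hw.1 hw'.1, by
        have h1 := commute_conj_mem (inv_mem (le_normalizer_pCoreIn p Kk hw'.1.2)) hw.2
        have h2 := Q.mul_mem h1 hw'.2
        group at h2 ⊢
        exact h2⟩
      inv_mem' := fun {w} hw => ⟨S.inv_mem hw.1, by
        have h1 := commute_conj_mem (le_normalizer_pCoreIn p Kk hw.1.2) (Q.inv_mem hw.2)
        group at h1 ⊢
        exact h1⟩ }
  have hfix_e : ∀ {a x : G}, a ∈ A → a ≠ 1 → a ∈ zpowers e → x ∈ centralizer ({a} : Set G) →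
      x ∈ centralizer ({e} : Set G) := fun ha ha1 hae hx => by
    rwa [hO.centralizer_eq hZ.mem hZ.ne1 ha ha1 hae] at hx
  have hST : S ≤ T := hO.le_of_lines (inf_le_left.trans h.isylP.le) hPKA fun a ha ha1 x hx => by
    refine ⟨hx.1, ?_⟩
    by_cases hae : a ∈ zpowers e
    · rw [← Subgroup.mem_centralizer_singleton_iff.1 (hfix_e ha ha1 hae hx.2), mul_inv_cancel_right,
        inv_mul_cancel]
      exact one_mem _
    · exact Q.mul_mem (Q.inv_mem (hPbQ a ha hae ⟨hx.1.1, hx.2⟩))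
        (hPbQ a ha hae (commute_conj_mem (hO.inv_inf_line ha h.isylP.inv heA) ⟨hx.1.1, hx.2⟩))
  have hN : P ⊓ normalizer (S : Set G) ≤ Kk := by
    refine hO.le_of_lines (inf_le_left.trans h.isylP.le) (inv_inf h.isylP.inv (inv_normalizer hPKA))
      fun a ha ha1 => ?_
    by_cases hae : a ∈ zpowers e
    swap
    · exact (inf_le_inf_right _ inf_le_left).trans (hPb a ha hae)
    refine h.le_of_normalizer hKk (pCoreIn_le p Kk) hQA hQ0 (le_normalizer_pCoreIn p Kk)
      (h.isPr_P.mono (inf_le_left.trans inf_le_left)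
        (hO.inv_inf_line ha (inv_inf h.isylP.inv (inv_normalizer hPKA)))) fun z hz => ?_
    have hze : z ∈ centralizer ({e} : Set G) := hfix_e ha ha1 hae hz.2
    refine Coprime.mem_normalizer_of_forall fun u hu => ?_
    have hQK : Q ≤ K := (pCoreIn_le p Kk).trans hKk.1.le
    have hmain : Q ≤ Q.comap (MulAut.conj z).toMonoidHom := hO.le_of_lines hQK hQA fun b hb hb1 x hx => by
      show z * x * z⁻¹ ∈ Q
      by_cases hbe : b ∈ zpowers e
      · rw [hO.comm_line hZ.mem hZ.ne1 (h.isylP.le hz.1.1) hze (hQK hx.1) (hfix_e hb hb1 hbe hx.2),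
          mul_inv_cancel_right]
        exact hx.1
      -- `x = v⁻¹ (e v e⁻¹)`
      set Pb := Q ⊓ centralizer ({b} : Set G) with hPb'
      have hPbA : A ≤ normalizer (Pb : Set G) := hO.inv_inf_line hb hQA
      let φ : Pb → Pb := fun v => ⟨(v : G)⁻¹ * (e * v * e⁻¹),
        Pb.mul_mem (Pb.inv_mem v.2) (commute_conj_mem (hPbA heA) v.2)⟩
      have hinj : Function.Injective φ := by
        intro v w hvw
        have h1 : (v : G)⁻¹ * (e * v * e⁻¹) = (w : G)⁻¹ * (e * w * e⁻¹) := congrArg Subtype.val hvw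
        have hm : (w : G) * (v : G)⁻¹ ∈ Pb := Pb.mul_mem w.2 (Pb.inv_mem v.2)
        have h2 : e * ((w : G) * (v : G)⁻¹) * e⁻¹ = (w : G) * (v : G)⁻¹ := by
          calc e * ((w : G) * (v : G)⁻¹) * e⁻¹ = (e * w * e⁻¹) * (e * v * e⁻¹)⁻¹ := by group
            _ = w * ((w : G)⁻¹ * (e * w * e⁻¹)) * (v * ((v : G)⁻¹ * (e * v * e⁻¹)))⁻¹ := by group
            _ = w * ((v : G)⁻¹ * (e * v * e⁻¹)) * ((v : G)⁻¹ * (e * v * e⁻¹))⁻¹ * (v : G)⁻¹ := by
              rw [← h1]; group
            _ = w * (v : G)⁻¹ := by group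
        have h3 : (w : G) * (v : G)⁻¹ = 1 := hO.eq_one_of_two hb hb1 heA
          (hO.not_mem_symm heA hZ.ne1 hb hbe) (hQK hm.1) hm.2
          (Subgroup.mem_centralizer_singleton_iff.2 (mul_inv_eq_iff_eq_mul.1 h2).symm)
        exact Subtype.ext (mul_inv_eq_one.1 h3).symm
      obtain ⟨v, hv⟩ := (Finite.injective_iff_surjective.1 hinj) ⟨x, hx⟩
      have hx' : x = (v : G)⁻¹ * (e * v * e⁻¹) := (congrArg Subtype.val hv).symm
      have hw := (hST (commute_conj_mem hz.1.2 (hQS v.2.1))).2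
      have hez : e * z = z * e := (Subgroup.mem_centralizer_singleton_iff.1 hze).symm
      have e1 : (z * v * z⁻¹)⁻¹ * (e * (z * v * z⁻¹) * e⁻¹) = z * x * z⁻¹ := by
        have hez' : z⁻¹ * e⁻¹ = e⁻¹ * z⁻¹ := by rw [← mul_inv_rev, ← mul_inv_rev, hez]
        calc (z * v * z⁻¹)⁻¹ * (e * (z * v * z⁻¹) * e⁻¹)
            = z * (v : G)⁻¹ * z⁻¹ * ((e * z) * v * (z⁻¹ * e⁻¹)) := by group
          _ = z * x * z⁻¹ := by rw [hez, hez', hx']; group
      rwa [e1] at hw
    exact hmain hu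
  exact hPK (inf_eq_left.1 (h.eq_of_normalizer_le inf_le_left (le_inf inf_le_left hN)))

/-- In the last case the Glauberman–Thompson theorem gives a normal `p`-complement. -/
theorem case_disjoint (hp2 : p ≠ 2)
    (hdis : ∀ b ∈ A, b ≠ 1 → R ⊓ centralizer {b} ≠ ⊥ → P ⊓ centralizer {b} = ⊥) : False := by
  have := Fact.mk h.pPrime
  have hO := h.toCx.toOp
  obtain ⟨S, hS⟩ := h.exists_sylow
  set Zc := Cfsg.centerThompsonOf p P with hZc
  have hZcP : Zc ≤ P := inf_le_left.trans (map_subtype_le _)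
  have hZcne : Zc ≠ ⊥ := fun e0 => by
    obtain ⟨z, hz, hz1, hzp⟩ := PLocal.exists_central_of_order_p h.isylP.pgroup h.P_ne_bot
    exact hz1 (Subgroup.mem_bot.1 (e0.le (PLocal.central_le_centerThompsonOf hz hzp)))
  have hZcA : A ≤ normalizer (Zc : Set G) := fun a ha => by
    rw [Subgroup.mem_normalizer_iff_map_conj_eq, hZc,
      PLocal.map_centerThompsonOf _ (MulAut.conj a).injective.injOn,
      Subgroup.mem_normalizer_iff_map_conj_eq.1 (h.isylP.inv ha)]
  set N := K ⊓ normalizer (Zc : Set G) with hN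
  have hNA : A ≤ normalizer (N : Set G) := inv_inf h.norm (inv_normalizer hZcA)
  have hNne : N ≠ K := by
    refine h.toCx.normalizer_ne (hZcP.trans h.isylP.le) hZcA hZcne ?_
    have := (h.isylP.pgroup.to_le hZcP).isNilpotent
    infer_instance
  have hnil : Group.IsNilpotent (⁅N, N⁆ : Subgroup G) := h.toCx.nilpotent_commutator inf_le_left hNA hNne
  have hother : ∀ a ∈ A, a ≠ 1 → ∃ b ∈ A, b ∉ zpowers a ∧ P ⊓ centralizer {b} = ⊥ := by
    intro a ha ha1
    obtain ⟨b, hb, hb1, hle⟩ := hO.exists_line_not_le h.isylR.le h.isylR.inv (h.symm.not_le_line ha ha1)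
    refine ⟨b, hb, fun hba => hle ?_, hdis b hb hb1 fun e0 => hle (e0 ▸ bot_le)⟩
    rw [hO.centralizer_eq ha ha1 hb hb1 hba]
    exact inf_le_right
  set O' := opc p N with hO'
  have hgen : N ≤ (P ⊓ N) ⊔ O' := by
    refine hO.le_of_lines inf_le_left hNA fun a ha ha1 => ?_
    refine Coprime.le_of_invariant_sylow_le (hO.inv_inf_line ha hNA)
      (hO.cop_le (inf_le_left.trans inf_le_left)) (Or.inl h.solvA) fun t Q ht hQ hQt hQA => ?_
    have := Fact.mk ht
    by_cases htp : t = p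
    · subst htp
      exact le_sup_of_le_left (le_inf (h.isylP.max Q ((hQ.trans inf_le_left).trans inf_le_left) hQA hQt)
        (hQ.trans inf_le_left))
    refine le_sup_of_le_right (le_opc_of_centralizes hNA (hO.cop_le inf_le_left) h.solvA hnil
      (hQ.trans inf_le_left) (coprime_of_isPGroup htp hQt) ?_)
    by_contra hnc
    set V := pCoreIn p N with hV
    have hVK : V ≤ K := (pCoreIn_le p N).trans inf_le_left
    have hVA : A ≤ normalizer (V : Set G) := hNA.trans (normalizer_le_normalizer_pCoreIn p N)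
    have hQV : Q ≤ normalizer (V : Set G) := (hQ.trans inf_le_left).trans (le_normalizer_pCoreIn p N)
    have hcop : (Nat.card Q).Coprime (Nat.card V) :=
      coprime_card_of_isPGroup htp (isPGroup_pCoreIn p N) hQt
    have hsQ : Group.IsSolvable Q := by
      have := hQt.isNilpotent
      infer_instance
    have hUne : ⁅V, Q⁆ ≠ ⊥ := fun e0 => hnc (centralizer_of_commutator_eq_bot e0)
    have hUV : ⁅V, Q⁆ ≤ V := Subgroup.le_normalizer_iff_commutator_le_left.1 hQV
    obtain ⟨b, hb, hba, hPb⟩ := hother a ha ha1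
    obtain ⟨u, hu, hu'⟩ := hO.exists_fixed_not_commute ha ha1 hb hba (hUV.trans hVK)
      (inv_commutator hVA hQA) ((isPGroup_pCoreIn p N).to_le hUV)
      (hQ.trans (inf_le_inf_right _ inf_le_left)) hQA (Subgroup.normalizer_commutator_ge_right V Q)
      (hcop.coprime_dvd_right (Subgroup.card_dvd_of_le hUV))
      (Coprime.commutator_commutator_eq hQV hcop (Or.inl hsQ)).ge hUne
    have hu1 : u = 1 := Subgroup.mem_bot.1 (hPb ▸
      (⟨h.isylP.max V hVK hVA (isPGroup_pCoreIn p N) (hUV hu.1), hu.2⟩ : u ∈ P ⊓ centralizer {b}))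
    exact hu' (hu1 ▸ one_mem _)
  -- a normal complement in `N`
  have hcomp : Cfsg.HasNormalPComplement p N := by
    have hO'n : (O'.subgroupOf N).Normal :=
      Subgroup.normal_subgroupOf_of_le_normalizer (le_normalizer_opc p N)
    have hcO : (Nat.card (O'.subgroupOf N)).Coprime p := by
      rw [Cores.card_subgroupOf (opc_le p N)]; exact coprime_card_opc p N
    have hnd : ¬ p ∣ Nat.card (O'.subgroupOf N) :=
      h.pPrime.coprime_iff_not_dvd.1 hcO.symm
    have hPN : IsPGroup p ((P ⊓ N).subgroupOf N) :=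
      (h.isylP.pgroup.to_le inf_le_left).of_equiv (subgroupOfEquivOfLe inf_le_right).symm
    obtain ⟨k, hk⟩ := IsPGroup.iff_card.1 (hPN.map (QuotientGroup.mk' (O'.subgroupOf N)))
    refine Transfer.hasNormalPComplement_of_normal (k := k) ?_ (Transfer.hasNormalPComplement_of_not_dvd hnd)
    rw [← hk, Subgroup.index_eq_card]
    have htop : ((P ⊓ N).subgroupOf N).map (QuotientGroup.mk' (O'.subgroupOf N)) = ⊤ := by
      have h1 : (P ⊓ N).subgroupOf N ⊔ O'.subgroupOf N = ⊤ := by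
        rw [← Subgroup.subgroupOf_sup inf_le_right (opc_le p N), Subgroup.subgroupOf_eq_top]
        exact hgen
      have h2 := congrArg (Subgroup.map (QuotientGroup.mk' (O'.subgroupOf N))) h1
      rw [Subgroup.map_sup, (Subgroup.map_eq_bot_iff _).2 (QuotientGroup.ker_mk' _).ge, sup_bot_eq,
        Subgroup.map_top_of_surjective _ (QuotientGroup.mk'_surjective _)] at h2
      exact h2
    rw [htop]
    exact (Nat.card_congr Subgroup.topEquiv.toEquiv).symm
  have hmapZ : (Cfsg.centerThompsonOf p (S : Subgroup K)).map K.subtype = Zc := by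
    rw [PLocal.map_centerThompsonOf _ K.subtype_injective.injOn, hS]
  have heq : normalizer (Cfsg.centerThompsonOf p (S : Subgroup K) : Set K) = N.subgroupOf K := by
    ext x
    constructor
    · intro hx
      refine ⟨x.2, Coprime.mem_normalizer_of_forall ?_⟩
      rw [← hmapZ]
      rintro _ ⟨y, hy, rfl⟩
      exact ⟨_, (Subgroup.mem_normalizer_iff.1 hx y).1 hy, rfl⟩
    · intro hx
      refine Coprime.mem_normalizer_of_forall fun y hy => ?_
      have h1 : (x : G) * y * (x : G)⁻¹ ∈ Zc :=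
        commute_conj_mem (Subgroup.mem_subgroupOf.1 hx).2 (hmapZ ▸ ⟨y, hy, rfl⟩)
      rw [← hmapZ] at h1
      obtain ⟨z, hz, hze⟩ := h1
      exact (Subtype.ext hze : z = x * y * x⁻¹) ▸ hz
  have hK : Cfsg.HasNormalPComplement p K := by
    refine PLocal.glauberman_complement hp2 S ?_
    rw [heq]
    exact Transfer.hasNormalPComplement_of_equiv hcomp (subgroupOfEquivOfLe inf_le_left).symm
  obtain ⟨M, hMn, hMc⟩ := (Transfer.hasNormalPComplement_iff_sylow S).1 hK
  refine h.false_of_complement hMn (Transfer.coprime_card_of_isComplement' S hMc) fun T => ?_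
  obtain ⟨M', hM'n, hM'c⟩ := (Transfer.hasNormalPComplement_iff_sylow T).1 hK
  rw [Transfer.complement_eq_pResidual S hMc, ← Transfer.complement_eq_pResidual T hM'c]
  exact hM'c.sup_eq_top

theorem case_two {H Kk : Subgroup G} (hH : IsMaxPr A K p r H) (hPH : P ≤ H)
    (hKk : IsMaxPr A K p r Kk) (hRK : R ≤ Kk)
    (hZno : ∀ (Z : Subgroup G) (e : G), Central A K P Z e → ¬ Z ≤ Kk)
    (hYno : ∀ (Y : Subgroup G) (f : G), Central A K R Y f → ¬ Y ≤ H) :
    ∀ b ∈ A, b ≠ 1 → R ⊓ centralizer {b} ≠ ⊥ → P ⊓ centralizer {b} = ⊥ := by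
  have := Fact.mk h.pPrime
  have := Fact.mk h.rPrime
  have hO := h.toCx.toOp
  obtain ⟨Z₀, e, hZ₀⟩ := h.exists_central
  obtain ⟨Y₀, f, hY₀⟩ := h.symm.exists_central
  have hHP : H ≤ normalizer (P : Set G) := (h.le_of_core_eq_bot hH (by
    by_contra h0; exact hYno Y₀ f hY₀ (h.central_le_of_core_ne hH h0 hY₀))).2
  have hKR : Kk ≤ normalizer (R : Set G) := (h.symm.le_of_core_eq_bot hKk.symm (by
    by_contra h0; exact hZno Z₀ e hZ₀ (h.symm.central_le_of_core_ne hKk.symm h0 hZ₀))).2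
  -- common lines
  have toH : ∀ b ∈ A, b ≠ 1 → P ⊓ centralizer {b} ≠ ⊥ → R ⊓ centralizer {b} ≤ H := by
    intro b hb hb1 h0
    obtain ⟨M, hM, hall⟩ := h.exists_max_centralizer (inf_le_left.trans h.isylP.le)
      (hO.inv_inf_line hb h.isylP.inv) h0
    have h1 : R ⊓ centralizer {b} ≤ M := hall _ (h.isPr_lineR hb)
      (hO.le_centralizer_line hb hb1 (inf_le_inf_right _ h.isylR.le) (inf_le_inf_right _ h.isylP.le))
    rcases h.le_H_or_le_K hH hPH hKk hRK hM with rfl | rfl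
    · exact h1
    · exact absurd (hall Z₀ (h.isPr_central hZ₀) (Subgroup.le_centralizer_iff.1 (inf_le_left.trans hZ₀.cent)))
        (hZno Z₀ e hZ₀)
  have toK : ∀ b ∈ A, b ≠ 1 → R ⊓ centralizer {b} ≠ ⊥ → P ⊓ centralizer {b} ≤ Kk := by
    intro b hb hb1 h0
    obtain ⟨M, hM, hall⟩ := h.exists_max_centralizer (inf_le_left.trans h.isylR.le)
      (hO.inv_inf_line hb h.isylR.inv) h0
    have h1 : P ⊓ centralizer {b} ≤ M := hall _ (h.isPr_line hb)
      (hO.le_centralizer_line hb hb1 (inf_le_inf_right _ h.isylP.le) (inf_le_inf_right _ h.isylR.le))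
    rcases h.le_H_or_le_K hH hPH hKk hRK hM with rfl | rfl
    · exact absurd (hall Y₀ (h.isPr_centralR hY₀) (Subgroup.le_centralizer_iff.1 (inf_le_left.trans hY₀.cent)))
        (hYno Y₀ f hY₀)
    · exact h1
  have hRH : R ⊓ H = ⊥ := by
    by_contra h0
    obtain ⟨g, hg, hg1, hle⟩ := hO.exists_line_not_le (inf_le_left.trans h.isylR.le)
      (inv_inf h.isylR.inv hH.1.inv) (fun e => h0 (le_bot_iff.1 e) : ¬ R ⊓ H ≤ ⊥)
    set Y' := R ⊓ H ⊓ centralizer ({g} : Set G) with hY'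
    have hY'A : A ≤ normalizer (Y' : Set G) := hO.inv_inf_line hg (inv_inf h.isylR.inv hH.1.inv)
    have hY'R : Y' ≤ R := inf_le_left.trans inf_le_left
    obtain ⟨M, hM, hall⟩ := h.exists_max_centralizer (hY'R.trans h.isylR.le) hY'A (fun e0 => hle e0.le)
    have hMK : M = Kk := (h.le_H_or_le_K hH hPH hKk hRK hM).resolve_left fun e0 => hYno Y₀ f hY₀
      (e0 ▸ hall Y₀ (h.isPr_centralR hY₀) (Subgroup.le_centralizer_iff.1 (hY'R.trans hY₀.cent)))
    have hCP : P ⊓ centralizer (Y' : Set G) ≤ Kk := hMK ▸ hall _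
      (h.isPr_P.mono inf_le_left (inv_inf h.isylP.inv (inv_centralizer hY'A))) inf_le_right
    have hY'P : Y' ≤ normalizer (P : Set G) := (inf_le_left.trans inf_le_right).trans hHP
    have hcopY : (Nat.card Y').Coprime (Nat.card P) := h.cop_of le_rfl hY'R
    set U := ⁅P, Y'⁆ with hU
    have hUP : U ≤ P := Subgroup.le_normalizer_iff_commutator_le_left.1 hY'P
    have hUne : U ≠ ⊥ := fun e0 => by
      have h1 := (Coprime.commutator_sup_centralizer hY'P hcopY (Or.inl (h.solvR hY'R))).ge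
      rw [← hU, e0, bot_sup_eq] at h1
      exact h.notPerm Kk hKk.1 (h1.trans hCP) hRK
    refine h.symm.not_le_line hg hg1 (hO.le_of_lines h.isylR.le h.isylR.inv fun b hb hb1 => ?_)
    by_cases hbg : b ∈ zpowers g
    · rw [hO.centralizer_eq hg hg1 hb hb1 hbg]; exact inf_le_right
    by_cases hb0 : R ⊓ centralizer ({b} : Set G) = ⊥
    · exact hb0 ▸ bot_le
    exfalso
    obtain ⟨u, hu, hu'⟩ := hO.exists_fixed_not_commute hg hg1 hb hbg (hUP.trans h.isylP.le)
      (inv_commutator h.isylP.inv hY'A) (h.isylP.pgroup.to_le hUP)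
      (inf_le_inf_right _ (inf_le_left.trans h.isylR.le)) hY'A (Subgroup.normalizer_commutator_ge_right P Y')
      (h.cop_of hUP hY'R) (Coprime.commutator_commutator_eq hY'P hcopY (Or.inl (h.solvR hY'R))).ge hUne
    have huK : u ∈ Kk := toK b hb hb1 hb0 ⟨hUP hu.1, hu.2⟩
    refine hu' (Subgroup.mem_centralizer_iff.2 fun y hy => ?_)
    have e1 : ⁅y, u⁆ ∈ P := by
      rw [commutatorElement_def]
      exact P.mul_mem (commute_conj_mem (hY'P hy) (hUP hu.1)) (P.inv_mem (hUP hu.1))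
    have e2 : ⁅y, u⁆ ∈ R := by
      rw [commutatorElement_def, show y * u * y⁻¹ * u⁻¹ = y * (u * y⁻¹ * u⁻¹) by group]
      exact R.mul_mem (hY'R hy) (commute_conj_mem (hKR huK) (R.inv_mem (hY'R hy)))
    exact commutatorElement_eq_one_iff_mul_comm.1 (Subgroup.mem_bot.1 (h.inf_eq_bot_PR ▸ ⟨e1, e2⟩))
  intro b hb hb1 h0
  by_contra hP0
  exact h0 (le_bot_iff.1 (hRH ▸ le_inf inf_le_left (toH b hb hb1 hP0)))

/-- There is no pair of non-permuting invariant Sylow subgroups. -/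
theorem false : False := by
  obtain ⟨H, hH, hPH⟩ := h.exists_max h.isPr_P
  obtain ⟨Kk, hKk, hRK⟩ := h.exists_max h.isPr_R
  by_cases h1 : ∃ (Z : Subgroup G) (e : G), Central A K P Z e ∧ Z ≤ Kk
  · obtain ⟨Z, e, hZ, hZK⟩ := h1
    by_cases h2 : ∃ (Y : Subgroup G) (f : G), Central A K R Y f ∧ Y ≤ H
    · obtain ⟨Y, f, hY, hYH⟩ := h2
      exact h.case_both hH hPH hKk hRK hZ hZK hY hYH
    · exact h.case_one hH hPH hKk hRK hZ hZK fun Y f hY hle => h2 ⟨Y, f, hY, hle⟩
  by_cases h2 : ∃ (Y : Subgroup G) (f : G), Central A K R Y f ∧ Y ≤ H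
  · obtain ⟨Y, f, hY, hYH⟩ := h2
    exact h.symm.case_one hKk.symm hRK hH.symm hPH hY hYH fun Z e hZ hle => h1 ⟨Z, e, hZ, hle⟩
  have hdis := h.case_two hH hPH hKk hRK (fun Z e hZ hle => h1 ⟨Z, e, hZ, hle⟩)
    (fun Y f hY hle => h2 ⟨Y, f, hY, hle⟩)
  by_cases hp2 : p = 2
  · exact h.symm.case_disjoint (fun hr2 => h.pne (hp2.trans hr2.symm)) fun b hb hb1 hPb => by
      by_contra hR
      exact hPb (hdis b hb hb1 hR)
  · exact h.case_disjoint hp2 hdis

end PrPair

end Cfsg.Agent.FPQ
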