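import Cfsg.Agent.Lib.FPQ.Setup
import Cfsg.Agent.Lib.Cores.Basic

/-!
# Quotient by an invariant normal subgroup (helper25)

`qimg N X`: the image of `X` in `N_G(N) / N`; `Op.quot`; `exists_fix_lift`.
-/

set_option autoImplicit false
set_option linter.unusedSectionVars false

namespace Cfsg.Agent.FPQ

open Subgroup
open scoped Pointwise IsMulCommutative commutatorElement

variable {G : Type*} [Group G]

instance subgroupOf_normalizer_normal (N : Subgroup G) :
    (N.subgroupOf (normalizer (N : Set G))).Normal :=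
  normal_subgroupOf_of_le_normalizer le_rfl

/-- The quotient of the normaliser of `N` by `N`. -/
abbrev QG (N : Subgroup G) : Type _ := ↥(normalizer (N : Set G)) ⧸ N.subgroupOf (normalizer (N : Set G))

/-- The projection. -/
abbrev qmk (N : Subgroup G) (x : G) (hx : x ∈ normalizer (N : Set G)) : QG N :=
  QuotientGroup.mk' _ ⟨x, hx⟩

/-- The image of a subgroup in the quotient. -/
def qimg (N X : Subgroup G) : Subgroup (QG N) :=
  (X.subgroupOf (normalizer (N : Set G))).map (QuotientGroup.mk' _)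

variable {N X Y : Subgroup G}

theorem qmk_eq_iff {x y : G} {hx : x ∈ normalizer (N : Set G)} {hy : y ∈ normalizer (N : Set G)} :
    qmk N x hx = qmk N y hy ↔ x⁻¹ * y ∈ N := by
  simp only [qmk, QuotientGroup.mk'_apply, QuotientGroup.eq, mem_subgroupOf, Subgroup.coe_mul,
    Subgroup.coe_inv]

theorem qmk_eq_one {x : G} {hx : x ∈ normalizer (N : Set G)} : qmk N x hx = 1 ↔ x ∈ N := by
  simp only [qmk, QuotientGroup.mk'_apply, QuotientGroup.eq_one_iff, mem_subgroupOf]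

theorem conj_comm_mem {a x : G} (ha : a ∈ normalizer (N : Set G)) (hx : x ∈ normalizer (N : Set G))
    (h : qmk N a ha * qmk N x hx = qmk N x hx * qmk N a ha) : a * x * a⁻¹ * x⁻¹ ∈ N := by
  refine (qmk_eq_one (hx := mul_mem (mul_mem (mul_mem ha hx) (inv_mem ha)) (inv_mem hx))).1 ?_
  calc qmk N (a * x * a⁻¹ * x⁻¹) _ = qmk N a ha * qmk N x hx * (qmk N a ha)⁻¹ * (qmk N x hx)⁻¹ := rfl
    _ = 1 := by rw [h]; group

theorem mem_qimg {z : QG N} : z ∈ qimg N X ↔
    ∃ (x : G) (hx : x ∈ normalizer (N : Set G)), x ∈ X ∧ qmk N x hx = z := by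
  constructor
  · rintro ⟨⟨x, hx⟩, hxX, rfl⟩; exact ⟨x, hx, hxX, rfl⟩
  · rintro ⟨x, hx, hxX, rfl⟩; exact ⟨⟨x, hx⟩, hxX, rfl⟩

theorem qmk_mem_qimg {x : G} {hx : x ∈ normalizer (N : Set G)} (h : x ∈ X) : qmk N x hx ∈ qimg N X :=
  mem_qimg.2 ⟨x, hx, h, rfl⟩

theorem qimg_mono (h : X ≤ Y) : qimg N X ≤ qimg N Y :=
  Subgroup.map_mono (fun _ hx => h hx)

theorem qimg_eq_bot (hX : X ≤ normalizer (N : Set G)) : qimg N X = ⊥ ↔ X ≤ N := by
  rw [qimg, Subgroup.map_eq_bot_iff, QuotientGroup.ker_mk']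
  exact ⟨fun h x hx => h (show (⟨x, hX hx⟩ : normalizer (N : Set G)) ∈ X.subgroupOf _ from hx),
    fun h x hx => h hx⟩

theorem qmk_mem_qimg_iff (hNX : N ≤ X) {x : G} {hx : x ∈ normalizer (N : Set G)} :
    qmk N x hx ∈ qimg N X ↔ x ∈ X := by
  refine ⟨fun h => ?_, qmk_mem_qimg⟩
  obtain ⟨y, hy, hyX, he⟩ := mem_qimg.1 h
  have h1 := X.mul_mem hyX (hNX (qmk_eq_iff.1 he))
  rwa [mul_inv_cancel_left] at h1

theorem qimg_le_normalizer [Finite G] (h : X ≤ normalizer (Y : Set G)) :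
    qimg N X ≤ normalizer (qimg N Y : Set (QG N)) := by
  intro z hz
  obtain ⟨x, hx, hxX, rfl⟩ := mem_qimg.1 hz
  refine Coprime.mem_normalizer_of_forall fun w hw => ?_
  obtain ⟨y, hy, hyY, rfl⟩ := mem_qimg.1 hw
  rw [← map_inv, ← map_mul, ← map_mul]
  exact mem_qimg.2 ⟨x * y * x⁻¹, mul_mem (mul_mem hx hy) (inv_mem hx), commute_conj_mem (h hxX) hyY, rfl⟩

theorem qimg_commutator (hX : X ≤ normalizer (N : Set G)) (hY : Y ≤ normalizer (N : Set G)) :
    ⁅qimg N X, qimg N Y⁆ = qimg N ⁅X, Y⁆ := by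
  rw [qimg, qimg, qimg, ← Subgroup.map_commutator]
  congr 1
  refine Subgroup.map_injective (normalizer (N : Set G)).subtype_injective ?_
  rw [Subgroup.map_commutator, map_subgroupOf_eq_of_le hX, map_subgroupOf_eq_of_le hY,
    map_subgroupOf_eq_of_le]
  rw [Subgroup.commutator_le]
  intro x hx y hy
  rw [commutatorElement_def]
  exact mul_mem (mul_mem (mul_mem (hX hx) (hY hy)) (inv_mem (hX hx))) (inv_mem (hY hy))

theorem card_qimg_mul (hX : X ≤ normalizer (N : Set G)) (hNX : N ≤ X) :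
    Nat.card (qimg N X) * Nat.card N = Nat.card X := by
  have h := Cores.card_map_mul_ker (QuotientGroup.mk' (N.subgroupOf (normalizer (N : Set G))))
    (X.subgroupOf (normalizer (N : Set G))) (by rw [QuotientGroup.ker_mk']; exact fun x hx => hNX hx)
  rw [QuotientGroup.ker_mk', Nat.card_congr (subgroupOfEquivOfLe hX).toEquiv,
    Nat.card_congr (subgroupOfEquivOfLe Subgroup.le_normalizer).toEquiv] at h
  exact h

theorem card_qimg_dvd (hX : X ≤ normalizer (N : Set G)) : Nat.card (qimg N X) ∣ Nat.card X := by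
  have h := Subgroup.card_map_dvd (X.subgroupOf (normalizer (N : Set G)))
    (QuotientGroup.mk' (N.subgroupOf (normalizer (N : Set G))))
  rwa [Nat.card_congr (subgroupOfEquivOfLe hX).toEquiv] at h

variable [Finite G] {q : ℕ} {A K : Subgroup G}

theorem qimg_inj (hO : Op0 q A K) (hAN : A ≤ normalizer (N : Set G)) (hNK : N ≤ K) {a : G}
    (ha : a ∈ A) : qmk N a (hAN ha) = 1 ↔ a = 1 := by
  refine ⟨fun h => Coprime.eq_one_of_mem_of_mem hO.cop ha (hNK (qmk_eq_one.1 h)), fun h => ?_⟩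
  exact qmk_eq_one.2 (h ▸ one_mem N)

theorem Op0.exists_fix_lift (hO : Op0 q A K) (hAN : A ≤ normalizer (N : Set G)) (hNX : N ≤ X) (hX : X ≤ K)
    {b : G} (hb : b ∈ A) (hbX : b ∈ normalizer (X : Set G)) {z : QG N} (hz : z ∈ qimg N X)
    (hzb : z * qmk N b (hAN hb) = qmk N b (hAN hb) * z) :
    ∃ (c : G) (hc : c ∈ normalizer (N : Set G)), c ∈ X ⊓ centralizer {b} ∧ qmk N c hc = z := by
  obtain ⟨x, hx, hxX, rfl⟩ := mem_qimg.1 hz
  have hmem : b * x * b⁻¹ * x⁻¹ ∈ N := conj_comm_mem (hAN hb) hx hzb.symm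
  obtain ⟨c, hc, hcx⟩ := hO.exists_fix_of_mod hb hX hbX hNX (hAN hb) hxX hmem
  have hcN : c ∈ normalizer (N : Set G) := by
    have h2 := mul_mem (Subgroup.le_normalizer hcx) hx
    rwa [inv_mul_cancel_right] at h2
  refine ⟨c, hcN, hc, (qmk_eq_iff.2 ?_).symm⟩
  have h3 := commute_conj_mem (inv_mem hx) hcx
  group at h3 ⊢
  exact h3

theorem Op0.card_qimg_A (hO : Op0 q A K) (hAN : A ≤ normalizer (N : Set G)) (hNK : N ≤ K) :
    Nat.card (qimg N A) = Nat.card A := by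
  refine (Nat.card_congr (Equiv.ofBijective
    (fun a : A => (⟨qmk N a (hAN a.2), qmk_mem_qimg a.2⟩ : qimg N A)) ⟨?_, ?_⟩)).symm
  · intro a b hab
    have h1 : qmk N a (hAN a.2) = qmk N b (hAN b.2) := congrArg Subtype.val hab
    exact Subtype.ext (inv_mul_eq_one.1
      (Coprime.eq_one_of_mem_of_mem hO.cop (A.mul_mem (A.inv_mem a.2) b.2) (hNK (qmk_eq_iff.1 h1))))
  · rintro ⟨z, hz⟩
    obtain ⟨a, ha, haA, rfl⟩ := mem_qimg.1 hz
    exact ⟨⟨a, haA⟩, rfl⟩

theorem Op0.quot (hO : Op0 q A K) (hNK : N ≤ K) (hKN : K ≤ normalizer (N : Set G))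
    (hAN : A ≤ normalizer (N : Set G)) : Op0 q (qimg N A) (qimg N K) where
  prime := hO.prime
  card := (hO.card_qimg_A hAN hNK).trans hO.card
  noncyc h := by
    obtain ⟨⟨z, hz⟩, hgen⟩ := h.exists_generator
    obtain ⟨a, ha, haA, rfl⟩ := mem_qimg.1 hz
    refine hO.noncyc (Subgroup.isCyclic_of_le (H' := zpowers a) fun b hb => ?_)
    obtain ⟨n, hn⟩ := Subgroup.mem_zpowers_iff.1 (hgen ⟨qmk N b (hAN hb), qmk_mem_qimg hb⟩)
    have h1 : qmk N (a ^ n) (zpow_mem ha n) = qmk N b (hAN hb) := by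
      refine Eq.trans ?_ (congrArg Subtype.val hn)
      rw [Subgroup.coe_zpow]
      exact map_zpow (QuotientGroup.mk' _) (⟨a, ha⟩ : normalizer (N : Set G)) n
    have h2 := inv_mul_eq_one.1
      (Coprime.eq_one_of_mem_of_mem hO.cop (A.mul_mem (A.inv_mem (A.zpow_mem haA n)) hb)
        (hNK (qmk_eq_iff.1 h1)))
    exact h2 ▸ zpow_mem (mem_zpowers a) n
  norm := qimg_le_normalizer hO.norm
  cop := by
    rw [hO.card_qimg_A hAN hNK]
    exact hO.cop.coprime_dvd_right (card_qimg_dvd hKN)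
  abel a' ha' ha1 x hx y hy := by
    obtain ⟨a, ha, haA, rfl⟩ := mem_qimg.1 ha'
    have hne : a ≠ 1 := fun h => ha1 (qmk_eq_one.2 (h ▸ one_mem N))
    obtain ⟨c, hcN, hc, rfl⟩ := hO.exists_fix_lift hAN hNK le_rfl haA (hO.norm haA) hx.1
      (Subgroup.mem_centralizer_singleton_iff.1 hx.2)
    obtain ⟨d, hdN, hd, rfl⟩ := hO.exists_fix_lift hAN hNK le_rfl haA (hO.norm haA) hy.1
      (Subgroup.mem_centralizer_singleton_iff.1 hy.2)
    rw [← map_mul, ← map_mul]
    exact congrArg _ (Subtype.ext (hO.abel a haA hne c hc d hd))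

theorem Op.quot (hO : Op q A K) (hNK : N ≤ K) (hKN : K ≤ normalizer (N : Set G))
    (hAN : A ≤ normalizer (N : Set G)) : Op q (qimg N A) (qimg N K) where
  toOp0 := hO.toOp0.quot hNK hKN hAN
  fix := by
    rw [eq_bot_iff]
    rintro z ⟨hz, hzA⟩
    obtain ⟨x, hx, hxK, rfl⟩ := mem_qimg.1 hz
    obtain ⟨c, hc, hcx⟩ := Coprime.exists_mem_centralizer_of_coset hO.norm hO.cop (Or.inl hO.solvA)
      hNK hAN hxK fun a ha => conj_comm_mem (hAN ha) hx
        (Subgroup.mem_centralizer_iff.1 hzA (qmk N a (hAN ha)) (qmk_mem_qimg ha))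
    rw [hO.fix, Subgroup.mem_bot] at hc
    subst hc
    rw [one_mul] at hcx
    exact Subgroup.mem_bot.2 (qmk_eq_one.2 (inv_mem_iff.1 hcx))

end Cfsg.Agent.FPQ
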