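import Cfsg.Agent.Lib.FPQ.Module
import Cfsg.Agent.Lib.FPQ.Quot
import Cfsg.Agent.Lib.Solvable.InvariantHall
import Cfsg.Agent.Lib.Solvable.Fitting
import Cfsg.Agent.Lib.Cores.Fitting
import Cfsg.Agent.Lib.Cores.Frattini
import Cfsg.Agent.Lib.LocalCharP.Basic

/-!
# A solvable group with abelian fixed points and `C(A) = 1` has nilpotent derived group (helper25)
-/

set_option autoImplicit false
set_option linter.unusedSectionVars false

namespace Cfsg.Agent.FPQ

open Subgroup LocalCharP
open scoped Pointwise IsMulCommutative commutatorElement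

universe u

variable {G : Type u} [Group G] [Finite G]

/-- `O_{p'}(X)` inside the ambient group. -/
def opc (p : ℕ) (X : Subgroup G) : Subgroup G := (Cfsg.pPrimeCore p ↥X).map X.subtype

theorem opc_le (p : ℕ) (X : Subgroup G) : opc p X ≤ X := map_subtype_le _

theorem le_normalizer_opc (p : ℕ) (X : Subgroup G) : X ≤ normalizer (opc p X : Set G) := by
  have h : ((Cfsg.pPrimeCore p ↥X)).Normal := inferInstance
  intro x hx
  refine Coprime.mem_normalizer_of_forall ?_
  rintro _ ⟨y, hy, rfl⟩
  exact ⟨_, h.conj_mem y hy ⟨x, hx⟩, rfl⟩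

theorem normalizer_le_normalizer_opc (p : ℕ) (X : Subgroup G) :
    normalizer (X : Set G) ≤ normalizer (opc p X : Set G) := by
  have : (Cfsg.pPrimeCore p ↥X).Characteristic :=
    Subgroup.characteristic_iff_map_eq.mpr fun e => Cores.pPrimeCore_map_mulEquiv e p
  exact Cores.normalizer_le_normalizer_map _

theorem coprime_card_opc (p : ℕ) (X : Subgroup G) : (Nat.card (opc p X)).Coprime p := by
  rw [opc, Subgroup.card_map_of_injective X.subtype_injective]
  exact Cores.coprime_card_pPrimeCore p

theorem le_opc {p : ℕ} {X N : Subgroup G} (hN : N ≤ X) (hn : X ≤ normalizer (N : Set G))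
    (hc : (Nat.card N).Coprime p) : N ≤ opc p X := by
  rw [← map_subgroupOf_eq_of_le hN]
  refine map_mono (Cores.le_pPrimeCore (Cores.subgroupOf_normal_of_le_normalizer hn) ?_)
  rwa [Cores.card_subgroupOf hN]

/-- The projection of `X` to `N_G(N)/N`. -/
abbrev qhom (N X : Subgroup G) (h : X ≤ normalizer (N : Set G)) : X →* QG N :=
  (QuotientGroup.mk' _).comp (Subgroup.inclusion h)

theorem qhom_range {N X : Subgroup G} (h : X ≤ normalizer (N : Set G)) :
    (qhom N X h).range = qimg N X := by
  ext z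
  rw [mem_qimg]
  constructor
  · rintro ⟨x, rfl⟩; exact ⟨x, h x.2, x.2, rfl⟩
  · rintro ⟨x, hx, hxX, rfl⟩; exact ⟨⟨x, hxX⟩, rfl⟩

theorem qhom_ker {N X : Subgroup G} (h : X ≤ normalizer (N : Set G)) :
    (qhom N X h).ker = N.subgroupOf X := by
  ext x
  exact qmk_eq_one (hx := h x.2)

theorem disjoint_of_coprime {p : ℕ} [Fact p.Prime] {M N : Subgroup G} (hM : IsPGroup p M)
    (hN : (Nat.card N).Coprime p) {x : G} (hxM : x ∈ M) (hxN : x ∈ N) : x = 1 := by
  refine eq_one_of_coprime hM hxM (hN.coprime_dvd_left ?_)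
  rw [← Subgroup.orderOf_mk x hxN]
  exact orderOf_dvd_natCard _

theorem isNilpotent_commutator : ∀ (n : ℕ) (G : Type u) [Group G] [Finite G] (q : ℕ) (A K : Subgroup G),
    Op q A K → Group.IsSolvable K → Nat.card K = n → Group.IsNilpotent (⁅K, K⁆ : Subgroup G) := by
  intro n
  induction n using Nat.strong_induction_on with
  | _ n ih => ?_
  intro G _ _ q A K hO hsolv hn
  by_cases htriv : K = ⊥
  · subst htriv
    exact Cores.isNilpotent_of_le (le_of_eq (Subgroup.commutator_bot_left ⊥)) inferInstance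
  -- the quotient step
  have step : ∀ N : Subgroup G, N ≤ K → K ≤ normalizer (N : Set G) → A ≤ normalizer (N : Set G) → N ≠ ⊥ →
      Group.IsNilpotent (qimg N ⁅K, K⁆) := by
    intro N hNK hKN hAN hne
    rw [← qimg_commutator hKN hKN]
    refine ih _ ?_ (QG N) q (qimg N A) (qimg N K) (hO.quot hNK hKN hAN) ?_ rfl
    · rw [← hn, ← card_qimg_mul hKN hNK]
      refine lt_mul_of_one_lt_right Nat.card_pos ?_
      exact (Subgroup.one_lt_card_iff_ne_bot _).2 hne
    · rw [← qhom_range hKN]
      exact Group.isSolvable_of_surjective (f := (qhom N K hKN).rangeRestrict) (MonoidHom.rangeRestrict_surjective _)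
  have : Nontrivial K := (Subgroup.nontrivial_iff_ne_bot K).2 htriv
  obtain ⟨p, hp, M, hMn, hMne, hMp⟩ := Solvable.exists_normal_pGroup_ne_bot (↥K)
  have := Fact.mk hp
  set V := pCoreIn p K with hVdef
  have hVK : V ≤ K := pCoreIn_le p K
  have hKV : K ≤ normalizer (V : Set G) := le_normalizer_pCoreIn p K
  have hAV : A ≤ normalizer (V : Set G) := hO.norm.trans (normalizer_le_normalizer_pCoreIn p K)
  have hVne : V ≠ ⊥ := fun h => hMne (le_bot_iff.1 (by
    have h1 : M ≤ Cfsg.pCore p ↥K := Cores.le_pCore hMn hMp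
    rw [hVdef, pCoreIn, Subgroup.map_eq_bot_iff_of_injective _ K.subtype_injective] at h
    exact h ▸ h1))
  set K' : Subgroup G := ⁅K, K⁆ with hK'
  have hK'K : K' ≤ K := Subgroup.commutator_le.2 fun x hx y hy => by
    rw [commutatorElement_def]
    exact K.mul_mem (K.mul_mem (K.mul_mem hx hy) (K.inv_mem hx)) (K.inv_mem hy)
  by_cases hO' : Cfsg.pPrimeCore p ↥K = ⊥
  swap
  · -- two cores
    set U := opc p K with hU
    have hAU : A ≤ normalizer (U : Set G) := hO.norm.trans (normalizer_le_normalizer_opc p K)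
    have hUne : U ≠ ⊥ := fun h => hO' (by
      rwa [hU, opc, Subgroup.map_eq_bot_iff_of_injective _ K.subtype_injective] at h)
    have h1 := step V hVK hKV hAV hVne
    have h2 := step U (opc_le p K) (le_normalizer_opc p K) hAU hUne
    have hK'V : K' ≤ normalizer (V : Set G) := hK'K.trans hKV
    have hK'U : K' ≤ normalizer (U : Set G) := hK'K.trans (le_normalizer_opc p K)
    let f : K' →* qimg V K' × qimg U K' :=
      ((qhom V K' hK'V).codRestrict _ fun x => qmk_mem_qimg x.2).prod
        ((qhom U K' hK'U).codRestrict _ fun x => qmk_mem_qimg x.2)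
    have hf : Function.Injective f := by
      rw [injective_iff_map_eq_one]
      intro x hx
      have e1 : (x : G) ∈ V := qmk_eq_one.1 (congrArg (fun z : qimg V K' × qimg U K' => (z.1 : QG V)) hx)
      have e2 : (x : G) ∈ U := qmk_eq_one.1 (congrArg (fun z : qimg V K' × qimg U K' => (z.2 : QG U)) hx)
      exact Subtype.ext (disjoint_of_coprime (isPGroup_pCoreIn p K) (coprime_card_opc p K) e1 e2)
    have : Group.IsNilpotent f.range := Cores.isNilpotent_of_le le_top (Group.isNilpotent_top.2 inferInstance)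
    exact Group.nilpotent_of_mulEquiv (MonoidHom.ofInjective hf).symm
  -- `O_{p'} = 1`
  have hcent := Solvable.centralizer_pCore_le_of_isSolvable (G := ↥K) hO'
  set F := Cfsg.pCore p ↥K with hF
  have hFp : IsPGroup p F := Cores.isPGroup_pCore p ↥K
  by_cases hΦ : frattini F = ⊥
  swap
  · -- nilpotency lifts over the Frattini subgroup
    set D : Subgroup ↥K := (frattini F).map F.subtype with hD
    have hDn : D.Normal := Cores.map_subtype_normal_of_characteristic F _
    set N : Subgroup G := D.map K.subtype with hN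
    have hKN : K ≤ normalizer (N : Set G) := fun x hx => by
      refine Coprime.mem_normalizer_of_forall ?_
      rintro _ ⟨y, hy, rfl⟩
      exact ⟨_, hDn.conj_mem y hy ⟨x, hx⟩, rfl⟩
    have hAN : A ≤ normalizer (N : Set G) := fun a ha => by
      have h1 : N = (frattini V).map V.subtype := by
        rw [hN, hD, Subgroup.map_map]
        let e : F ≃* V := F.equivMapOfInjective K.subtype K.subtype_injective
        have h2 : (frattini F).map e.toMonoidHom = frattini V :=
          le_antisymm (Cores.map_frattini_le _ e.surjective) (by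
            have h3 := Cores.map_frattini_le e.symm.toMonoidHom e.symm.surjective
            intro x hx
            exact ⟨e.symm x, h3 ⟨x, hx, rfl⟩, e.apply_symm_apply x⟩)
        rw [← h2, Subgroup.map_map]
        rfl
      rw [h1]
      exact hAV.trans (Cores.normalizer_le_normalizer_map _) ha
    have hNne : N ≠ ⊥ := fun h => hΦ (by
      rwa [hN, hD, Subgroup.map_eq_bot_iff_of_injective _ K.subtype_injective,
        Subgroup.map_eq_bot_iff_of_injective _ F.subtype_injective] at h)
    have h1 := step N (map_subtype_le _) hKN hAN hNne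
    set g := (qhom N K hKN).rangeRestrict with hg
    set C0 : Subgroup ↥K := ⁅(⊤ : Subgroup ↥K), (⊤ : Subgroup ↥K)⁆ with hC0
    have hker : g.ker ≤ frattini ↥K := by
      intro x hx
      have hxN : (x : G) ∈ N := qmk_eq_one.1 (congrArg Subtype.val (MonoidHom.mem_ker.1 hx))
      obtain ⟨y, hy, hyx⟩ := hxN
      exact Cores.frattini_map_subtype_le F ((Subtype.ext hyx : y = x) ▸ hy)
    have hmapc : (C0.map g).map (qhom N K hKN).range.subtype = qimg N K' := by
      rw [Subgroup.map_map, hC0, Subgroup.map_commutator, ← MonoidHom.range_eq_map]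
      rw [show ((qhom N K hKN).range.subtype.comp g) = qhom N K hKN from rfl, qhom_range,
        qimg_commutator hKN hKN]
    have h2 : Group.IsNilpotent (C0.map g) := by
      have h3 : Group.IsNilpotent (qimg N K') := h1
      rw [← hmapc] at h3
      exact Group.nilpotent_of_mulEquiv
        (Subgroup.equivMapOfInjective _ _ (qhom N K hKN).range.subtype_injective).symm
    have h4 := Cores.isNilpotent_of_map_of_ker_le_frattini g (MonoidHom.rangeRestrict_surjective _) hker _ h2
    have h5 : C0.map K.subtype = K' := by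
      rw [hC0, Subgroup.map_commutator, ← MonoidHom.range_eq_map, Subgroup.range_subtype]
    rw [← h5]
    exact Group.nilpotent_of_mulEquiv (Subgroup.equivMapOfInjective _ _ K.subtype_injective)
  -- `F` is abelian and self-centralising
  have : Group.IsNilpotent F := hFp.isNilpotent
  have hFc : IsMulCommutative V := by
    have h1 : commutator F = ⊥ := le_bot_iff.1 (hΦ ▸ Cores.commutator_le_frattini)
    have h2 : ∀ a b : F, a * b = b * a := fun a b => commutatorElement_eq_one_iff_mul_comm.1
      ((Subgroup.eq_bot_iff_forall _).1 h1 _ (Subgroup.commutator_mem_commutator (mem_top a) (mem_top b)))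
    refine ⟨⟨?_⟩⟩
    rintro ⟨_, a, ha, rfl⟩ ⟨_, b, hb, rfl⟩
    exact Subtype.ext (congrArg (fun z : F => ((z : ↥K) : G)) (h2 ⟨a, ha⟩ ⟨b, hb⟩))
  have hcV : K ⊓ centralizer (V : Set G) ≤ V := hasCharP_iff.2 hcent
  have hVp : IsPGroup p V := isPGroup_pCoreIn p K
  have hcopV : ∀ {X : Subgroup G}, (Nat.card X).Coprime p → (Nat.card X).Coprime (Nat.card V) := by
    intro X hX
    obtain ⟨k, hk⟩ := IsPGroup.iff_card.1 hVp
    rw [hk]; exact hX.pow_right k
  -- the preimage of the Fitting subgroup of `K / F`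
  set π := QuotientGroup.mk' F with hπ
  set Lb := Cfsg.fittingSubgroup (↥K ⧸ F) with hLb
  have hLbn : Lb.Normal := Subgroup.sSup_normal _ fun _ h => h.1
  have hLbp : (Nat.card Lb).Coprime p := by
    have hq : Cfsg.pCore p (↥K ⧸ F) = ⊥ := Cores.pCore_quotient_self p ↥K
    refine (Cores.coprime_card_pPrimeCore (G := ↥K ⧸ F) p).coprime_dvd_left (Subgroup.card_dvd_of_le ?_)
    rw [hLb, Cores.fittingSubgroup_eq_iSup_pCore]
    refine iSup_le fun r => ?_
    have := Fact.mk r.2
    by_cases hr : (r : ℕ) = p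
    · rw [hr, hq]; exact bot_le
    · obtain ⟨k, hk⟩ := IsPGroup.iff_card.1 (Cores.isPGroup_pCore (r : ℕ) (↥K ⧸ F))
      exact Cores.le_pPrimeCore inferInstance (hk ▸ ((Nat.coprime_primes r.2 hp).2 hr).pow_left k)
  set L : Subgroup G := (Lb.comap π).map K.subtype with hL
  have hLK : L ≤ K := map_subtype_le _
  have hVL : V ≤ L := map_mono fun x hx => by
    rw [Subgroup.mem_comap, hπ, QuotientGroup.mk'_apply, (QuotientGroup.eq_one_iff x).2 hx]
    exact Lb.one_mem
  have hAL : A ≤ normalizer (L : Set G) := by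
    have : (Lb.comap π).Characteristic := by
      rw [Subgroup.characteristic_iff_map_le]
      intro e x hx
      obtain ⟨y, hy, rfl⟩ := hx
      have hFe : F.map e.toMonoidHom = F := Cores.pCore_map_mulEquiv e p
      have hFs : F ≤ F.comap e.toMonoidHom := fun z hz => by
        show e z ∈ F
        rw [← hFe]; exact ⟨z, hz, rfl⟩
      let eb : (↥K ⧸ F) ≃* (↥K ⧸ F) := QuotientGroup.congr F F e hFe
      show π (e y) ∈ Lb
      have h1 : π (e y) = eb (π y) := (QuotientGroup.congr_mk F F e hFe y).symm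
      rw [h1, hLb, ← Cores.fittingSubgroup_map_mulEquiv eb]
      exact ⟨π y, hy, rfl⟩
    exact hO.norm.trans (Cores.normalizer_le_normalizer_map _)
  obtain ⟨N, hN, hNA, -⟩ := Solvable.exists_invariant_hall_ge hAL (hO.cop_le hLK)
    (Coprime.isSolvable_of_le hLK hsolv) ({p}ᶜ : Set ℕ) (U := ⊥) bot_le
    (fun a _ => Coprime.mem_normalizer_of_forall fun x hx => by
      rw [Subgroup.mem_bot] at hx ⊢; rw [hx]; group) (by intro r hr hd; rw [Subgroup.card_bot] at hd; exact absurd (Nat.dvd_one.1 hd) hr.ne_one)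
  have hNL : N ≤ L := hN.1
  have hNK : N ≤ K := hNL.trans hLK
  have hNp : (Nat.card N).Coprime p := Nat.coprime_of_dvd fun r hr h1 h2 =>
    hN.2.1 r hr h1 ((Nat.prime_dvd_prime_iff_eq hr hp).1 h2)
  have hNV : N ≤ normalizer (V : Set G) := hNK.trans hKV
  -- `|L| = |V| |N|`
  have hcardL : Nat.card L = Nat.card V * Nat.card Lb := by
    rw [hL, Subgroup.card_map_of_injective K.subtype_injective, hVdef, pCoreIn,
      Subgroup.card_map_of_injective K.subtype_injective, mul_comm]
    have h := Cores.card_map_mul_ker π (Lb.comap π) (MonoidHom.ker_le_comap π Lb)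
    rw [Subgroup.map_comap_eq_self_of_surjective (QuotientGroup.mk'_surjective F), QuotientGroup.ker_mk'] at h
    exact h.symm
  have hcardN : Nat.card N = Nat.card Lb := by
    have h1 : Nat.card N * N.relIndex L = Nat.card L := by
      have h2 := Subgroup.relIndex_mul_relIndex ⊥ N L bot_le hNL
      rwa [Subgroup.relIndex_bot_left, Subgroup.relIndex_bot_left] at h2
    refine Nat.dvd_antisymm ?_ ?_
    · refine ((hcopV hNp).dvd_of_dvd_mul_left ?_)
      rw [← hcardL, ← h1]; exact dvd_mul_right _ _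
    · have h3 : (Nat.card Lb).Coprime (N.relIndex L) := Nat.coprime_of_dvd fun r hr h4 h5 => by
        refine hN.2.2 r hr (fun h6 => ?_) h5
        rw [Set.mem_singleton_iff] at h6
        exact Nat.not_coprime_of_dvd_of_dvd hr.one_lt h4 (h6 ▸ dvd_refl p) hLbp
      refine h3.dvd_of_dvd_mul_right ?_
      rw [h1, hcardL]; exact dvd_mul_left _ _
  have hLeq : V ⊔ N = L := Subgroup.eq_of_le_of_card_ge (sup_le hVL hNL) (by
    rw [Coprime.card_sup_of_coprime hNV (hcopV hNp).symm, hcardL, hcardN])
  have hNinf : ∀ {x : G}, x ∈ V → x ∈ N → x = 1 := fun hxV hxN => disjoint_of_coprime hVp hNp hxV hxN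
  -- the image of `N` is the whole Fitting subgroup
  let fN : N →* ↥K ⧸ F := π.comp (Subgroup.inclusion hNK)
  have hfN : Function.Injective fN := by
    rw [injective_iff_map_eq_one]
    intro x hx
    refine Subtype.ext (hNinf ?_ x.2)
    exact ⟨⟨x, hNK x.2⟩, (QuotientGroup.eq_one_iff _).1 hx, rfl⟩
  have hfNr : fN.range = Lb := by
    refine Subgroup.eq_of_le_of_card_ge ?_ (le_of_eq ?_)
    · rintro _ ⟨x, rfl⟩
      obtain ⟨y, hy, hyx⟩ := hNL x.2
      have : y = ⟨x, hNK x.2⟩ := Subtype.ext hyx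
      rw [this] at hy
      exact hy
    · rw [← hcardN]
      exact Nat.card_congr (MonoidHom.ofInjective hfN).toEquiv
  have hNn : Group.IsNilpotent N := by
    have : Group.IsNilpotent fN.range := by rw [hfNr, hLb]; exact Cores.fittingSubgroup_isNilpotent
    exact Group.nilpotent_of_mulEquiv (MonoidHom.ofInjective hfN).symm
  have hNfaith : N ⊓ centralizer (V : Set G) = ⊥ := by
    rw [eq_bot_iff]
    intro x hx
    exact Subgroup.mem_bot.2 (hNinf (hcV ⟨hNK hx.1, hx.2⟩) hx.1)
  have hNab : IsMulCommutative N := by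
    have h1 := hO.commutator_le_centralizer hNK hNA hNn V hVK hAV hNV (hcopV hNp)
    refine ⟨⟨fun x y => Subtype.ext (commutatorElement_eq_one_iff_mul_comm.1 ?_)⟩⟩
    rw [← Subgroup.mem_bot, ← hNfaith]
    exact ⟨(by
      rw [commutatorElement_def]
      exact N.mul_mem (N.mul_mem (N.mul_mem x.2 y.2) (N.inv_mem x.2)) (N.inv_mem y.2)),
      h1 (Subgroup.commutator_mem_commutator x.2 y.2)⟩
  -- the normaliser of `N` centralises it
  set X := K ⊓ normalizer (N : Set G) with hX
  have hXN : X ≤ centralizer (N : Set G) := hO.le_of_lines inf_le_left (inv_inf hO.norm (inv_normalizer hNA))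
    fun a ha ha1 => hO.le_centralizer_of_line hVK hAV hNK hNA hNV (hcopV hNp) hNfaith ha ha1
      (inf_le_inf_right _ inf_le_left) (hO.inv_inf_line ha (inv_inf hO.norm (inv_normalizer hNA)))
      (inf_le_left.trans inf_le_right) (inf_le_left.trans (inf_le_left.trans hKV))
  have hLn : K ≤ normalizer (L : Set G) := fun x hx => by
    refine Coprime.mem_normalizer_of_forall ?_
    rintro _ ⟨y, hy, rfl⟩
    exact ⟨_, (inferInstance : (Lb.comap π).Normal).conj_mem y hy ⟨x, hx⟩, rfl⟩
  have hKX : K ≤ V ⊔ X := by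
    intro k hk
    have hle : MulAut.conj k • N ≤ V ⊔ N := by
      rw [hLeq]
      intro x hx
      have h1 := commute_conj_mem (hLn hk) (hNL (Coprime.mem_conj.1 hx))
      group at h1
      simpa using h1
    obtain ⟨v, hv, hvN⟩ := Coprime.exists_conj_eq_of_le_sup hNV (hcopV hNp)
      (Or.inr (Coprime.isSolvable_of_le hVK hsolv)) hle (Coprime.card_conj k N)
    have h2 : v⁻¹ * k ∈ X := ⟨K.mul_mem (K.inv_mem (hVK hv)) hk, Coprime.mem_normalizer_of_conj_eq (by
      rw [← Solvable.conj_conj, ← hvN, Solvable.conj_inv_smul])⟩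
    have := Subgroup.mul_mem_sup hv h2
    rwa [mul_inv_cancel_left] at this
  have hXL : X ≤ L := by
    intro x hx
    have h1 : π ⟨x, hx.1⟩ ∈ centralizer (Lb : Set (↥K ⧸ F)) := by
      rw [← hfNr]
      refine Subgroup.mem_centralizer_iff.2 ?_
      rintro _ ⟨y, rfl⟩
      show π ⟨y, hNK y.2⟩ * π ⟨x, hx.1⟩ = π ⟨x, hx.1⟩ * π ⟨y, hNK y.2⟩
      rw [← map_mul, ← map_mul]
      exact congrArg π (Subtype.ext (Subgroup.mem_centralizer_iff.1 (hXN hx) y y.2))
    exact ⟨⟨x, hx.1⟩, Solvable.centralizer_fitting_le (↥K ⧸ F) h1, rfl⟩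
  have hKL : K = V ⊔ N := le_antisymm (hKX.trans (sup_le le_sup_left (hLeq.symm ▸ hXL)))
    (sup_le hVK hNK)
  have hle : K' ≤ V := by
    rw [hK', Subgroup.commutator_le]
    intro x hx y hy
    rw [hKL] at hx hy
    obtain ⟨v, hv, a, ha, rfl⟩ := (Coprime.mem_sup_iff hNV).1 hx
    obtain ⟨w, hw, b, hb, rfl⟩ := (Coprime.mem_sup_iff hNV).1 hy
    have hπv : ∀ {z : G} (hz : z ∈ V), π ⟨z, hVK hz⟩ = 1 := fun hz => by
      obtain ⟨z', hz', he⟩ := hz
      refine (QuotientGroup.eq_one_iff _).2 ?_
      have e : z' = ⟨_, hVK ⟨z', hz', he⟩⟩ := Subtype.ext he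
      rw [e] at hz'
      exact hz'
    have h1 : π ⁅(⟨v, hVK hv⟩ : ↥K) * ⟨a, hNK ha⟩, (⟨w, hVK hw⟩ : ↥K) * ⟨b, hNK hb⟩⁆ = 1 := by
      rw [map_commutatorElement, map_mul, map_mul, hπv hv, hπv hw, one_mul, one_mul,
        commutatorElement_eq_one_iff_mul_comm, ← map_mul, ← map_mul]
      exact congrArg π (Subtype.ext (setLike_mul_comm ha hb))
    exact ⟨_, (QuotientGroup.eq_one_iff _).1 h1, rfl⟩
  exact Cores.isNilpotent_of_le hle hVp.isNilpotent

/-- The derived group of a solvable invariant group is nilpotent. -/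
theorem Op.nilpotent_commutator {q : ℕ} {A K : Subgroup G} (hO : Op q A K) (h : Group.IsSolvable K) :
    Group.IsNilpotent (⁅K, K⁆ : Subgroup G) :=
  isNilpotent_commutator _ G q A K hO h rfl

end Cfsg.Agent.FPQ
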