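import Cfsg.Agent.Lib.FPQ.Endgame

/-!
# A noncyclic group of order `q²` with abelian centralisers forces solvability (helper25)

* `Cx.exists_pr`: two invariant Sylow subgroups lie in a common invariant `{p, r}`-subgroup
* `Cx.false`, `Op0.isSolvable`
-/

set_option autoImplicit false
set_option linter.unusedSectionVars false

namespace Cfsg.Agent.FPQ

open Subgroup
open scoped Pointwise IsMulCommutative

universe u

variable {G : Type u} [Group G] [Finite G]

/-- A finite group with normal solvable subgroup `N` and solvable image in `N_G(N)/N` is solvable. -/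
theorem isSolvable_of_qimg {N X : Subgroup G} (hNX : N ≤ X) (hX : X ≤ normalizer (N : Set G))
    (hN : Group.IsSolvable N) (hq : Group.IsSolvable (qimg N X)) : Group.IsSolvable X := by
  let f : X →* qimg N X :=
    ((QuotientGroup.mk' (N.subgroupOf (normalizer (N : Set G)))).comp (Subgroup.inclusion hX)).codRestrict
      (qimg N X) fun x => mem_qimg.2 ⟨x, hX x.2, x.2, rfl⟩
  refine Group.isSolvable_of_ker_le_range (Subgroup.inclusion hNX) f fun x hx => ?_
  have h1 : qmk N (x : G) (hX x.2) = 1 := congrArg Subtype.val hx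
  exact ⟨⟨x, qmk_eq_one.1 h1⟩, Subtype.ext rfl⟩

variable {q : ℕ} {A K : Subgroup G}

/-- Any two invariant Sylow subgroups of a minimal counterexample lie in a common `{p, r}`-subgroup. -/
theorem Cx.exists_pr (hC : Cx q A K) {p r : ℕ} (hp : p.Prime) (hr : r.Prime) (hne : p ≠ r)
    {P R : Subgroup G} (hP : ISylow A K p P) (hR : ISylow A K r R) :
    ∃ M : Subgroup G, IsPr A K p r M ∧ P ≤ M ∧ R ≤ M := by
  by_contra h
  have hpair : PrPair q A K p r P R :=
    { toCx := hC, pPrime := hp, rPrime := hr, pne := hne, isylP := hP, isylR := hR,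
      notPerm := fun M hM h1 h2 => h ⟨M, hM, h1, h2⟩ }
  exact hpair.false

theorem Cx.exists_isylow' (hC : Cx q A K) (p : ℕ) (hp : p.Prime) :
    ∃ P : Subgroup G, ISylow A K p P ∧ Nat.card P = p ^ (Nat.card K).factorization p := by
  have := Fact.mk hp
  obtain ⟨P, hP, hmax⟩ := hC.exists_isylow p
  refine ⟨(P : Subgroup K).map K.subtype, ⟨map_subtype_le _, hP, P.2.map _, hmax⟩, ?_⟩
  rw [Subgroup.card_map_of_injective K.subtype_injective, P.card_eq_multiplicity]

/-- `P` and `R` permute. -/
theorem Cx.permute (hC : Cx q A K) {p r : ℕ} (hp : p.Prime) (hr : r.Prime) (hne : p ≠ r)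
    {P R : Subgroup G} (hP : ISylow A K p P) (hR : ISylow A K r R) :
    ∀ y ∈ R, ∀ x ∈ P, ∃ x' ∈ P, ∃ y' ∈ R, y * x = x' * y' := by
  obtain ⟨M, hM, hPM, hRM⟩ := hC.exists_pr hp hr hne hP hR
  intro y hy x hx
  have := Fact.mk hp
  have := Fact.mk hr
  have hd : Disjoint P R := disjoint_iff.2 <| eq_bot_iff.2 fun z hz => Subgroup.mem_bot.2
    (disjoint_of_coprime hP.pgroup (coprime_of_isPGroup hne.symm hR.pgroup) hz.1 hz.2)
  have hcard : Nat.card M ∣ Nat.card P * Nat.card R := by
    rw [Nat.dvd_iff_prime_pow_dvd_dvd]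
    intro t n ht hn
    rcases Nat.eq_zero_or_pos n with rfl | hn0
    · simp
    have := Fact.mk ht
    have hcop : (Nat.card A).Coprime (Nat.card M) := hC.toOp.cop_le hM.le
    obtain ⟨Q, hQ⟩ := Coprime.exists_invariant_sylow hM.inv hcop (Or.inl hC.toOp.solvA) t
    have hQK : (Q : Subgroup M).map M.subtype ≤ K := (map_subtype_le _).trans hM.le
    have hc : t ^ n ∣ Nat.card ((Q : Subgroup M).map M.subtype) := by
      rw [Subgroup.card_map_of_injective M.subtype_injective, Q.card_eq_multiplicity]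
      exact pow_dvd_pow t ((Nat.Prime.pow_dvd_iff_le_factorization ht Nat.card_pos.ne').1 hn)
    rcases hM.primes t ht ((dvd_pow_self t hn0.ne').trans hn) with rfl | rfl
    · exact (hc.trans (Subgroup.card_dvd_of_le (hP.max _ hQK hQ (Q.2.map _)))).trans (dvd_mul_right _ _)
    · exact (hc.trans (Subgroup.card_dvd_of_le (hR.max _ hQK hQ (Q.2.map _)))).trans (dvd_mul_left _ _)
  let f : P × R → M := fun c => ⟨c.1 * c.2, M.mul_mem (hPM c.1.2) (hRM c.2.2)⟩
  have hinj : Function.Injective f := fun c d hcd =>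
    Subgroup.mul_injective_of_disjoint hd (congrArg Subtype.val hcd)
  have hbij : Function.Bijective f := (Nat.bijective_iff_injective_and_card f).2 ⟨hinj,
    le_antisymm (Nat.card_le_card_of_injective f hinj) (by
      rw [Nat.card_prod]; exact Nat.le_of_dvd (Nat.mul_pos Nat.card_pos Nat.card_pos) hcard)⟩
  obtain ⟨⟨a, b⟩, hab⟩ := hbij.2 ⟨y * x, M.mul_mem (hRM hy) (hPM hx)⟩
  exact ⟨a, a.2, b, b.2, (congrArg Subtype.val hab).symm⟩

/-- Products of a family of permuting Sylow subgroups. -/
theorem Cx.exists_hall_of_finset (hC : Cx q A K) (S : Finset ℕ) (hS : ∀ s ∈ S, s.Prime) :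
    ∃ H : Subgroup G, H ≤ K ∧ Nat.card H = ∏ s ∈ S, s ^ (Nat.card K).factorization s ∧
      ∀ r, r.Prime → r ∉ S → ∀ R : Subgroup G, ISylow A K r R →
        ∀ y ∈ H, ∀ x ∈ R, ∃ x' ∈ R, ∃ y' ∈ H, y * x = x' * y' := by
  induction S using Finset.induction_on with
  | empty =>
    refine ⟨⊥, bot_le, by simp, fun r _ _ R _ y hy x hx => ⟨x, hx, 1, one_mem _, ?_⟩⟩
    rw [Subgroup.mem_bot.1 hy]; group
  | @insert s S hsS ih =>
    obtain ⟨H, hHK, hcard, hperm⟩ := ih fun t ht => hS t (Finset.mem_insert_of_mem ht)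
    have hs : s.Prime := hS s (Finset.mem_insert_self _ _)
    obtain ⟨P, hP, hPc⟩ := hC.exists_isylow' s hs
    have hHP := hperm s hs hsS P hP
    let H' : Subgroup G :=
      { carrier := {g | ∃ a ∈ P, ∃ b ∈ H, g = a * b}
        one_mem' := ⟨1, P.one_mem, 1, H.one_mem, by simp⟩
        mul_mem' := by
          rintro _ _ ⟨a, ha, b, hb, rfl⟩ ⟨a', ha', b', hb', rfl⟩
          obtain ⟨a'', ha'', b'', hb'', e⟩ := hHP b hb a' ha'
          exact ⟨a * a'', P.mul_mem ha ha'', b'' * b', H.mul_mem hb'' hb', by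
            rw [mul_assoc a, ← mul_assoc b, e]; group⟩
        inv_mem' := by
          rintro _ ⟨a, ha, b, hb, rfl⟩
          obtain ⟨a'', ha'', b'', hb'', e⟩ := hHP b⁻¹ (H.inv_mem hb) a⁻¹ (P.inv_mem ha)
          exact ⟨a'', ha'', b'', hb'', by rw [mul_inv_rev, e]⟩ }
    refine ⟨H', ?_, ?_, fun r hr hrS R hR => ?_⟩
    · rintro _ ⟨a, ha, b, hb, rfl⟩
      exact K.mul_mem (hP.le ha) (hHK hb)
    · have hcop : (Nat.card P).Coprime (Nat.card H) := by
        rw [hPc, hcard]
        refine Nat.Coprime.prod_right fun t ht => Nat.Coprime.pow _ _ ?_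
        exact (Nat.coprime_primes hs (hS t (Finset.mem_insert_of_mem ht))).2 fun e => hsS (e ▸ ht)
      have hbij : Function.Bijective (fun c : P × H => (⟨c.1 * c.2, c.1, c.1.2, c.2, c.2.2, rfl⟩ : H')) := by
        refine ⟨fun c d hcd => Subgroup.mul_injective_of_disjoint (disjoint_iff.2
          (Subgroup.disjoint_of_coprime_natCard hcop).eq_bot) (congrArg Subtype.val hcd), ?_⟩
        rintro ⟨_, a, ha, b, hb, rfl⟩
        exact ⟨(⟨a, ha⟩, ⟨b, hb⟩), rfl⟩
      rw [← Nat.card_congr (Equiv.ofBijective _ hbij), Nat.card_prod, Finset.prod_insert hsS, hPc, hcard]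
    · rintro _ ⟨a, ha, b, hb, rfl⟩ x hx
      have hrs : r ≠ s := fun e => hrS (e ▸ Finset.mem_insert_self _ _)
      obtain ⟨x1, hx1, b', hb', e1⟩ :=
        hperm r hr (fun h => hrS (Finset.mem_insert_of_mem h)) R hR b hb x hx
      obtain ⟨x2, hx2, a', ha', e2⟩ := hC.permute hr hs hrs hR hP a ha x1 hx1
      refine ⟨x2, hx2, a' * b', ⟨a', ha', b', hb', rfl⟩, ?_⟩
      rw [mul_assoc, e1, ← mul_assoc, e2, mul_assoc]

/-- There is no minimal counterexample. -/
theorem Cx.false (hC : Cx q A K) : False := by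
  refine hC.nsol (Solvable.isSolvable_of_complementSystem fun t ht => ?_)
  set S := (Nat.card K).primeFactors.erase t with hS
  obtain ⟨H, hHK, hcard, -⟩ := hC.exists_hall_of_finset S
    fun s hs => Nat.prime_of_mem_primeFactors (Finset.mem_of_mem_erase hs)
  refine ⟨H.subgroupOf K, ?_⟩
  have h1 : Nat.card H * (H.subgroupOf K).index = Nat.card K := by
    rw [← Subgroup.card_mul_index (H.subgroupOf K), Nat.card_congr (subgroupOfEquivOfLe hHK).toEquiv]
  have h2 : Nat.card H * t ^ (Nat.card K).factorization t = Nat.card K := by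
    rw [hcard]
    have hprod := Nat.prod_factorization_pow_eq_self (Nat.card_pos (α := K)).ne'
    rw [Finsupp.prod, Nat.support_factorization] at hprod
    conv_rhs => rw [← hprod]
    by_cases ht' : t ∈ (Nat.card K).primeFactors
    · rw [hS, Finset.prod_erase_mul _ _ ht']
    · rw [hS, Finset.erase_eq_of_notMem ht']
      rw [← Nat.support_factorization, Finsupp.notMem_support_iff] at ht'
      rw [ht', pow_zero, mul_one]
  exact Nat.eq_of_mul_eq_mul_left Nat.card_pos (h1.trans h2.symm)

theorem Op0.isSolvable_aux (n : ℕ) : ∀ {G : Type u} [Group G] [Finite G] {q : ℕ} {A K : Subgroup G},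
    Op0 q A K → Nat.card K = n → Group.IsSolvable K := by
  induction n using Nat.strong_induction_on with
  | _ n ih =>
    intro G _ _ q A K hO hn
    by_cases hN : ∃ N : Subgroup G, N ≤ K ∧ A ≤ normalizer (N : Set G) ∧ K ≤ normalizer (N : Set G) ∧
        N ≠ ⊥ ∧ N ≠ K
    · obtain ⟨N, hNK, hAN, hKN, hne, hneK⟩ := hN
      have hlt : Nat.card N < Nat.card K := lt_of_le_of_ne (Subgroup.card_le_of_le hNK)
        fun h => hneK (Subgroup.eq_of_le_of_card_ge hNK h.ge)
      have hlt' : Nat.card (qimg N K) < Nat.card K := by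
        have h1 := card_qimg_mul hKN hNK
        have h2 : 1 < Nat.card N := (Subgroup.one_lt_card_iff_ne_bot N).2 hne
        have h3 : 0 < Nat.card (qimg N K) := Nat.card_pos
        nlinarith
      exact isSolvable_of_qimg hNK hKN (ih _ (hn ▸ hlt) (hO.mono hNK hAN) rfl)
        (ih _ (hn ▸ hlt') (hO.quot hNK hKN hAN) rfl)
    push Not at hN
    have := hO.isMulComm
    set C := K ⊓ centralizer (A : Set G) with hC
    have hKC : K ≤ centralizer (C : Set G) := by
      refine Coprime.le_of_noncyclic hO.noncyc hO.norm hO.cop fun a ha ha1 x hx => ?_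
      refine Subgroup.mem_centralizer_iff.2 fun c hc => (hO.abel a ha ha1 x hx c ⟨hc.1, ?_⟩).symm
      exact Subgroup.centralizer_le (Set.singleton_subset_iff.2 ha) hc.2
    have hCA : A ≤ normalizer (C : Set G) := inv_inf hO.norm (inv_centralizer Subgroup.le_normalizer)
    have hCK : K ≤ normalizer (C : Set G) := hKC.trans (Subgroup.centralizer_le_normalizer _)
    by_cases hC0 : C = ⊥
    · by_contra hns
      refine Cx.false (q := q) (A := A) (K := K) { toOp0 := hO, fix := hC0, nsol := hns, min := ?_, sol := ?_ }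
      · intro X hXK hXA hne
        exact ih _ (hn ▸ lt_of_le_of_ne (Subgroup.card_le_of_le hXK)
          fun h => hne (Subgroup.eq_of_le_of_card_ge hXK h.ge)) (hO.mono hXK hXA) rfl
      · intro N h1 h2 h3
        by_cases h4 : N = ⊥
        · exact Or.inl h4
        · exact Or.inr (hN N h1 h2 h3 h4)
    · have hCeq : C = K := hN C inf_le_left hCA hCK hC0
      refine Group.isSolvable_of_comm fun a b => Subtype.ext ?_
      have hb : (b : G) ∈ C := hCeq.symm ▸ b.2
      exact (Subgroup.mem_centralizer_iff.1 (hKC a.2) b hb).symm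

/-- A finite group acted on coprimely by a noncyclic group of order `q²` with abelian centralisers is
solvable. -/
theorem Op0.isSolvable (hO : Op0 q A K) : Group.IsSolvable K := Op0.isSolvable_aux _ hO rfl

end Cfsg.Agent.FPQ
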