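import Cfsg.Agent.Lib.FPQ.Setup

/-!
# Invariant subgroups acting on an abelian invariant group (helper25)

* `mem_normalizer_commutator`, `centralizes_of_two`
* `commutator_le_centralizer`: the derived group of a coprime nilpotent invariant group acts trivially
* `le_centralizer_of_line`: a line group normalising a faithful abelian coprime invariant group centralises it
-/

set_option autoImplicit false
set_option linter.unusedSectionVars false

namespace Cfsg.Agent.FPQ

open Subgroup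
open scoped Pointwise IsMulCommutative commutatorElement

variable {G : Type*} [Group G] [Finite G]

theorem conj_eq_of_mem_centralizer {V : Subgroup G} {c v : G} (hc : c ∈ centralizer (V : Set G)) (hv : v ∈ V) :
    c * v * c⁻¹ = v := by
  rw [← Subgroup.mem_centralizer_iff.1 hc v hv, mul_inv_cancel_right]

/-- An element normalising `V` and commuting with `Z` modulo `C(V)` normalises `[V,Z]`. -/
theorem mem_normalizer_commutator {V Z : Subgroup G} {x : G} (hxV : x ∈ normalizer (V : Set G))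
    (hZV : Z ≤ normalizer (V : Set G)) (h : ∀ z ∈ Z, ⁅x, z⁆ ∈ centralizer (V : Set G)) :
    x ∈ normalizer (⁅V, Z⁆ : Subgroup G) := by
  refine Coprime.mem_normalizer_of_forall fun y hy => ?_
  suffices hle : ⁅V, Z⁆ ≤ (⁅V, Z⁆).comap (MulAut.conj x).toMonoidHom from hle hy
  rw [Subgroup.commutator_le]
  intro v hv z hz
  show x * ⁅v, z⁆ * x⁻¹ ∈ ⁅V, Z⁆
  set c := ⁅x, z⁆ with hc
  set v' := x * v * x⁻¹ with hv'
  have h1 : v' ∈ V := commute_conj_mem hxV hv
  have h2 : x * ⁅v, z⁆ * x⁻¹ = v' * (c * (z * v'⁻¹ * z⁻¹) * c⁻¹) := by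
    rw [hc, hv', commutatorElement_def, commutatorElement_def]; group
  rw [h2, conj_eq_of_mem_centralizer (h z hz) (commute_conj_mem (hZV hz) (inv_mem h1))]
  have := Subgroup.commutator_mem_commutator h1 hz
  rw [commutatorElement_def] at this
  simpa [mul_assoc] using this

theorem mem_normalizer_fixed {V Z : Subgroup G} {x : G} (hxV : x ∈ normalizer (V : Set G))
    (h : ∀ z ∈ Z, ⁅x, z⁆ ∈ centralizer (V : Set G)) :
    x ∈ normalizer ((V ⊓ centralizer (Z : Set G) : Subgroup G) : Set G) := by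
  refine Coprime.mem_normalizer_of_forall fun v hv => ⟨commute_conj_mem hxV hv.1, ?_⟩
  refine Subgroup.mem_centralizer_iff.2 fun z hz => ?_
  have h1 := Subgroup.mem_centralizer_iff.1 hv.2 z hz
  have hv' := commute_conj_mem hxV hv.1
  have h2 := conj_eq_of_mem_centralizer (h z hz) hv'
  have h3 : ⁅x, z⁆ * (z * (x * v * x⁻¹) * z⁻¹) * ⁅x, z⁆⁻¹ = x * v * x⁻¹ := by
    calc ⁅x, z⁆ * (z * (x * v * x⁻¹) * z⁻¹) * ⁅x, z⁆⁻¹ = x * (z * v * z⁻¹) * x⁻¹ := by
          rw [commutatorElement_def]; group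
      _ = x * v * x⁻¹ := by rw [h1, mul_inv_cancel_right]
  have h4 : z * (x * v * x⁻¹) * z⁻¹ = x * v * x⁻¹ := by
    have h5 : ⁅x, z⁆ * (z * (x * v * x⁻¹) * z⁻¹) * ⁅x, z⁆⁻¹ = ⁅x, z⁆ * (x * v * x⁻¹) * ⁅x, z⁆⁻¹ :=
      h3.trans h2.symm
    exact mul_left_cancel (mul_right_cancel h5)
  rw [mul_inv_eq_iff_eq_mul] at h4
  exact h4

theorem centralizer_of_commutator_eq_bot {V Z : Subgroup G} (h : ⁅V, Z⁆ = ⊥) :
    Z ≤ centralizer (V : Set G) :=
  Subgroup.commutator_eq_bot_iff_le_centralizer.1 (by rw [Subgroup.commutator_comm, h])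

namespace Op

variable {q : ℕ} {A K : Subgroup G} (hO : Op q A K)
include hO

/-- A coprime line group commuting with a fixed-point-free group of another line centralises `V`. -/
theorem centralizes_of_two {a b : G} (ha : a ∈ A) (ha1 : a ≠ 1) (hb : b ∈ A) (hab : b ∉ zpowers a)
    {V Y Z : Subgroup G} [IsMulCommutative V] (hVK : V ≤ K) (hVA : A ≤ normalizer (V : Set G))
    (hY : Y ≤ K ⊓ centralizer {a}) (hYA : A ≤ normalizer (Y : Set G))
    (_hYV : Y ≤ normalizer (V : Set G)) (hCY : V ⊓ centralizer (Y : Set G) = ⊥)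
    (hZ : Z ≤ K ⊓ centralizer {b}) (hZA : A ≤ normalizer (Z : Set G))
    (hZV : Z ≤ normalizer (V : Set G)) (hcop : (Nat.card Z).Coprime (Nat.card V))
    (hYZ : Y ≤ normalizer (⁅V, Z⁆ : Subgroup G)) : Z ≤ centralizer (V : Set G) := by
  have hle : ⁅V, Z⁆ ≤ V := Subgroup.le_normalizer_iff_commutator_le_left.1 hZV
  have : IsMulCommutative (⁅V, Z⁆ : Subgroup G) :=
    ⟨⟨fun x y => Subtype.ext (setLike_mul_comm (hle x.2) (hle y.2))⟩⟩
  refine centralizer_of_commutator_eq_bot (hO.eq_bot_of_two ha ha1 hb hab (hle.trans hVK)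
    (inv_commutator hVA hZA) hY hYA hYZ ?_ hZ hZA ?_ ?_)
  · exact le_bot_iff.1 ((inf_le_inf_right _ hle).trans hCY.le)
  · exact fun z hz => mem_normalizer_commutator (hZV hz) hZV fun z' hz' => by
      rw [commutatorElement_eq_one_iff_mul_comm.2
        (hO.comm_line hb (hO.ne_one_of_not_mem hab) (hZ hz).1 (hZ hz).2 (hZ hz').1 (hZ hz').2)]
      exact one_mem _
  · refine le_bot_iff.1 (le_trans ?_ (Coprime.abelian_inf_eq_bot hZV hcop).le)
    exact le_inf (le_inf (inf_le_left.trans hle) inf_le_right) inf_le_left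

/-- The derived group of a coprime nilpotent invariant group centralises an abelian invariant group. -/
theorem commutator_le_centralizer {X : Subgroup G} (hX : X ≤ K) (hXA : A ≤ normalizer (X : Set G))
    (hXn : Group.IsNilpotent X) : ∀ (V : Subgroup G) [IsMulCommutative V], V ≤ K →
      A ≤ normalizer (V : Set G) → X ≤ normalizer (V : Set G) → (Nat.card X).Coprime (Nat.card V) →
      ⁅X, X⁆ ≤ centralizer (V : Set G) := by
  suffices h : ∀ n : ℕ, ∀ (V : Subgroup G) [IsMulCommutative V], Nat.card V = n → V ≤ K →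
      A ≤ normalizer (V : Set G) → X ≤ normalizer (V : Set G) → (Nat.card X).Coprime (Nat.card V) →
      ⁅X, X⁆ ≤ centralizer (V : Set G) from fun V _ => h _ V rfl
  intro n
  induction n using Nat.strong_induction_on with
  | _ n ih => ?_
  intro V _ hn hVK hVA hXV hcop
  by_contra hne
  set C : Subgroup X := (centralizer (V : Set G)).subgroupOf X with hC
  have hCn : C.Normal := by
    refine ⟨fun c hc x => Subgroup.mem_subgroupOf.2 ?_⟩
    refine Subgroup.mem_centralizer_iff.2 fun v hv => ?_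
    have h1 : (x : G)⁻¹ * v * x ∈ V := (Subgroup.mem_normalizer_iff''.1 (hXV x.2) v).1 hv
    have h2 := Subgroup.mem_centralizer_iff.1 (Subgroup.mem_subgroupOf.1 hc) _ h1
    simp only [Subgroup.coe_mul, Subgroup.coe_inv]
    calc v * ((x : G) * c * (x : G)⁻¹) = x * (((x : G)⁻¹ * v * x) * c) * (x : G)⁻¹ := by group
      _ = x * (c * ((x : G)⁻¹ * v * x)) * (x : G)⁻¹ := by rw [h2]
      _ = x * c * (x : G)⁻¹ * v := by group
  set π := QuotientGroup.mk' C with hπ
  set Z₀ : Subgroup G := ((Subgroup.center (X ⧸ C)).comap π).map X.subtype with hZ0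
  have hmemZ : ∀ z ∈ Z₀, z ∈ X ∧ ∀ x ∈ X, ⁅x, z⁆ ∈ centralizer (V : Set G) := by
    rintro _ ⟨z, hz, rfl⟩
    refine ⟨z.2, fun x hx => ?_⟩
    have h1 := Subgroup.mem_center_iff.1 (Subgroup.mem_comap.1 hz) (π ⟨x, hx⟩)
    have h2 : π ⁅(⟨x, hx⟩ : X), z⁆ = 1 := by
      rw [map_commutatorElement, commutatorElement_eq_one_iff_mul_comm]; exact h1
    rw [hπ, QuotientGroup.mk'_apply, QuotientGroup.eq_one_iff] at h2
    exact h2
  have hZ0X : Z₀ ≤ X := Subgroup.map_subtype_le _
  have hmemZ' : ∀ z ∈ X, (∀ x ∈ X, ⁅x, z⁆ ∈ centralizer (V : Set G)) → z ∈ Z₀ := by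
    intro z hz h
    refine ⟨⟨z, hz⟩, Subgroup.mem_comap.2 (Subgroup.mem_center_iff.2 fun w => ?_), rfl⟩
    obtain ⟨x, rfl⟩ := QuotientGroup.mk'_surjective C w
    rw [← commutatorElement_eq_one_iff_mul_comm, ← map_commutatorElement, QuotientGroup.mk'_apply,
      QuotientGroup.eq_one_iff]
    exact h x x.2
  have hCA : A ≤ normalizer ((centralizer (V : Set G) : Subgroup G) : Set G) := inv_centralizer hVA
  have hZ0A : A ≤ normalizer (Z₀ : Set G) := fun a ha => by
    refine Coprime.mem_normalizer_of_forall fun z hz => hmemZ' _ (commute_conj_mem (hXA ha) (hZ0X hz))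
      fun x hx => ?_
    have h1 : a⁻¹ * x * a ∈ X := (Subgroup.mem_normalizer_iff''.1 (hXA ha) x).1 hx
    have h2 := commute_conj_mem (hCA ha) ((hmemZ z hz).2 _ h1)
    rw [commutatorElement_def] at h2 ⊢
    group at h2 ⊢
    exact h2
  have hnt : Nontrivial (X ⧸ C) := by
    by_contra h
    rw [not_nontrivial_iff_subsingleton] at h
    refine hne (Subgroup.commutator_le.2 fun x hx y hy => ?_)
    have h1 : π ⁅(⟨x, hx⟩ : X), ⟨y, hy⟩⁆ = 1 := Subsingleton.elim _ _
    rw [hπ, QuotientGroup.mk'_apply, QuotientGroup.eq_one_iff] at h1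
    exact h1
  have hnil : Group.IsNilpotent (X ⧸ C) := inferInstance
  have hZ0C : ¬ Z₀ ≤ centralizer (V : Set G) := by
    intro h
    obtain ⟨w, hw, hw1⟩ : ∃ w ∈ Subgroup.center (X ⧸ C), w ≠ 1 := by
      by_contra hc
      push Not at hc
      exact (Group.IsNilpotent.center_ne_bot (G := X ⧸ C)) ((Subgroup.eq_bot_iff_forall _).2 hc)
    obtain ⟨x, rfl⟩ := QuotientGroup.mk'_surjective C w
    exact hw1 ((QuotientGroup.eq_one_iff x).2 (h ⟨x, Subgroup.mem_comap.2 hw, rfl⟩))
  obtain ⟨a, ha, ha1, hZC⟩ := hO.exists_line_not_le (hZ0X.trans hX) hZ0A hZ0C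
  set Z := Z₀ ⊓ centralizer ({a} : Set G) with hZdef
  have hZX : Z ≤ X := inf_le_left.trans hZ0X
  have hZA : A ≤ normalizer (Z : Set G) := hO.inv_inf_line ha hZ0A
  have hZK : Z ≤ K ⊓ centralizer {a} := le_inf (hZX.trans hX) inf_le_right
  have hZV : Z ≤ normalizer (V : Set G) := hZX.trans hXV
  have hcopZ : (Nat.card Z).Coprime (Nat.card V) :=
    hcop.coprime_dvd_left (Subgroup.card_dvd_of_le hZX)
  set V0 := V ⊓ centralizer (Z : Set G) with hV0
  set V1 := ⁅V, Z⁆ with hV1
  have hV1V : V1 ≤ V := Subgroup.le_normalizer_iff_commutator_le_left.1 hZV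
  have : IsMulCommutative V0 := ⟨⟨fun x y => Subtype.ext (setLike_mul_comm x.2.1 y.2.1)⟩⟩
  have : IsMulCommutative V1 := ⟨⟨fun x y => Subtype.ext (setLike_mul_comm (hV1V x.2) (hV1V y.2))⟩⟩
  have hsplit : V0 ⊔ V1 = V := Coprime.abelian_sup_eq hZV hcopZ
  have hinf : V0 ⊓ V1 = ⊥ := Coprime.abelian_inf_eq_bot hZV hcopZ
  have hV1ne : V1 ≠ ⊥ := fun h => hZC (centralizer_of_commutator_eq_bot h)
  by_cases hV0ne : V0 = ⊥
  · -- all other lines of `X` centralise `V`
    have hlines : ∀ b ∈ A, b ≠ 1 → X ⊓ centralizer {b} ≤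
        (X ⊓ centralizer (V : Set G)) ⊔ (X ⊓ centralizer {a}) := by
      intro b hb hb1
      by_cases hab : b ∈ zpowers a
      · refine le_sup_of_le_right (le_inf inf_le_left fun x hx => ?_)
        have h1 : zpowers a ≤ zpowers b := by
          have := Subgroup.eq_of_le_of_card_ge (zpowers_le.2 hab)
            (by rw [hO.card_zpowers ha ha1, hO.card_zpowers hb hb1])
          rw [this]
        have h2 : zpowers b ≤ centralizer {x} := zpowers_le.2 (Subgroup.mem_centralizer_singleton_iff.2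
          (Subgroup.mem_centralizer_singleton_iff.1 hx.2).symm)
        exact Subgroup.mem_centralizer_singleton_iff.2
          (Subgroup.mem_centralizer_singleton_iff.1 (h2 (h1 (mem_zpowers a)))).symm
      · refine le_sup_of_le_left (le_inf inf_le_left ?_)
        refine hO.centralizes_of_two ha ha1 hb hab hVK hVA hZK hZA hZV hV0ne
          (le_inf (inf_le_left.trans hX) inf_le_right) (hO.inv_inf_line hb hXA) (inf_le_left.trans hXV)
          (hcop.coprime_dvd_left (Subgroup.card_dvd_of_le inf_le_left)) fun z hz => ?_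
        refine mem_normalizer_commutator (hZV hz) (inf_le_left.trans hXV) fun x hx => ?_
        rw [← commutatorElement_inv]
        exact inv_mem ((hmemZ z hz.1).2 x hx.1)
    have hgen : X ≤ (X ⊓ centralizer (V : Set G)) ⊔ (X ⊓ centralizer {a}) :=
      hO.le_of_lines hX hXA hlines
    refine hne (Subgroup.commutator_le.2 fun x hx y hy => ?_)
    have hn' : X ⊓ centralizer {a} ≤ normalizer ((X ⊓ centralizer (V : Set G) : Subgroup G) : Set G) := by
      intro u hu
      refine Coprime.mem_normalizer_of_forall fun c hc => ⟨X.mul_mem (X.mul_mem hu.1 hc.1) (X.inv_mem hu.1), ?_⟩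
      exact hCn.conj_mem ⟨c, hc.1⟩ hc.2 ⟨u, hu.1⟩
    obtain ⟨c, hc, u, hu, hcu⟩ := (Coprime.mem_sup_iff hn').1 (hgen hx)
    obtain ⟨d, hd, w, hw, hdw⟩ := (Coprime.mem_sup_iff hn').1 (hgen hy)
    have h1 : π ⁅(⟨x, hx⟩ : X), ⟨y, hy⟩⁆ = 1 := by
      have ex : (⟨x, hx⟩ : X) = ⟨c, hc.1⟩ * ⟨u, hu.1⟩ := Subtype.ext hcu.symm
      have ey : (⟨y, hy⟩ : X) = ⟨d, hd.1⟩ * ⟨w, hw.1⟩ := Subtype.ext hdw.symm
      have e1 : π (⟨c, hc.1⟩ : X) = 1 := (QuotientGroup.eq_one_iff _).2 hc.2
      have e2 : π (⟨d, hd.1⟩ : X) = 1 := (QuotientGroup.eq_one_iff _).2 hd.2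
      rw [map_commutatorElement, ex, ey, map_mul, map_mul, e1, e2, one_mul, one_mul,
        commutatorElement_eq_one_iff_mul_comm, ← map_mul, ← map_mul]
      exact congrArg π (Subtype.ext (hO.comm_line ha ha1 (hX hu.1) hu.2 (hX hw.1) hw.2))
    rw [hπ, QuotientGroup.mk'_apply, QuotientGroup.eq_one_iff] at h1
    exact h1
  · have hlt : ∀ W : Subgroup G, W ≤ V → W ≠ V → Nat.card W < n := fun W hW hWV =>
      hn ▸ lt_of_le_of_ne (Subgroup.card_le_of_le hW)
        fun h => hWV (Subgroup.eq_of_le_of_card_ge hW h.ge)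
    have h0 : ⁅X, X⁆ ≤ centralizer (V0 : Set G) := by
      refine ih _ (hlt V0 inf_le_left fun h => hV1ne ?_) V0 rfl (inf_le_left.trans hVK)
        (inv_inf hVA (inv_centralizer hZA)) (fun x hx => mem_normalizer_fixed (hXV hx) fun z hz =>
          (hmemZ z hz.1).2 x hx) (hcop.coprime_dvd_right (Subgroup.card_dvd_of_le inf_le_left))
      rw [h] at hinf
      rwa [inf_eq_right.2 hV1V] at hinf
    have h1 : ⁅X, X⁆ ≤ centralizer (V1 : Set G) := by
      refine ih _ (hlt V1 hV1V fun h => hV0ne ?_) V1 rfl (hV1V.trans hVK)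
        (inv_commutator hVA hZA) (fun x hx => mem_normalizer_commutator (hXV hx) hZV fun z hz =>
          (hmemZ z hz.1).2 x hx) (hcop.coprime_dvd_right (Subgroup.card_dvd_of_le hV1V))
      rw [h] at hinf
      rwa [inf_eq_left.2 inf_le_left] at hinf
    refine hne ?_
    rw [Subgroup.le_centralizer_iff, ← hsplit]
    exact sup_le (Subgroup.le_centralizer_iff.1 h0) (Subgroup.le_centralizer_iff.1 h1)

/-- A line group normalising a faithful abelian coprime invariant group centralises it. -/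
theorem le_centralizer_of_line {V N T : Subgroup G} [IsMulCommutative V] [IsMulCommutative N]
    (hVK : V ≤ K) (hVA : A ≤ normalizer (V : Set G)) (hNK : N ≤ K) (hNA : A ≤ normalizer (N : Set G))
    (hNV : N ≤ normalizer (V : Set G)) (hcop : (Nat.card N).Coprime (Nat.card V))
    (hfaith : N ⊓ centralizer (V : Set G) = ⊥) {e : G} (he : e ∈ A) (he1 : e ≠ 1)
    (hTK : T ≤ K ⊓ centralizer {e}) (hTA : A ≤ normalizer (T : Set G))
    (hTN : T ≤ normalizer (N : Set G)) (hTV : T ≤ normalizer (V : Set G)) :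
    T ≤ centralizer (N : Set G) := by
  classical
  have hAc := hO.isMulComm
  have hTc : IsMulCommutative T := hO.comm_of_le_line he he1 hTK
  set N1 := ⁅N, T⁆ with hN1def
  have hN1N : N1 ≤ N := Subgroup.le_normalizer_iff_commutator_le_left.1 hTN
  by_contra hne
  have hN1ne : N1 ≠ ⊥ := fun h => hne (centralizer_of_commutator_eq_bot h)
  have : IsMulCommutative N1 := ⟨⟨fun x y => Subtype.ext (setLike_mul_comm (hN1N x.2) (hN1N y.2))⟩⟩
  set V1 := ⁅V, N1⁆ with hV1def
  have hN1V : N1 ≤ normalizer (V : Set G) := hN1N.trans hNV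
  have hcop1 : (Nat.card N1).Coprime (Nat.card V) := hcop.coprime_dvd_left (Subgroup.card_dvd_of_le hN1N)
  have hV1V : V1 ≤ V := Subgroup.le_normalizer_iff_commutator_le_left.1 hN1V
  have hV1ne : V1 ≠ ⊥ := fun h => hN1ne (le_bot_iff.1 (hfaith ▸ le_inf hN1N (centralizer_of_commutator_eq_bot h)))
  have hV1fix : V1 ⊓ centralizer (N1 : Set G) = ⊥ := by
    refine le_bot_iff.1 (le_trans ?_ (Coprime.abelian_inf_eq_bot hN1V hcop1).le)
    exact le_inf (le_inf (inf_le_left.trans hV1V) inf_le_right) inf_le_left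
  have hNc : ∀ {x y : G}, x ∈ N → y ∈ N → ⁅x, y⁆ ∈ centralizer (V : Set G) := fun hx hy => by
    rw [commutatorElement_eq_one_iff_mul_comm.2 (setLike_mul_comm hx hy)]; exact one_mem _
  have hNV1 : N ≤ normalizer (V1 : Set G) := fun n hn =>
    mem_normalizer_commutator (hNV hn) hN1V fun z hz => hNc hn (hN1N hz)
  -- a minimal nontrivial `N`-invariant subgroup of `V1`
  obtain ⟨W, ⟨hWV1, hWne, hNW⟩, hmin⟩ := (Set.toFinite {W : Subgroup G |
      W ≤ V1 ∧ W ≠ ⊥ ∧ N ≤ normalizer (W : Set G)}).exists_minimal ⟨V1, le_rfl, hV1ne, hNV1⟩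
  -- such subgroups have a direction
  have direction : ∀ W' : Subgroup G, W' ≤ V → N ≤ normalizer (W' : Set G) →
      (∀ U : Subgroup G, U ≤ W' → U ≠ ⊥ → N ≤ normalizer (U : Set G) → U = W') →
      ¬ N ≤ centralizer (W' : Set G) →
      ∃ d ∈ A, d ≠ 1 ∧ ∀ n ∈ N, n⁻¹ * (d * n * d⁻¹) ∈ centralizer (W' : Set G) := by
    intro W' hW'V hNW' hW'min hnc
    obtain ⟨d, hd, hd1, hdW⟩ := hO.exists_line_not_le hNK hNA hnc
    refine ⟨d, hd, hd1, ?_⟩
    set Nd := N ⊓ centralizer ({d} : Set G) with hNd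
    have comm_eq : ∀ Y : Subgroup G, Y ≤ N → ¬ Y ≤ centralizer (W' : Set G) → ⁅W', Y⁆ = W' := by
      intro Y hY hYc
      refine hW'min _ (Subgroup.le_normalizer_iff_commutator_le_left.1 (hY.trans hNW'))
        (fun h => hYc (centralizer_of_commutator_eq_bot h)) fun n hn => ?_
      exact mem_normalizer_commutator (hNW' hn) (hY.trans hNW') fun z hz => by
        rw [commutatorElement_eq_one_iff_mul_comm.2 (setLike_mul_comm hn (hY hz))]; exact one_mem _
    have others : ∀ b ∈ A, b ∉ zpowers d → N ⊓ centralizer {b} ≤ centralizer (W' : Set G) := by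
      intro b hb hab
      by_contra hbc
      set Nb := N ⊓ centralizer ({b} : Set G) with hNb
      have hVd : ⁅V, Nd⁆ ≤ V :=
        Subgroup.le_normalizer_iff_commutator_le_left.1 (inf_le_left.trans hNV)
      have : IsMulCommutative (⁅V, Nd⁆ : Subgroup G) :=
        ⟨⟨fun x y => Subtype.ext (setLike_mul_comm (hVd x.2) (hVd y.2))⟩⟩
      have hNn : ∀ {Y : Subgroup G}, Y ≤ N → Y ≤ normalizer (⁅V, Nd⁆ : Subgroup G) := fun hY y hy =>
        mem_normalizer_commutator (hNV (hY hy)) (inf_le_left.trans hNV) fun z hz => hNc (hY hy) hz.1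
      have hcent := hO.centralizes_of_two hd hd1 hb hab (hVd.trans hVK)
        (inv_commutator hVA (hO.inv_inf_line hd hNA)) (Y := Nd) (Z := Nb)
        (le_inf (inf_le_left.trans hNK) inf_le_right) (hO.inv_inf_line hd hNA) (hNn inf_le_left)
        (le_bot_iff.1 (le_trans (le_inf (le_inf (inf_le_left.trans hVd) inf_le_right) inf_le_left)
          (Coprime.abelian_inf_eq_bot (inf_le_left.trans hNV)
            (hcop.coprime_dvd_left (Subgroup.card_dvd_of_le inf_le_left))).le))
        (le_inf (inf_le_left.trans hNK) inf_le_right) (hO.inv_inf_line hb hNA) (hNn inf_le_left)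
        ((hcop.coprime_dvd_left (Subgroup.card_dvd_of_le inf_le_left)).coprime_dvd_right
          (Subgroup.card_dvd_of_le hVd))
        (fun y hy => mem_normalizer_commutator (hNn inf_le_left hy) (hNn inf_le_left) fun z hz => by
          rw [commutatorElement_eq_one_iff_mul_comm.2 (setLike_mul_comm hy.1 hz.1)]; exact one_mem _)
      refine hbc (hcent.trans (Subgroup.centralizer_le ?_))
      rw [← comm_eq Nd inf_le_left hdW]
      exact SetLike.coe_subset_coe.2 (Subgroup.commutator_mono hW'V le_rfl)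
    let S : Subgroup G :=
      { carrier := {n | n ∈ N ∧ n⁻¹ * (d * n * d⁻¹) ∈ centralizer (W' : Set G)}
        one_mem' := ⟨N.one_mem, by simp⟩
        mul_mem' := fun {n m} hn hm => ⟨N.mul_mem hn.1 hm.1, by
          have h1 : d * n * d⁻¹ ∈ N := commute_conj_mem (hNA hd) hn.1
          have h3 : m⁻¹ * (n⁻¹ * (d * n * d⁻¹)) = (n⁻¹ * (d * n * d⁻¹)) * m⁻¹ :=
            setLike_mul_comm (N.inv_mem hm.1) (N.mul_mem (N.inv_mem hn.1) h1)
          have h2 : (n * m)⁻¹ * (d * (n * m) * d⁻¹) =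
              (n⁻¹ * (d * n * d⁻¹)) * (m⁻¹ * (d * m * d⁻¹)) := by
            calc (n * m)⁻¹ * (d * (n * m) * d⁻¹)
                = m⁻¹ * (n⁻¹ * (d * n * d⁻¹)) * (d * m * d⁻¹) := by group
              _ = (n⁻¹ * (d * n * d⁻¹)) * m⁻¹ * (d * m * d⁻¹) := by rw [h3]
              _ = _ := by rw [mul_assoc]
          rw [h2]
          exact Subgroup.mul_mem _ hn.2 hm.2⟩
        inv_mem' := fun {n} hn => ⟨N.inv_mem hn.1, by
          have h1 : d * n * d⁻¹ ∈ N := commute_conj_mem (hNA hd) hn.1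
          have h2 : n⁻¹⁻¹ * (d * n⁻¹ * d⁻¹) = (n⁻¹ * (d * n * d⁻¹))⁻¹ := by
            calc n⁻¹⁻¹ * (d * n⁻¹ * d⁻¹) = n * (d * n * d⁻¹)⁻¹ := by group
              _ = (d * n * d⁻¹)⁻¹ * n := setLike_mul_comm hn.1 (N.inv_mem h1)
              _ = _ := by group
          rw [h2]
          exact Subgroup.inv_mem _ hn.2⟩ }
    intro n hn
    have hNS : N ≤ S := hO.le_of_lines hNK hNA fun b hb hb1 x hx => by
      refine ⟨hx.1, ?_⟩
      by_cases hab : b ∈ zpowers d
      · have h1 : zpowers d ≤ zpowers b := by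
          rw [Subgroup.eq_of_le_of_card_ge (zpowers_le.2 hab)
            (by rw [hO.card_zpowers hd hd1, hO.card_zpowers hb hb1])]
        have h2 : zpowers b ≤ centralizer {x} := zpowers_le.2 (Subgroup.mem_centralizer_singleton_iff.2
          (Subgroup.mem_centralizer_singleton_iff.1 hx.2).symm)
        rw [Subgroup.mem_centralizer_singleton_iff.1 (h2 (h1 (mem_zpowers d))), mul_inv_cancel_right,
          inv_mul_cancel]
        exact one_mem _
      · exact Subgroup.mul_mem _ (Subgroup.inv_mem _ (others b hb hab hx))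
          (others b hb hab (commute_conj_mem (hO.inv_inf_line hb hNA hd) hx))
    exact (hNS hn).2
  -- the kernel on `W`
  set K0 := N ⊓ centralizer (W : Set G) with hK0
  have hW1 : ¬ N1 ≤ centralizer (W : Set G) := fun h => hWne
    (le_bot_iff.1 (hV1fix ▸ le_inf hWV1 (Subgroup.le_centralizer_iff.1 h)))
  have hWmin : ∀ U : Subgroup G, U ≤ W → U ≠ ⊥ → N ≤ normalizer (U : Set G) → U = W := fun U hU hU1 hUN =>
    le_antisymm hU (hmin ⟨hU.trans hWV1, hU1, hUN⟩ hU)
  have hWn : ¬ N ≤ centralizer (W : Set G) := fun h => hW1 (hN1N.trans h)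
  obtain ⟨d, hd, hd1, hdK⟩ := direction W (hWV1.trans hV1V) hNW hWmin hWn
  -- the direction differs from `e`
  have notE : ∀ W' : Subgroup G, N ≤ normalizer (W' : Set G) → ¬ N1 ≤ centralizer (W' : Set G) →
      ∀ f ∈ A, f ≠ 1 → (∀ n ∈ N, n⁻¹ * (f * n * f⁻¹) ∈ centralizer (W' : Set G)) → f ∉ zpowers e := by
    intro W' hNW' hn1 f hf hf1 hff hfe
    apply hn1
    rw [hN1def, Subgroup.commutator_le]
    intro n hn t ht
    -- a fixed point of `e` in `n [N, f]`
    set R : Subgroup G := N ⊓ centralizer (W' : Set G) ⊓ (⁅N, zpowers f⁆ : Subgroup G) with hR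
    have hfN : zpowers f ≤ normalizer (N : Set G) := zpowers_le.2 (hNA hf)
    have hcomm : ⁅N, zpowers f⁆ ≤ N ⊓ centralizer (W' : Set G) := by
      rw [Subgroup.commutator_le]
      intro m hm g hg
      let S : Subgroup G :=
        { carrier := {a | a ∈ normalizer (N : Set G) ∧ ∀ n ∈ N, n⁻¹ * (a * n * a⁻¹) ∈ centralizer (W' : Set G)}
          one_mem' := ⟨one_mem _, fun n _ => by simp⟩
          mul_mem' := fun {a a'} h h' => ⟨mul_mem h.1 h'.1, fun n hn => by
            have h1 := h.2 _ (commute_conj_mem h'.1 hn)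
            have h2 := Subgroup.mul_mem _ (h'.2 n hn) h1
            group at h2 ⊢
            exact h2⟩
          inv_mem' := fun {a} h => ⟨inv_mem h.1, fun n hn => by
            have h1 := Subgroup.inv_mem _ (h.2 _ (commute_conj_mem (inv_mem h.1) hn))
            group at h1 ⊢
            exact h1⟩ }
      have hgS := (zpowers_le.2 (show f ∈ S from ⟨hNA hf, hff⟩)) hg
      refine ⟨?_, ?_⟩
      · exact (Subgroup.le_normalizer_iff_commutator_le_left.1 hfN) (Subgroup.commutator_mem_commutator hm hg)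
      · have h1 := hgS.2 m⁻¹ (N.inv_mem hm)
        rw [commutatorElement_def]
        group at h1 ⊢
        exact h1
    obtain ⟨c, hc, hcn⟩ := hO.exists_fix_of_mod hf hNK (hNA hf)
      (Subgroup.le_normalizer_iff_commutator_le_left.1 hfN)
      (inv_commutator hNA (fun a ha => by
        refine Coprime.mem_normalizer_of_forall fun x hx => ?_
        obtain ⟨k, rfl⟩ := Subgroup.mem_zpowers_iff.1 hx
        rw [setLike_mul_comm (s := A) ha (A.zpow_mem hf k), mul_inv_cancel_right]
        exact zpow_mem (mem_zpowers f) k) hf) hn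
      (by
        have h1 := inv_mem (Subgroup.commutator_mem_commutator hn (mem_zpowers f))
        rw [commutatorElement_inv, commutatorElement_def] at h1
        exact h1)
    -- `c` is fixed by `e`, so commutes with `t`
    have hce : c ∈ centralizer ({e} : Set G) := by
      have h1 : zpowers e ≤ zpowers f := by
        rw [Subgroup.eq_of_le_of_card_ge (zpowers_le.2 hfe)
          (by rw [hO.card_zpowers he he1, hO.card_zpowers hf hf1])]
      have h2 : zpowers f ≤ centralizer {c} := zpowers_le.2 (Subgroup.mem_centralizer_singleton_iff.2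
        (Subgroup.mem_centralizer_singleton_iff.1 hc.2).symm)
      exact Subgroup.mem_centralizer_singleton_iff.2
        (Subgroup.mem_centralizer_singleton_iff.1 (h2 (h1 (mem_zpowers e)))).symm
    have hct : c * t = t * c := hO.comm_line he he1 (hNK hc.1) hce (hTK ht).1 (hTK ht).2
    have hfK : f ∈ normalizer ((N ⊓ centralizer (W' : Set G) : Subgroup G) : Set G) :=
      Coprime.mem_normalizer_of_forall fun m hm => ⟨commute_conj_mem (hNA hf) hm.1, by
        have h1 := Subgroup.mul_mem _ hm.2 (hff m hm.1)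
        rwa [mul_inv_cancel_left] at h1⟩
    set m := c * n⁻¹ with hm
    have hmN : m ∈ ⁅N, zpowers f⁆ := hcn
    -- `[N, f]` is normalised by `T`
    have htn : t ∈ normalizer (⁅N, zpowers f⁆ : Subgroup G) := by
      refine mem_normalizer_commutator (hTN ht) hfN fun g hg => ?_
      rw [commutatorElement_eq_one_iff_mul_comm.2 ?_]
      · exact one_mem _
      have h1 : zpowers f ≤ zpowers e := zpowers_le.2 hfe
      have h2 : zpowers e ≤ centralizer {t} := zpowers_le.2 (Subgroup.mem_centralizer_singleton_iff.2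
        (Subgroup.mem_centralizer_singleton_iff.1 (hTK ht).2).symm)
      exact (Subgroup.mem_centralizer_singleton_iff.1 (h2 (h1 hg))).symm
    have key : ⁅n, t⁆ = m⁻¹ * (t * m * t⁻¹) := by
      have e1 : n = m⁻¹ * c := by rw [hm]; group
      rw [e1, commutatorElement_def]
      calc m⁻¹ * c * t * (m⁻¹ * c)⁻¹ * t⁻¹ = m⁻¹ * (c * t) * c⁻¹ * m * t⁻¹ := by group
        _ = m⁻¹ * (t * m * t⁻¹) := by rw [hct]; group
    rw [key]
    exact Subgroup.mul_mem _ (Subgroup.inv_mem _ (hcomm hmN).2) (hcomm (commute_conj_mem htn hmN)).2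
  have hde : d ∉ zpowers e := notE W hNW hW1 d hd hd1 hdK
  -- `T` normalises the kernel
  have hdK0 : d ∈ normalizer (K0 : Set G) := Coprime.mem_normalizer_of_forall fun m hm =>
    ⟨commute_conj_mem (hNA hd) hm.1, by
      have h1 := Subgroup.mul_mem _ hm.2 (hdK m hm.1)
      rwa [mul_inv_cancel_left] at h1⟩
  have hadj : ∀ t ∈ T, d * t * d⁻¹ ∈ T := fun t ht => commute_conj_mem (hTA hd) ht
  -- `t ↦ t⁻¹ (d t d⁻¹)` is onto `T`
  have honto : ∀ s ∈ T, ∃ t ∈ T, s = t⁻¹ * (d * t * d⁻¹) := by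
    let φ : T → T := fun t => ⟨(t : G)⁻¹ * (d * t * d⁻¹), T.mul_mem (T.inv_mem t.2) (hadj t t.2)⟩
    have hinj : Function.Injective φ := by
      intro x y hxy
      have h1 : (x : G)⁻¹ * (d * x * d⁻¹) = (y : G)⁻¹ * (d * y * d⁻¹) := congrArg Subtype.val hxy
      have hxyT : (y : G) * (x : G)⁻¹ ∈ T := T.mul_mem y.2 (T.inv_mem x.2)
      have h2 : d * ((y : G) * (x : G)⁻¹) * d⁻¹ = (y : G) * (x : G)⁻¹ := by
        calc d * ((y : G) * (x : G)⁻¹) * d⁻¹ = (d * y * d⁻¹) * (d * x * d⁻¹)⁻¹ := by group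
          _ = y * ((y : G)⁻¹ * (d * y * d⁻¹)) * (x * ((x : G)⁻¹ * (d * x * d⁻¹)))⁻¹ := by group
          _ = y * ((x : G)⁻¹ * (d * x * d⁻¹)) * ((x : G)⁻¹ * (d * x * d⁻¹))⁻¹ * (x : G)⁻¹ := by
            rw [← h1]; group
          _ = y * (x : G)⁻¹ := by group
      have h3 : (y : G) * (x : G)⁻¹ = 1 := hO.eq_one_of_two he he1 hd hde (hTK hxyT).1 (hTK hxyT).2
        (Subgroup.mem_centralizer_singleton_iff.2 (mul_inv_eq_iff_eq_mul.1 h2).symm)
      exact Subtype.ext (mul_inv_eq_one.1 h3).symm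
    intro s hs
    obtain ⟨t, ht⟩ := (Finite.injective_iff_surjective.1 hinj) ⟨s, hs⟩
    exact ⟨t, t.2, (congrArg Subtype.val ht).symm⟩
  have hTK0 : T ≤ normalizer (K0 : Set G) := by
    -- the conjugates of `W` under `T` have directions of the form `d e^k`
    have hstep : ∀ t ∈ T, ∀ u, u = (d * t * d⁻¹)⁻¹ * t → u⁻¹ * (d * u * d⁻¹) ∈ normalizer (K0 : Set G) := by
      intro t ht u hu
      set W' := MulAut.conj t • W with hW'
      have hmem : ∀ {x}, x ∈ W' ↔ t⁻¹ * x * t ∈ W := Coprime.mem_conj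
      have hW'V : W' ≤ V := fun x hx => by
        have h1 := commute_conj_mem (hTV ht) (hV1V (hWV1 (hmem.1 hx)))
        group at h1
        simpa using h1
      have hNW' : N ≤ normalizer (W' : Set G) := fun n hn => by
        refine Coprime.mem_normalizer_of_forall fun x hx => hmem.2 ?_
        have h1 := commute_conj_mem (hNW ((Subgroup.mem_normalizer_iff''.1 (hTN ht) n).1 hn)) (hmem.1 hx)
        group at h1 ⊢
        exact h1
      have hcentW' : ∀ x : G, x ∈ centralizer (W' : Set G) ↔ t⁻¹ * x * t ∈ centralizer (W : Set G) := by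
        intro x
        simp only [Subgroup.mem_centralizer_iff]
        constructor
        · intro h w hw
          have h1 := h (t * w * t⁻¹) (hmem.2 (by group; simpa using hw))
          calc w * (t⁻¹ * x * t) = t⁻¹ * ((t * w * t⁻¹) * x) * t := by group
            _ = t⁻¹ * x * t * w := by rw [h1]; group
        · intro h w hw
          have h1 := h _ (hmem.1 hw)
          calc w * x = t * ((t⁻¹ * w * t) * (t⁻¹ * x * t)) * t⁻¹ := by group
            _ = x * w := by rw [h1]; group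
      have hW'min : ∀ U : Subgroup G, U ≤ W' → U ≠ ⊥ → N ≤ normalizer (U : Set G) → U = W' := by
        intro U hU hU1 hUN
        have h1 : MulAut.conj t⁻¹ • U = W := by
          refine hWmin _ ?_ ?_ ?_
          · intro x hx
            have := hmem.1 (hU (Coprime.mem_conj.1 hx))
            group at this
            simpa using this
          · intro h
            exact hU1 (by rw [← Solvable.conj_inv_smul t⁻¹ U, h, Subgroup.smul_bot])
          · intro n hn
            refine Coprime.mem_normalizer_of_forall fun x hx => Coprime.mem_conj.2 ?_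
            have h1 := commute_conj_mem (hUN (commute_conj_mem (hTN ht) hn)) (Coprime.mem_conj.1 hx)
            group at h1 ⊢
            exact h1
        rw [hW', ← h1, Solvable.conj_conj, mul_inv_cancel, Solvable.conj_one_smul]
      have hnc1 : ¬ N1 ≤ centralizer (W' : Set G) := by
        intro h
        refine hW1 fun n hn => ?_
        have hTN1 : t ∈ normalizer (N1 : Set G) := mem_normalizer_commutator (hTN ht) hTN fun z hz => by
          rw [commutatorElement_eq_one_iff_mul_comm.2 (setLike_mul_comm ht hz)]; exact one_mem _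
        have := (hcentW' _).1 (h (commute_conj_mem hTN1 hn))
        group at this
        simpa using this
      obtain ⟨d', hd', hd'1, hd'K⟩ := direction W' hW'V hNW' hW'min (fun h => hnc1 (hN1N.trans h))
      have hd'e : d' ∉ zpowers e := notE W' hNW' hnc1 d' hd' hd'1 hd'K
      -- `d ∈ ⟨d'⟩ ⟨e⟩`
      obtain ⟨x, hx, y, hy, hxy⟩ : ∃ x ∈ zpowers d', ∃ y ∈ zpowers e, x * y = d := by
        have hn : zpowers e ≤ normalizer (zpowers d' : Set G) := fun g hg =>
          Coprime.mem_normalizer_of_forall fun z hz => by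
            rw [setLike_mul_comm (s := A) (zpowers_le.2 he hg) (zpowers_le.2 hd' hz), mul_inv_cancel_right]
            exact hz
        refine (Coprime.mem_sup_iff hn).1 ?_
        rw [hO.sup_eq hd' hd'1 he (hO.not_mem_symm he he1 hd' hd'e)]
        exact hd
      have hxA : x ∈ A := zpowers_le.2 hd' hx
      have hyA : y ∈ A := zpowers_le.2 he hy
      have hyt : y * t = t * y := by
        have h2 : zpowers e ≤ centralizer {t} := zpowers_le.2 (Subgroup.mem_centralizer_singleton_iff.2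
          (Subgroup.mem_centralizer_singleton_iff.1 (hTK ht).2).symm)
        exact Subgroup.mem_centralizer_singleton_iff.1 (h2 hy)
      have hd'N : d' ∈ normalizer ((N ⊓ centralizer (W' : Set G) : Subgroup G) : Set G) :=
        Coprime.mem_normalizer_of_forall fun m hm => ⟨commute_conj_mem (hNA hd') hm.1, by
          have h1 := Subgroup.mul_mem _ hm.2 (hd'K m hm.1)
          rwa [mul_inv_cancel_left] at h1⟩
      have hxN := zpowers_le.2 hd'N hx
      have hK' : N ⊓ centralizer (W' : Set G) = MulAut.conj t • K0 := by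
        ext z
        rw [Coprime.mem_conj]
        simp only [hK0, Subgroup.mem_inf, hcentW']
        exact and_congr_left fun _ => (Subgroup.mem_normalizer_iff''.1 (hTN ht) z)
      rw [hK'] at hxN
      have e1 : MulAut.conj (t⁻¹ * x * t) • K0 = K0 := by
        rw [mul_assoc, ← Solvable.conj_conj, ← Solvable.conj_conj, Coprime.conj_eq_of_mem_normalizer hxN,
          Solvable.conj_inv_smul]
      have h1 : t⁻¹ * x * t ∈ normalizer (K0 : Set G) := Coprime.mem_normalizer_of_conj_eq e1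
      have hxd : x = d * y⁻¹ := by rw [← hxy, mul_inv_cancel_right]
      have e2 : t⁻¹ * x * t = u⁻¹ * d * y⁻¹ := by
        have hy' : y⁻¹ * t = t * y⁻¹ := (Commute.inv_left (show Commute y t from hyt)).eq
        calc t⁻¹ * x * t = t⁻¹ * d * (y⁻¹ * t) := by rw [hxd]; group
          _ = u⁻¹ * d * y⁻¹ := by rw [hy', hu]; group
      rw [e2] at h1
      have h2 : u⁻¹ * d * y⁻¹ * d⁻¹ ∈ normalizer (K0 : Set G) := mul_mem h1 (inv_mem hdK0)
      have hdy : d * y = y * d := setLike_mul_comm hd hyA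
      have h3 : u⁻¹ * y⁻¹ ∈ normalizer (K0 : Set G) := by
        have e3 : u⁻¹ * d * y⁻¹ * d⁻¹ = u⁻¹ * y⁻¹ := by
          have hdy' : d * y⁻¹ = y⁻¹ * d := (Commute.inv_right (show Commute d y from hdy)).eq
          rw [mul_assoc u⁻¹, hdy']; group
        rwa [e3] at h2
      have h4 : d * (u⁻¹ * y⁻¹) * d⁻¹ ∈ normalizer (K0 : Set G) := mul_mem (mul_mem hdK0 h3) (inv_mem hdK0)
      have h5 : d * (u⁻¹ * y⁻¹) * d⁻¹ = (d * u * d⁻¹)⁻¹ * y⁻¹ := by
        have hdy' : y⁻¹ * d⁻¹ = d⁻¹ * y⁻¹ := by rw [← mul_inv_rev, ← mul_inv_rev, hdy]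
        calc d * (u⁻¹ * y⁻¹) * d⁻¹ = d * u⁻¹ * (y⁻¹ * d⁻¹) := by group
          _ = _ := by rw [hdy']; group
      rw [h5] at h4
      have h6 := mul_mem h3 (inv_mem h4)
      group at h6 ⊢
      exact h6
    intro s hs
    obtain ⟨u, hu, rfl⟩ := honto s hs
    obtain ⟨v, hv, hv'⟩ := honto u⁻¹ (T.inv_mem hu)
    refine hstep v hv u ?_
    have : u = (v⁻¹ * (d * v * d⁻¹))⁻¹ := by rw [← hv', inv_inv]
    rw [this]; group
  -- the kernel is `T`-invariant with a direction fixing `N` modulo it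
  apply hW1
  rw [hN1def, Subgroup.commutator_le]
  intro n hn s hs
  obtain ⟨t, ht, rfl⟩ := honto s hs
  suffices h : ⁅t⁻¹ * (d * t * d⁻¹), n⁆ ∈ K0 by
    rw [← commutatorElement_inv]
    exact Subgroup.inv_mem _ h.2
  have hd0 : ∀ m ∈ N, ⁅d, m⁆ ∈ K0 := fun m hm => by
    have h1 : d * m * d⁻¹ ∈ N := commute_conj_mem (hNA hd) hm
    have h2 : ⁅d, m⁆ = m⁻¹ * (d * m * d⁻¹) := by
      rw [commutatorElement_def]
      exact (setLike_mul_comm h1 (N.inv_mem hm)).trans (by group)
    rw [h2]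
    exact ⟨N.mul_mem (N.inv_mem hm) h1, hdK m hm⟩
  have hTn : ∀ {g m : G}, g ∈ T → m ∈ K0 → g * m * g⁻¹ ∈ K0 := fun hg hm =>
    commute_conj_mem (hTK0 hg) hm
  -- `[d, ·]` computed through `t`
  have ht' : t⁻¹ * d * t ∈ normalizer (N : Set G) := mul_mem (mul_mem (inv_mem (hTN ht)) (hNA hd)) (hTN ht)
  have hA : ⁅t⁻¹ * d * t, n⁆ ∈ K0 := by
    have h1 := hTn (T.inv_mem ht) (hd0 _ (commute_conj_mem (hTN ht) hn))
    rw [commutatorElement_def] at h1 ⊢
    group at h1 ⊢
    exact h1
  have hB : ⁅d⁻¹, n⁆ ∈ K0 := by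
    have h1 := K0.inv_mem (commute_conj_mem (inv_mem hdK0) (hd0 n hn))
    rw [commutatorElement_def] at h1 ⊢
    group at h1 ⊢
    exact h1
  have e : t⁻¹ * (d * t * d⁻¹) = (t⁻¹ * d * t) * d⁻¹ := by group
  have emul : ⁅t⁻¹ * d * t * d⁻¹, n⁆ =
      (t⁻¹ * d * t) * ⁅d⁻¹, n⁆ * (t⁻¹ * d * t)⁻¹ * ⁅t⁻¹ * d * t, n⁆ := by
    simp only [commutatorElement_def]; group
  rw [e, emul]
  refine K0.mul_mem ?_ hA
  have hd'' : d ∈ normalizer (N : Set G) := hNA hd
  have h1 : ⁅d⁻¹, n⁆ ∈ N := hB.1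
  -- conjugation by `t⁻¹ d t` preserves `K0`
  exact commute_conj_mem (mul_mem (mul_mem (inv_mem (hTK0 ht)) hdK0) (hTK0 ht)) hB

end Op

end Cfsg.Agent.FPQ
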