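import Cfsg.Agent.Lib.Coprime.Abelian
import Cfsg.Agent.Lib.Coprime.Invariant

/-!
# Frobenius-type lemma for fixed points on abelian groups (helper25)

* `indep`: independence of pairwise "fixed-point-freely different" commuting actions
* `eq_bot_of_fix_eq_bot`: `e` of prime order acts fixed-point-freely on an abelian `Y`, both normalise
  the abelian `V`, `C_V(Y) = 1`; then `C_V(e) = 1` forces `V = 1`
-/

set_option autoImplicit false

namespace Cfsg.Agent.FPQ

open Subgroup
open scoped IsMulCommutative

/-- Artin-style independence. -/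
theorem indep {ι Z V : Type*} [CommGroup V] [MulOneClass Z] (σ : ι → Z →* MulAut V)
    (hc : ∀ i k z z', Commute (σ i z) (σ k z'))
    (hsep : ∀ i k, i ≠ k → ∀ w : V, (∀ z, σ i z w = σ k z w) → w = 1)
    (s : Finset ι) (w : ι → V) (h : ∀ z, ∏ i ∈ s, σ i z (w i) = 1) : ∀ i ∈ s, w i = 1 := by
  classical
  induction s using Finset.induction generalizing w with
  | empty => simp
  | insert k s hk ih =>
    have key : ∀ z0, ∀ i ∈ s, σ i z0 (w i) * (σ k z0 (w i))⁻¹ = 1 := by
      intro z0
      refine ih (fun i => σ i z0 (w i) * (σ k z0 (w i))⁻¹) fun z => ?_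
      have h1 := h (z * z0)
      have h2 := congrArg (σ k z0) (h z)
      rw [Finset.prod_insert hk] at h1 h2
      rw [map_mul, map_one, map_prod] at h2
      have e : ∀ i, σ k z0 (σ i z (w i)) = σ i z (σ k z0 (w i)) := fun i => by
        rw [← MulAut.mul_apply, (hc k i z0 z).eq, MulAut.mul_apply]
      simp only [e] at h2
      simp only [map_mul (σ _), MulAut.mul_apply] at h1
      simp only [map_mul, map_inv, Finset.prod_mul_distrib, Finset.prod_inv_distrib]
      have h3 := h1.trans h2.symm
      rw [mul_right_inj] at h3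
      rw [h3, mul_inv_cancel]
    have hs : ∀ i ∈ s, w i = 1 := fun i hi => by
      refine hsep i k (fun hik => hk (hik ▸ hi)) (w i) fun z => ?_
      exact mul_inv_eq_one.1 (key z i hi)
    intro i hi
    rcases Finset.mem_insert.1 hi with rfl | hi
    · have h1 := h 1
      rw [Finset.prod_insert hk, Finset.prod_eq_one (fun j hj => by rw [hs j hj, map_one])] at h1
      simpa using h1
    · exact hs i hi

variable {G : Type*} [Group G] [Finite G]


/-- If `e` of prime order acts fixed-point-freely on the abelian group `Y` and `C_V(Y) = 1`, then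
`e` fixes a nontrivial element of the abelian group `V`, unless `V = 1`. -/
theorem eq_bot_of_fix_eq_bot {Y V : Subgroup G} [IsMulCommutative V] [IsMulCommutative Y] {e : G}
    {q : ℕ} (hq : q.Prime) (heq : e ^ q = 1) (heY : e ∈ normalizer (Y : Set G))
    (heV : e ∈ normalizer (V : Set G)) (hYV : Y ≤ normalizer (V : Set G))
    (hfpf : Y ⊓ centralizer {e} = ⊥) (hCY : V ⊓ centralizer (Y : Set G) = ⊥)
    (hCe : V ⊓ centralizer {e} = ⊥) : V = ⊥ := by
  classical
  set E := zpowers e with hE
  have hEV : E ≤ normalizer (V : Set G) := zpowers_le.2 heV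
  have hEY : E ≤ normalizer (Y : Set G) := zpowers_le.2 heY
  cases nonempty_fintype E
  set c := Coprime.conjAut hEY with hcdef
  set ρ := Coprime.conjAut hYV with hρ
  set τ := Coprime.conjAut hEV with hτ
  let σ : E → Y →* MulAut V := fun a => ρ.comp (c a).toMonoidHom
  have hnorm : ∀ x : V, ∏ a : E, τ a x = 1 := by
    intro x
    have h1 := Coprime.conjProd_mem_centralizer hEV x
    have h2 : (Coprime.conjProd hEV x : G) ∈ V ⊓ centralizer {e} := by
      refine ⟨h1.1, Subgroup.mem_centralizer_singleton_iff.2 ?_⟩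
      exact ((Subgroup.mem_centralizer_iff.1 h1.2) e (mem_zpowers e)).symm
    rw [hCe, Subgroup.mem_bot] at h2
    rw [← Coprime.conjProd_apply]
    exact Subtype.ext h2
  have hgen : ∀ a b : E, a ≠ b → ∀ z : G, z * ((a⁻¹ * b : E) : G) = ((a⁻¹ * b : E) : G) * z →
      z * e = e * z := by
    intro a b hab z hz
    have hne : a⁻¹ * b ≠ 1 := fun h => hab (inv_mul_eq_one.1 h)
    have := Fact.mk hq
    have hcard : Nat.card E = q := by
      rw [hE, Nat.card_zpowers]
      refine orderOf_eq_prime heq fun h1 => hne (Subtype.ext ?_)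
      obtain ⟨n, hn⟩ := Subgroup.mem_zpowers_iff.1 (a⁻¹ * b).2
      rw [← hn, h1, one_zpow]; rfl
    have htop : zpowers (a⁻¹ * b) = ⊤ := zpowers_eq_top_of_prime_card hcard hne
    have hm : (⟨e, mem_zpowers e⟩ : E) ∈ zpowers (a⁻¹ * b) := by rw [htop]; trivial
    obtain ⟨n, hn⟩ := Subgroup.mem_zpowers_iff.1 hm
    have hn' : ((a⁻¹ * b : E) : G) ^ n = e := by
      have := congrArg (Subtype.val) hn
      simpa using this
    rw [← hn']
    exact (Commute.zpow_right hz n : _)
  have hsep : ∀ a b : E, a ≠ b → ∀ w : V, (∀ y, σ a y w = σ b y w) → w = 1 := by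
    intro a b hab w hw
    -- `y ↦ b(y)⁻¹ a(y)` is onto `Y`
    let f : Y →* Y :=
      { toFun := fun y => (c b y)⁻¹ * c a y
        map_one' := by simp
        map_mul' := fun x y => by rw [map_mul, map_mul, mul_inv]; exact mul_mul_mul_comm _ _ _ _ }
    have hinj : Function.Injective f := by
      rw [injective_iff_map_eq_one]
      intro y hy
      have h1 : c b y = c a y := inv_mul_eq_one.1 hy
      have h2 : c (a⁻¹ * b) y = y := by
        rw [map_mul, MulAut.mul_apply, h1, ← MulAut.mul_apply, ← map_mul, inv_mul_cancel, map_one]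
        rfl
      have h3 := congrArg Subtype.val h2
      rw [Coprime.coe_conjAut, mul_inv_eq_iff_eq_mul] at h3
      have h4 := hgen a b hab y h3.symm
      have h5 : (y : G) ∈ Y ⊓ centralizer {e} := ⟨y.2, Subgroup.mem_centralizer_singleton_iff.2 h4⟩
      rw [hfpf, Subgroup.mem_bot] at h5
      exact Subtype.ext h5
    have hsurj : Function.Surjective f := Finite.injective_iff_surjective.1 hinj
    have h6 : (w : G) ∈ V ⊓ centralizer (Y : Set G) := by
      refine ⟨w.2, Subgroup.mem_centralizer_iff.2 fun y hy => ?_⟩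
      obtain ⟨z, hz⟩ := hsurj ⟨y, hy⟩
      have h7 : ρ (f z) w = w := by
        show ρ ((c b z)⁻¹ * c a z) w = w
        have := hw z
        simp only [σ, MonoidHom.comp_apply] at this
        rw [map_mul, MulAut.mul_apply]
        change ρ (c b z)⁻¹ (ρ (c a z) w) = w
        erw [this]
        rw [map_inv]
        exact MulEquiv.symm_apply_apply _ _
      rw [hz] at h7
      have h8 := congrArg Subtype.val h7
      rw [Coprime.coe_conjAut, mul_inv_eq_iff_eq_mul] at h8
      exact h8
    rw [hCY, Subgroup.mem_bot] at h6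
    exact Subtype.ext h6
  have hsc : ∀ (a b : E) (y y' : Y), Commute (σ a y) (σ b y') := fun a b y y' =>
    (show Commute (c a y) (c b y') from mul_comm _ _).map ρ
  rw [eq_bot_iff]
  intro v hv
  rw [Subgroup.mem_bot]
  have h1 : ∀ a ∈ (Finset.univ : Finset E), τ a ⟨v, hv⟩ = 1 := by
    refine indep σ hsc hsep Finset.univ (fun a => τ a ⟨v, hv⟩) fun y => ?_
    rw [← hnorm (ρ y ⟨v, hv⟩)]
    refine Finset.prod_congr rfl fun a _ => Subtype.ext ?_
    simp only [σ, MonoidHom.comp_apply, MulEquiv.coe_toMonoidHom,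
      Coprime.coe_conjAut, hcdef, hρ, hτ, mul_inv_rev, inv_inv]
    group
  have h2 := congrArg Subtype.val (h1 1 (Finset.mem_univ _))
  simpa [hτ, Coprime.coe_conjAut] using h2

end Cfsg.Agent.FPQ
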