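import Cfsg.Agent.Lib.FPQ.Basic
import Cfsg.Agent.Lib.Solvable.Converse

/-!
# Two invariant Sylow subgroups which do not permute (helper25)

* `IsPr`: invariant `{p, r}`-subgroups; `PrPair`: `P`, `R` not contained in one of them
* `exists_hall`, `IsMaxPr`, `le_of_core_eq_bot`, `le_of_normalizer`, `le_of_fitting`, `eq_of_sylow_le`
-/

set_option autoImplicit false
set_option linter.unusedSectionVars false

namespace Cfsg.Agent.FPQ

open Subgroup LocalCharP
open scoped Pointwise IsMulCommutative commutatorElement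

universe u

variable {G : Type u} [Group G] [Finite G]

/-- An invariant `{p, r}`-subgroup of `K`. -/
structure IsPr (A K : Subgroup G) (p r : ℕ) (M : Subgroup G) : Prop where
  le : M ≤ K
  inv : A ≤ normalizer (M : Set G)
  primes : ∀ s : ℕ, s.Prime → s ∣ Nat.card M → s = p ∨ s = r

theorem IsPr.symm {A K : Subgroup G} {p r : ℕ} {M : Subgroup G} (h : IsPr A K p r M) : IsPr A K r p M :=
  ⟨h.le, h.inv, fun s hs hd => (h.primes s hs hd).symm⟩

theorem IsPr.mono {A K : Subgroup G} {p r : ℕ} {M Y : Subgroup G} (h : IsPr A K p r M) (hY : Y ≤ M)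
    (hYA : A ≤ normalizer (Y : Set G)) : IsPr A K p r Y :=
  ⟨hY.trans h.le, hYA, fun s hs hd => h.primes s hs (hd.trans (Subgroup.card_dvd_of_le hY))⟩

/-- A maximal invariant `{p, r}`-subgroup. -/
def IsMaxPr (A K : Subgroup G) (p r : ℕ) (M : Subgroup G) : Prop :=
  IsPr A K p r M ∧ ∀ Y : Subgroup G, IsPr A K p r Y → M ≤ Y → Y ≤ M

theorem IsMaxPr.symm {A K : Subgroup G} {p r : ℕ} {M : Subgroup G} (h : IsMaxPr A K p r M) :
    IsMaxPr A K r p M :=
  ⟨h.1.symm, fun Y hY hle => h.2 Y hY.symm hle⟩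

/-- An invariant Sylow subgroup containing all invariant `p`-subgroups. -/
structure ISylow (A K : Subgroup G) (p : ℕ) (P : Subgroup G) : Prop where
  le : P ≤ K
  inv : A ≤ normalizer (P : Set G)
  pgroup : IsPGroup p P
  max : ∀ U : Subgroup G, U ≤ K → A ≤ normalizer (U : Set G) → IsPGroup p U → U ≤ P

/-- A counterexample with two invariant Sylow subgroups which do not permute. -/
structure PrPair (q : ℕ) (A K : Subgroup G) (p r : ℕ) (P R : Subgroup G) : Prop extends Cx q A K where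
  pPrime : p.Prime
  rPrime : r.Prime
  pne : p ≠ r
  isylP : ISylow A K p P
  isylR : ISylow A K r R
  notPerm : ∀ M : Subgroup G, IsPr A K p r M → P ≤ M → R ≤ M → False

namespace PrPair

variable {q : ℕ} {A K : Subgroup G} {p r : ℕ} {P R : Subgroup G} (h : PrPair q A K p r P R)
include h

theorem symm : PrPair q A K r p R P :=
  { toCx := h.toCx, pPrime := h.rPrime, rPrime := h.pPrime, pne := h.pne.symm,
    isylP := h.isylR, isylR := h.isylP, notPerm := fun M hM hR hP => h.notPerm M hM.symm hP hR }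

theorem solvA : Group.IsSolvable A := h.toCx.toOp.solvA

theorem isPr_of_pgroup {U : Subgroup G} (hU : U ≤ K) (hUA : A ≤ normalizer (U : Set G))
    (hp : IsPGroup p U) : IsPr A K p r U := by
  have := Fact.mk h.pPrime
  refine ⟨hU, hUA, fun s hs hd => Or.inl ?_⟩
  obtain ⟨k, hk⟩ := IsPGroup.iff_card.1 hp
  exact (Nat.prime_dvd_prime_iff_eq hs h.pPrime).1 (hs.dvd_of_dvd_pow (hk ▸ hd))

theorem ne_top {M : Subgroup G} (hM : IsPr A K p r M) : M ≠ K := fun e => h.nsol (by
  subst e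
  exact Solvable.isSolvable_of_card_two_primes h.pPrime h.rPrime h.pne fun s hs hd => hM.primes s hs hd)

theorem nil {M : Subgroup G} (hM : IsPr A K p r M) : Group.IsNilpotent (⁅M, M⁆ : Subgroup G) :=
  h.toCx.nilpotent_commutator hM.le hM.inv (h.ne_top hM)

theorem copM {M : Subgroup G} (hM : IsPr A K p r M) : (Nat.card A).Coprime (Nat.card M) :=
  h.toCx.toOp.cop_le hM.le

/-- Invariant subgroups are generated by their invariant `p`- and `r`-parts. -/
theorem le_of_parts {M W : Subgroup G} (hM : IsPr A K p r M) (hP : M ⊓ P ≤ W) (hR : M ⊓ R ≤ W) :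
    M ≤ W := by
  refine Coprime.le_of_invariant_sylow_le hM.inv (h.copM hM) (Or.inl h.solvA) fun t Q ht hQ hQt hQA => ?_
  have := Fact.mk ht
  by_cases h1 : Q = ⊥
  · subst h1; exact bot_le
  have hd : t ∣ Nat.card M := by
    obtain ⟨k, hk⟩ := IsPGroup.iff_card.1 hQt
    refine dvd_trans ?_ (Subgroup.card_dvd_of_le hQ)
    rw [hk]
    refine dvd_pow_self t fun k0 => h1 (Subgroup.card_eq_one.1 ?_)
    rw [hk, k0, pow_zero]
  rcases hM.primes t ht hd with rfl | rfl
  · exact (le_inf hQ (h.isylP.max Q (hQ.trans hM.le) hQA hQt)).trans hP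
  · exact (le_inf hQ (h.isylR.max Q (hQ.trans hM.le) hQA hQt)).trans hR

theorem isPGroup_of_coprime {M : Subgroup G} (hM : IsPr A K p r M) (hc : (Nat.card M).Coprime p) :
    IsPGroup r M := by
  have := Fact.mk h.rPrime
  refine IsPGroup.of_card (n := (Nat.card M).primeFactorsList.length)
    (Nat.eq_prime_pow_of_unique_prime_dvd Nat.card_pos.ne' fun {s} hs hd => ?_)
  rcases hM.primes s hs hd with rfl | rfl
  · exact absurd hc (Nat.not_coprime_of_dvd_of_dvd hs.one_lt hd dvd_rfl)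
  · rfl

theorem core_inv {M : Subgroup G} (hMA : A ≤ normalizer (M : Set G)) (s : ℕ) :
    A ≤ normalizer (pCoreIn s M : Set G) :=
  hMA.trans (normalizer_le_normalizer_pCoreIn s M)

theorem core_le_P {M : Subgroup G} (hM : IsPr A K p r M) : pCoreIn p M ≤ M ⊓ P :=
  le_inf (pCoreIn_le p M)
    (h.isylP.max _ ((pCoreIn_le p M).trans hM.le) (h.core_inv hM.inv p) (isPGroup_pCoreIn p M))

theorem core_le_R {M : Subgroup G} (hM : IsPr A K p r M) : pCoreIn r M ≤ M ⊓ R :=
  h.symm.core_le_P hM.symm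

theorem opc_eq {M : Subgroup G} (hM : IsPr A K p r M) : opc p M = pCoreIn r M := by
  have := Fact.mk h.pPrime
  have := Fact.mk h.rPrime
  refine le_antisymm (le_pCoreIn (opc_le p M) ?_ (le_normalizer_opc p M)) (pCoreIn_le_opc h.pne.symm M)
  exact h.isPGroup_of_coprime (hM.mono (opc_le p M) (hM.inv.trans (normalizer_le_normalizer_opc p M)))
    (coprime_card_opc p M)

theorem commutator_le {M : Subgroup G} (hM : IsPr A K p r M) :
    ⁅M, M⁆ ≤ pCoreIn p M ⊔ pCoreIn r M := by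
  have := Fact.mk h.pPrime
  rw [← h.opc_eq hM]
  exact commutator_le_cores hM.inv (h.copM hM) h.solvA (h.nil hM)

theorem core_commute {M : Subgroup G} (hM : IsPr A K p r M) :
    pCoreIn r M ≤ centralizer (pCoreIn p M : Set G) := by
  have := Fact.mk h.pPrime
  rw [← h.opc_eq hM]
  exact opc_le_centralizer M

/-- An `r`-subgroup centralising `O_p` lies in `O_r`. -/
theorem le_core_of_centralizes {M S : Subgroup G} (hM : IsPr A K p r M) (hS : S ≤ M) (hSr : IsPGroup r S)
    (hSc : S ≤ centralizer (pCoreIn p M : Set G)) : S ≤ pCoreIn r M := by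
  have := Fact.mk h.pPrime
  have := Fact.mk h.rPrime
  rw [← h.opc_eq hM]
  exact le_opc_of_centralizes hM.inv (h.copM hM) h.solvA (h.nil hM) hS (coprime_of_isPGroup h.pne.symm hSr) hSc

/-- `{p, r}`-Hall subgroup of an invariant proper subgroup. -/
theorem exists_hall {X : Subgroup G} (hX : X ≤ K) (hXA : A ≤ normalizer (X : Set G)) (hne : X ≠ K) :
    ∃ H : Subgroup G, IsPr A K p r H ∧ H ≤ X ∧ ∀ Y : Subgroup G, IsPr A K p r Y → Y ≤ X → Y ≤ H := by
  have hs := h.sol X hX hXA hne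
  have hop := h.toCx.toOp.mono hX hXA
  obtain ⟨H, hH, hHA, -⟩ := Solvable.exists_invariant_hall_ge hXA hop.cop hs ({p, r} : Set ℕ) (U := ⊥)
    bot_le (fun a _ => Coprime.mem_normalizer_of_forall fun x hx => by
      rw [Subgroup.mem_bot] at hx ⊢; rw [hx]; group)
    (by intro s hs' hd; rw [Subgroup.card_bot] at hd; exact absurd (Nat.dvd_one.1 hd) hs'.ne_one)
  refine ⟨H, ⟨hH.1.trans hX, hHA, fun s hs' hd => hH.2.1 s hs' hd⟩, hH.1, fun Y hY hYX => ?_⟩
  obtain ⟨H', hH', hHA', hYH'⟩ := Solvable.exists_invariant_hall_ge hXA hop.cop hs ({p, r} : Set ℕ)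
    hYX hY.inv hY.primes
  obtain ⟨c, hc, hcH⟩ := Solvable.invariant_hall_conj hXA hop.cop hs hH' hHA' hH hHA
  have hc1 : c = 1 := Subgroup.mem_bot.1 (hop.fix ▸ hc)
  rw [hc1, map_one, one_smul] at hcH
  exact hcH ▸ hYH'

theorem exists_max {Y : Subgroup G} (hY : IsPr A K p r Y) :
    ∃ M : Subgroup G, IsMaxPr A K p r M ∧ Y ≤ M := by
  obtain ⟨M, ⟨hM, hYM⟩, hmax⟩ := (Set.toFinite {M : Subgroup G | IsPr A K p r M ∧ Y ≤ M}).exists_maximal
    ⟨Y, hY, le_rfl⟩
  exact ⟨M, ⟨hM, fun Z hZ hMZ => hmax ⟨hZ, hYM.trans hMZ⟩ hMZ⟩, hYM⟩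

/-- A maximal `{p, r}`-subgroup containing those of a proper invariant subgroup. -/
theorem exists_max_above {X : Subgroup G} (hX : X ≤ K) (hXA : A ≤ normalizer (X : Set G)) (hne : X ≠ K) :
    ∃ M : Subgroup G, IsMaxPr A K p r M ∧ ∀ Y : Subgroup G, IsPr A K p r Y → Y ≤ X → Y ≤ M := by
  obtain ⟨H, hH, -, hHall⟩ := h.exists_hall hX hXA hne
  obtain ⟨M, hM, hHM⟩ := h.exists_max hH
  exact ⟨M, hM, fun Y hY hYX => (hHall Y hY hYX).trans hHM⟩

/-- A maximal `{p, r}`-subgroup containing those centralising a nontrivial invariant subgroup. -/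
theorem exists_max_centralizer {X : Subgroup G} (hX : X ≤ K) (hXA : A ≤ normalizer (X : Set G))
    (hne : X ≠ ⊥) : ∃ M : Subgroup G, IsMaxPr A K p r M ∧
      ∀ Y : Subgroup G, IsPr A K p r Y → Y ≤ centralizer (X : Set G) → Y ≤ M := by
  obtain ⟨M, hM, hall⟩ := h.exists_max_above inf_le_left
    (inv_inf h.norm (inv_centralizer hXA)) (h.toCx.centralizer_ne hX hne)
  exact ⟨M, hM, fun Y hY hYX => hall Y hY (le_inf hY.le hYX)⟩

/-- A maximal subgroup contains whatever normalises one of its nontrivial normal subgroups. -/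
theorem le_of_normalizer {M X Y : Subgroup G} (hM : IsMaxPr A K p r M) (hX : X ≤ M)
    (hXA : A ≤ normalizer (X : Set G)) (hne : X ≠ ⊥) (hn : M ≤ normalizer (X : Set G))
    (hY : IsPr A K p r Y) (hYn : Y ≤ normalizer (X : Set G)) : Y ≤ M := by
  have hXs : Group.IsSolvable X :=
    Coprime.isSolvable_of_le hX (h.sol M hM.1.le hM.1.inv (h.ne_top hM.1))
  obtain ⟨H, hH, -, hHall⟩ := h.exists_hall inf_le_left (inv_inf h.norm (inv_normalizer hXA))
    (h.toCx.normalizer_ne (hX.trans hM.1.le) hXA hne hXs)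
  exact (hHall Y hY (le_inf hY.le hYn)).trans (hM.2 H hH (hHall M hM.1 (le_inf hM.1.le hn)))

theorem P_ne_bot : P ≠ ⊥ := fun e =>
  h.notPerm R (h.symm.isPr_of_pgroup h.isylR.le h.isylR.inv h.isylR.pgroup).symm (e ▸ bot_le) le_rfl

theorem R_ne_bot : R ≠ ⊥ := h.symm.P_ne_bot

theorem eq_of_normalizer_le {S : Subgroup G} (hS : S ≤ P) (hn : P ⊓ normalizer (S : Set G) ≤ S) :
    S = P := by
  refine le_antisymm hS ?_
  by_contra hne
  have := Fact.mk h.pPrime
  have := h.isylP.pgroup.isNilpotent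
  have hlt : S.subgroupOf P < ⊤ := lt_top_iff_ne_top.2 fun e => hne (Subgroup.subgroupOf_eq_top.1 e)
  obtain ⟨t, htN, htS⟩ := SetLike.exists_of_lt (Group.normalizerCondition_of_isNilpotent _ hlt)
  refine htS (hn ⟨t.2, Coprime.mem_normalizer_of_forall fun x hx => ?_⟩)
  exact (Subgroup.mem_normalizer_iff.1 htN ⟨x, hS hx⟩).1 hx

/-- A maximal subgroup with trivial `O_r` contains `P`, which is normal in it. -/
theorem le_of_core_eq_bot {M : Subgroup G} (hM : IsMaxPr A K p r M) (h0 : pCoreIn r M = ⊥) :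
    P ≤ M ∧ M ≤ normalizer (P : Set G) := by
  have := Fact.mk h.pPrime
  have := Fact.mk h.rPrime
  have hD : ⁅M, M⁆ ≤ M ⊓ P := by
    refine (h.commutator_le hM.1).trans ?_
    rw [h0, sup_bot_eq]
    exact h.core_le_P hM.1
  have hn : M ≤ normalizer ((M ⊓ P : Subgroup G) : Set G) := fun g hg =>
    Coprime.mem_normalizer_of_forall fun x hx => by
      have e : g * x * g⁻¹ = ⁅g, x⁆ * x := by rw [commutatorElement_def]; group
      rw [e]
      exact Subgroup.mul_mem _ (hD (Subgroup.commutator_mem_commutator hg hx.1)) hx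
  have hne : M ⊓ P ≠ ⊥ := by
    intro e
    have hMR : M ≤ R := h.le_of_parts hM.1 (e ▸ bot_le) inf_le_right
    have h1 : M ≤ pCoreIn r M := le_pCoreIn le_rfl (h.isylR.pgroup.to_le hMR) Subgroup.le_normalizer
    rw [h0, le_bot_iff] at h1
    exact h.P_ne_bot (le_bot_iff.1
      (h1 ▸ hM.2 P (h.isPr_of_pgroup h.isylP.le h.isylP.inv h.isylP.pgroup) (h1 ▸ bot_le)))
  have hA : A ≤ normalizer ((M ⊓ P : Subgroup G) : Set G) := inv_inf hM.1.inv h.isylP.inv
  have heq : M ⊓ P = P := by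
    refine h.eq_of_normalizer_le inf_le_right (le_inf ?_ inf_le_left)
    exact h.le_of_normalizer hM inf_le_left hA hne hn
      (h.isPr_of_pgroup (inf_le_left.trans h.isylP.le) (inv_inf h.isylP.inv (inv_normalizer hA))
        (h.isylP.pgroup.to_le inf_le_left)) inf_le_right
  exact ⟨inf_eq_right.1 heq, by rw [heq] at hn; exact hn⟩

theorem core_ne_bot_of_not_le {M : Subgroup G} (hM : IsMaxPr A K p r M) (hP : ¬ P ≤ M) :
    pCoreIn r M ≠ ⊥ := fun e => hP (h.le_of_core_eq_bot hM e).1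

theorem centralizes_core {M Y : Subgroup G} (hM : IsMaxPr A K p r M) (hFp : pCoreIn p M ≠ ⊥)
    (hY : IsPr A K p r Y) (h1 : pCoreIn p M ≤ Y) (h2 : pCoreIn r M ≤ Y) :
    pCoreIn r M ≤ centralizer (pCoreIn p Y : Set G) := by
  have := Fact.mk h.pPrime
  have := Fact.mk h.rPrime
  set Fp := pCoreIn p M with hFpdef
  set V := pCoreIn p Y with hVdef
  intro y hy
  have hyo : (orderOf y).Coprime p := by
    refine (coprime_of_isPGroup h.pne.symm (isPGroup_pCoreIn r M)).coprime_dvd_left ?_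
    rw [← Subgroup.orderOf_mk y hy]
    exact orderOf_dvd_natCard _
  refine Subgroup.mem_centralizer_iff.2 fun v hv => ?_
  have hkey := pxq (V := V) (B := Fp) (isPGroup_pCoreIn p Y) (isPGroup_pCoreIn p M)
    (h1.trans (le_normalizer_pCoreIn p Y)) hyo (le_normalizer_pCoreIn p Y (h2 hy))
    (h.core_commute hM.1 hy) ?_
  · exact Subgroup.mem_centralizer_singleton_iff.1 (hkey hv)
  intro c hc
  have hW : V ⊓ centralizer (Fp : Set G) ≤ M :=
    h.le_of_normalizer hM (pCoreIn_le p M) (h.core_inv hM.1.inv p) hFp (le_normalizer_pCoreIn p M)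
      (hY.mono (inf_le_left.trans (pCoreIn_le p Y))
        (inv_inf (h.core_inv hY.inv p) (inv_centralizer (h.core_inv hM.1.inv p))))
      (inf_le_right.trans (Subgroup.centralizer_le_normalizer _))
  have hcY : c ∈ Y := pCoreIn_le p Y hc.1
  have e1 : ⁅c, y⁆ ∈ V := by
    have := (Subgroup.le_normalizer_iff_commutator_le_left.1 (le_normalizer_pCoreIn p Y))
      (Subgroup.commutator_mem_commutator hc.1 (h2 hy))
    exact this
  have e2 : ⁅c, y⁆ ∈ pCoreIn r M := by
    have := (Subgroup.le_normalizer_iff_commutator_le_left.1 (le_normalizer_pCoreIn r M))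
      (Subgroup.commutator_mem_commutator hy (hW hc))
    rw [← commutatorElement_inv]
    exact Subgroup.inv_mem _ this
  have e3 : ⁅c, y⁆ = 1 := disjoint_of_coprime (isPGroup_pCoreIn p Y)
    (coprime_of_isPGroup h.pne.symm (isPGroup_pCoreIn r M)) e1 e2
  exact Subgroup.mem_centralizer_singleton_iff.2 (commutatorElement_eq_one_iff_mul_comm.1 e3)

/-- Uniqueness: a maximal subgroup contains every one containing both its cores, if both are nontrivial. -/
theorem le_of_fitting {M Y : Subgroup G} (hM : IsMaxPr A K p r M) (hFp : pCoreIn p M ≠ ⊥)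
    (hFr : pCoreIn r M ≠ ⊥) (hY : IsPr A K p r Y) (h1 : pCoreIn p M ≤ Y) (h2 : pCoreIn r M ≤ Y) :
    Y ≤ M := by
  have hr1 : pCoreIn r M ≤ pCoreIn r Y :=
    h.le_core_of_centralizes hY h2 (isPGroup_pCoreIn r M) (h.centralizes_core hM hFp hY h1 h2)
  have hp1 : pCoreIn p M ≤ pCoreIn p Y := h.symm.le_core_of_centralizes hY.symm h1 (isPGroup_pCoreIn p M)
    (h.symm.centralizes_core hM.symm hFr hY.symm h2 h1)
  have hc : pCoreIn r Y ≤ centralizer (pCoreIn p M : Set G) :=
    (h.core_commute hY).trans (Subgroup.centralizer_le (SetLike.coe_subset_coe.2 hp1))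
  have hle : pCoreIn r Y ≤ M := h.le_of_normalizer hM (pCoreIn_le p M) (h.core_inv hM.1.inv p) hFp
    (le_normalizer_pCoreIn p M) (hY.mono (pCoreIn_le r Y) (h.core_inv hY.inv r))
    (hc.trans (Subgroup.centralizer_le_normalizer _))
  have heq : pCoreIn r Y = pCoreIn r M :=
    le_antisymm (h.le_core_of_centralizes hM.1 hle (isPGroup_pCoreIn r Y) hc) hr1
  exact h.le_of_normalizer hM (pCoreIn_le r M) (h.core_inv hM.1.inv r) hFr (le_normalizer_pCoreIn r M) hY
    (heq ▸ le_normalizer_pCoreIn r Y)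

theorem card_dvd {M : Subgroup G} (hM : IsPr A K p r M) :
    Nat.card M ∣ Nat.card (M ⊓ P : Subgroup G) * Nat.card (M ⊓ R : Subgroup G) := by
  rw [Nat.dvd_iff_prime_pow_dvd_dvd]
  intro t n ht hn
  rcases Nat.eq_zero_or_pos n with rfl | hn0
  · simp
  have := Fact.mk ht
  obtain ⟨Q, hQ⟩ := Coprime.exists_invariant_sylow hM.inv (h.copM hM) (Or.inl h.solvA) t
  set Q' : Subgroup G := (Q : Subgroup M).map M.subtype with hQ'
  have hQp : IsPGroup t Q' := Q.2.map _
  have hQM : Q' ≤ M := map_subtype_le _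
  have hcard : t ^ n ∣ Nat.card Q' := by
    rw [hQ', Subgroup.card_map_of_injective M.subtype_injective, Q.card_eq_multiplicity]
    exact pow_dvd_pow t ((Nat.Prime.pow_dvd_iff_le_factorization ht Nat.card_pos.ne').1 hn)
  rcases hM.primes t ht ((dvd_pow_self t hn0.ne').trans hn) with rfl | rfl
  · exact (hcard.trans (Subgroup.card_dvd_of_le (le_inf hQM (h.isylP.max _ (hQM.trans hM.le) hQ hQp)))).trans
      (dvd_mul_right _ _)
  · exact (hcard.trans (Subgroup.card_dvd_of_le (le_inf hQM (h.isylR.max _ (hQM.trans hM.le) hQ hQp)))).trans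
      (dvd_mul_left _ _)

theorem inf_eq_bot_PR : P ⊓ R = ⊥ := by
  have := Fact.mk h.pPrime
  have := Fact.mk h.rPrime
  rw [eq_bot_iff]
  exact fun x hx => Subgroup.mem_bot.2
    (disjoint_of_coprime h.isylP.pgroup (coprime_of_isPGroup h.pne.symm h.isylR.pgroup) hx.1 hx.2)

/-- An invariant `{p, r}`-subgroup is the product of its invariant Sylow subgroups. -/
theorem exists_mul {M : Subgroup G} (hM : IsPr A K p r M) {x : G} (hx : x ∈ M) :
    ∃ a ∈ M ⊓ P, ∃ b ∈ M ⊓ R, a * b = x := by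
  let f : (M ⊓ P : Subgroup G) × (M ⊓ R : Subgroup G) → M := fun c =>
    ⟨c.1 * c.2, M.mul_mem c.1.2.1 c.2.2.1⟩
  have hd : Disjoint (M ⊓ P) (M ⊓ R) := disjoint_iff.2 (le_bot_iff.1
    ((inf_le_inf inf_le_right inf_le_right).trans h.inf_eq_bot_PR.le))
  have hinj : Function.Injective f := fun c d hcd =>
    Subgroup.mul_injective_of_disjoint hd (congrArg Subtype.val hcd)
  have hsurj : Function.Surjective f := by
    have h1 := Nat.card_le_card_of_injective f hinj
    have h2 : Nat.card M ≤ Nat.card ((M ⊓ P : Subgroup G) × (M ⊓ R : Subgroup G)) := by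
      rw [Nat.card_prod]; exact Nat.le_of_dvd (Nat.mul_pos Nat.card_pos Nat.card_pos) (h.card_dvd hM)
    exact ((Nat.bijective_iff_injective_and_card f).2 ⟨hinj, le_antisymm h1 h2⟩).2
  obtain ⟨⟨a, b⟩, hab⟩ := hsurj ⟨x, hx⟩
  exact ⟨a, a.2, b, b.2, congrArg Subtype.val hab⟩

/-- There is only one maximal subgroup containing `P`. -/
theorem eq_of_sylow_le {M₁ M₂ : Subgroup G} (h1 : IsMaxPr A K p r M₁) (h2 : IsMaxPr A K p r M₂)
    (hP1 : P ≤ M₁) (hP2 : P ≤ M₂) : M₁ = M₂ := by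
  set R3 := (M₁ ⊓ R) ⊔ (M₂ ⊓ R) with hR3
  have hR3R : R3 ≤ R := sup_le inf_le_right inf_le_right
  set Q : Set G := {b | ∀ a ∈ P, ∃ a' ∈ P, ∃ b' ∈ R3, b * a = a' * b'} with hQ
  have hmem : ∀ {M : Subgroup G}, IsMaxPr A K p r M → P ≤ M → M ⊓ R ≤ R3 → ∀ b ∈ M ⊓ R, b ∈ Q := by
    intro M hM hPM hMR b hb a ha
    obtain ⟨a', ha', b', hb', he⟩ := h.exists_mul hM.1 (M.mul_mem hb.1 (hPM ha))
    exact ⟨a', ha'.2, b', hMR hb', he.symm⟩
  have hQmul : ∀ {b c : G}, b ∈ Q → c ∈ Q → b * c ∈ Q := by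
    intro b c hb hc a ha
    obtain ⟨a1, ha1, c', hc', e1⟩ := hc a ha
    obtain ⟨a2, ha2, b', hb', e2⟩ := hb a1 ha1
    refine ⟨a2, ha2, b' * c', R3.mul_mem hb' hc', ?_⟩
    rw [mul_assoc, e1, ← mul_assoc, e2, mul_assoc]
  have hQ1 : (1 : G) ∈ Q := fun a ha => ⟨a, ha, 1, R3.one_mem, by simp⟩
  have hQall : ∀ b ∈ R3, b ∈ Q := by
    intro b hb
    rw [hR3, Subgroup.sup_eq_closure] at hb
    induction hb using Subgroup.closure_induction with
    | mem x hx =>
      rcases hx with hx | hx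
      · exact hmem h1 hP1 le_sup_left x hx
      · exact hmem h2 hP2 le_sup_right x hx
    | one => exact hQ1
    | mul x y _ _ hx hy => exact hQmul hx hy
    | inv x _ hx =>
      have hpow : ∀ n : ℕ, x ^ n ∈ Q := fun n => by
        induction n with
        | zero => simpa using hQ1
        | succ n ih => rw [pow_succ]; exact hQmul ih hx
      have e : x⁻¹ = x ^ (orderOf x - 1) := by
        refine inv_eq_of_mul_eq_one_right ?_
        rw [← pow_succ', Nat.sub_add_cancel (orderOf_pos x), pow_orderOf_eq_one]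
      rw [e]; exact hpow _
  let T : Subgroup G :=
    { carrier := {g | ∃ a ∈ P, ∃ b ∈ R3, g = a * b}
      one_mem' := ⟨1, P.one_mem, 1, R3.one_mem, by simp⟩
      mul_mem' := by
        rintro _ _ ⟨a, ha, b, hb, rfl⟩ ⟨a', ha', b', hb', rfl⟩
        obtain ⟨a'', ha'', b'', hb'', e⟩ := hQall b hb a' ha'
        exact ⟨a * a'', P.mul_mem ha ha'', b'' * b', R3.mul_mem hb'' hb', by
          rw [mul_assoc a, ← mul_assoc b, e]; group⟩
      inv_mem' := by
        rintro _ ⟨a, ha, b, hb, rfl⟩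
        obtain ⟨a'', ha'', b'', hb'', e⟩ := hQall b⁻¹ (R3.inv_mem hb) a⁻¹ (P.inv_mem ha)
        exact ⟨a'', ha'', b'', hb'', by rw [mul_inv_rev, e]⟩ }
  have hR3A : A ≤ normalizer (R3 : Set G) :=
    inv_sup (inv_inf h1.1.inv h.isylR.inv) (inv_inf h2.1.inv h.isylR.inv)
  have hT : IsPr A K p r T := by
    refine ⟨?_, ?_, ?_⟩
    · rintro _ ⟨a, ha, b, hb, rfl⟩
      exact K.mul_mem (h.isylP.le ha) (h.isylR.le (hR3R hb))
    · intro x hx
      refine Coprime.mem_normalizer_of_forall ?_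
      rintro _ ⟨a, ha, b, hb, rfl⟩
      exact ⟨x * a * x⁻¹, commute_conj_mem (h.isylP.inv hx) ha, x * b * x⁻¹,
        commute_conj_mem (hR3A hx) hb, by group⟩
    · intro s hs hd
      have hbij : Function.Bijective (fun c : P × R3 => (⟨c.1 * c.2, c.1, c.1.2, c.2, c.2.2, rfl⟩ : T)) := by
        refine ⟨fun c d hcd => Subgroup.mul_injective_of_disjoint (disjoint_iff.2 (le_bot_iff.1
          ((inf_le_inf le_rfl hR3R).trans h.inf_eq_bot_PR.le))) (congrArg Subtype.val hcd), ?_⟩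
        rintro ⟨_, a, ha, b, hb, rfl⟩
        exact ⟨(⟨a, ha⟩, ⟨b, hb⟩), rfl⟩
      rw [← Nat.card_congr (Equiv.ofBijective _ hbij), Nat.card_prod] at hd
      rcases hs.dvd_mul.1 hd with hd | hd
      · exact (h.isPr_of_pgroup h.isylP.le h.isylP.inv h.isylP.pgroup).primes s hs hd
      · exact (h.symm.isPr_of_pgroup (hR3R.trans h.isylR.le) hR3A
          (h.isylR.pgroup.to_le hR3R)).symm.primes s hs hd
  have hle : ∀ {M : Subgroup G}, IsMaxPr A K p r M → P ≤ M → M ⊓ R ≤ R3 → M = T := by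
    intro M hM hPM hMR
    refine le_antisymm ?_ (hM.2 T hT ?_) <;>
    · refine h.le_of_parts hM.1 (fun x hx => ?_) (fun x hx => ?_)
      · exact ⟨x, hx.2, 1, R3.one_mem, (mul_one x).symm⟩
      · exact ⟨1, P.one_mem, x, hMR hx, (one_mul x).symm⟩
  rw [hle h1 hP1 le_sup_left, hle h2 hP2 le_sup_right]

end PrPair

end Cfsg.Agent.FPQ
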