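import Cfsg.Agent.Lib.FPQ.Norm
import Cfsg.Agent.Lib.Coprime.Generation

/-!
# A noncyclic group of order `q²` with abelian fixed points and no common fixed point (helper25)

* `Op`: the hypotheses; `mono`, `quot` (image in a quotient by an invariant subgroup)
* invariance lemmas `inv_inf`, `inv_sup`, `inv_commutator`, `inv_centralizer`, `inv_normalizer`
* `le_of_lines`, `fix_ne_bot`, `eq_bot_of_two`, `exists_fix_of_mod`
-/

set_option autoImplicit false
set_option linter.unusedSectionVars false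

namespace Cfsg.Agent.FPQ

open Subgroup
open scoped Pointwise IsMulCommutative

variable {G : Type*} [Group G]

/-- `A` is noncyclic of order `q²`, acts coprimely on `K` with abelian centralisers. -/
structure Op0 (q : ℕ) (A K : Subgroup G) : Prop where
  prime : q.Prime
  card : Nat.card A = q ^ 2
  noncyc : ¬ IsCyclic A
  norm : A ≤ normalizer (K : Set G)
  cop : (Nat.card A).Coprime (Nat.card K)
  abel : ∀ a ∈ A, a ≠ 1 → ∀ x ∈ K ⊓ centralizer {a}, ∀ y ∈ K ⊓ centralizer {a}, x * y = y * x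

/-- Moreover `C_K(A) = 1`. -/
structure Op (q : ℕ) (A K : Subgroup G) : Prop extends Op0 q A K where
  fix : K ⊓ centralizer (A : Set G) = ⊥

section Inv

variable {A X Y : Subgroup G}

theorem inv_inf (hX : A ≤ normalizer (X : Set G)) (hY : A ≤ normalizer (Y : Set G)) :
    A ≤ normalizer ((X ⊓ Y : Subgroup G) : Set G) := fun a ha => by
  rw [Solvable.mem_normalizer_iff_conj, Subgroup.smul_inf, Solvable.mem_normalizer_iff_conj.1 (hX ha),
    Solvable.mem_normalizer_iff_conj.1 (hY ha)]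

theorem inv_sup (hX : A ≤ normalizer (X : Set G)) (hY : A ≤ normalizer (Y : Set G)) :
    A ≤ normalizer ((X ⊔ Y : Subgroup G) : Set G) := fun a ha => by
  rw [Solvable.mem_normalizer_iff_conj, Subgroup.smul_sup, Solvable.mem_normalizer_iff_conj.1 (hX ha),
    Solvable.mem_normalizer_iff_conj.1 (hY ha)]

theorem inv_commutator (hX : A ≤ normalizer (X : Set G)) (hY : A ≤ normalizer (Y : Set G)) :
    A ≤ normalizer ((⁅X, Y⁆ : Subgroup G) : Set G) := fun a ha => by
  have h1 := Subgroup.mem_normalizer_iff_map_conj_eq.1 (hX ha)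
  have h2 := Subgroup.mem_normalizer_iff_map_conj_eq.1 (hY ha)
  rw [Subgroup.mem_normalizer_iff_map_conj_eq, Subgroup.map_commutator, h1, h2]

theorem inv_centralizer [Finite G] {S : Subgroup G} (hS : A ≤ normalizer (S : Set G)) :
    A ≤ normalizer ((centralizer (S : Set G) : Subgroup G) : Set G) := fun a ha =>
  Coprime.mem_normalizer_of_forall fun x hx => Subgroup.mem_centralizer_iff.2 fun s hs => by
    have h1 : a⁻¹ * s * a ∈ S := (Subgroup.mem_normalizer_iff''.1 (hS ha) s).1 hs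
    have h2 := Subgroup.mem_centralizer_iff.1 hx _ h1
    calc s * (a * x * a⁻¹) = a * ((a⁻¹ * s * a) * x) * a⁻¹ := by group
      _ = a * (x * (a⁻¹ * s * a)) * a⁻¹ := by rw [h2]
      _ = a * x * a⁻¹ * s := by group

theorem inv_normalizer [Finite G] {S : Subgroup G} (hS : A ≤ normalizer (S : Set G)) :
    A ≤ normalizer ((normalizer (S : Set G) : Subgroup G) : Set G) :=
  hS.trans Subgroup.le_normalizer

theorem inv_centralizer_singleton [IsMulCommutative A] [Finite G] {a : G} (ha : a ∈ A) :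
    A ≤ normalizer ((centralizer ({a} : Set G) : Subgroup G) : Set G) := fun b hb =>
  Coprime.mem_normalizer_of_forall fun x hx => by
    rw [Subgroup.mem_centralizer_singleton_iff] at hx ⊢
    have hab : a * b = b * a := setLike_mul_comm ha hb
    have hab' : b⁻¹ * a = a * b⁻¹ := by
      rw [inv_mul_eq_iff_eq_mul, ← mul_assoc, ← hab, mul_inv_cancel_right]
    calc b * x * b⁻¹ * a = b * (x * a) * b⁻¹ := by rw [mul_assoc (b * x), hab']; group
      _ = b * (a * x) * b⁻¹ := by rw [hx]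
      _ = b * a * (x * b⁻¹) := by group
      _ = a * (b * x * b⁻¹) := by rw [← hab]; group

theorem commute_conj_mem {a x : G} {S : Subgroup G} (hS : a ∈ normalizer (S : Set G)) (hx : x ∈ S) :
    a * x * a⁻¹ ∈ S := (Subgroup.mem_normalizer_iff.1 hS x).1 hx

end Inv

namespace Op0

variable [Finite G] {q : ℕ} {A K : Subgroup G} (hO : Op0 q A K)
include hO

theorem isMulComm : IsMulCommutative A :=
  have := Fact.mk hO.prime
  IsPGroup.isMulCommutative_of_card_eq_prime_sq (G := A) hO.card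

theorem solvA : Group.IsSolvable A :=
  have := hO.isMulComm
  Group.isSolvable_of_comm fun a b => mul_comm a b

theorem cop_le {X : Subgroup G} (hX : X ≤ K) : (Nat.card A).Coprime (Nat.card X) :=
  hO.cop.coprime_dvd_right (Subgroup.card_dvd_of_le hX)

theorem mono {X : Subgroup G} (hX : X ≤ K) (hXA : A ≤ normalizer (X : Set G)) : Op0 q A X where
  prime := hO.prime
  card := hO.card
  noncyc := hO.noncyc
  norm := hXA
  cop := hO.cop_le hX
  abel a ha ha1 x hx y hy := hO.abel a ha ha1 x ⟨hX hx.1, hx.2⟩ y ⟨hX hy.1, hy.2⟩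

/-- A coset fixed by `b` contains a fixed point. -/
theorem exists_fix_of_mod {b : G} (hb : b ∈ A) {X N : Subgroup G} (hX : X ≤ K)
    (hbX : b ∈ normalizer (X : Set G)) (hNX : N ≤ X) (hbN : b ∈ normalizer (N : Set G)) {x : G}
    (hx : x ∈ X) (hfix : b * x * b⁻¹ * x⁻¹ ∈ N) :
    ∃ c ∈ X ⊓ centralizer {b}, c * x⁻¹ ∈ N := by
  have := hO.isMulComm
  have hXN : X ≤ K := hX
  obtain ⟨c, hc, hcN⟩ := Coprime.exists_mem_centralizer_of_coset (A := zpowers b) (K := X)
    (zpowers_le.2 hbX) ((hO.cop_le hXN).coprime_dvd_left (Subgroup.card_dvd_of_le (zpowers_le.2 hb)))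
    (Or.inl (Coprime.isSolvable_of_le (zpowers_le.2 hb) hO.solvA)) hNX (zpowers_le.2 hbN) hx
    (fun a ha => by
      let T : Subgroup G :=
        { carrier := {a | a ∈ normalizer (N : Set G) ∧ a * x * a⁻¹ * x⁻¹ ∈ N}
          one_mem' := ⟨one_mem _, by simp⟩
          mul_mem' := fun {a a'} h h' => ⟨mul_mem h.1 h'.1, by
            have h2 := N.mul_mem (commute_conj_mem h.1 h'.2) h.2
            group at h2 ⊢
            exact h2⟩
          inv_mem' := fun {a} h => ⟨inv_mem h.1, by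
            have h2 := N.inv_mem (commute_conj_mem (inv_mem h.1) h.2)
            group at h2 ⊢
            exact h2⟩ }
      exact ((zpowers_le.2 (show b ∈ T from ⟨hbN, hfix⟩)) ha).2)
  refine ⟨c, ⟨hc.1, Subgroup.mem_centralizer_singleton_iff.2 ?_⟩, hcN⟩
  exact ((Subgroup.mem_centralizer_iff.1 hc.2) b (mem_zpowers b)).symm

end Op0

namespace Op

variable [Finite G] {q : ℕ} {A K : Subgroup G} (hO : Op q A K)
include hO

theorem pow_q {a : G} (ha : a ∈ A) : a ^ q = 1 := by
  have := Fact.mk hO.prime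
  obtain ⟨k, hk, hk'⟩ := (Nat.dvd_prime_pow hO.prime).1
    (hO.card ▸ orderOf_dvd_natCard (⟨a, ha⟩ : A))
  interval_cases k
  · rw [pow_zero, orderOf_eq_one_iff] at hk'
    rw [show a = 1 from congrArg Subtype.val hk', one_pow]
  · rw [pow_one] at hk'
    have := pow_orderOf_eq_one (⟨a, ha⟩ : A)
    rw [hk'] at this
    exact congrArg Subtype.val this
  · exact absurd (isCyclic_of_orderOf_eq_card _ (hk'.trans hO.card.symm)) hO.noncyc

theorem orderOf_eq {a : G} (ha : a ∈ A) (ha1 : a ≠ 1) : orderOf a = q :=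
  have := Fact.mk hO.prime
  orderOf_eq_prime (hO.pow_q ha) ha1

theorem card_zpowers {a : G} (ha : a ∈ A) (ha1 : a ≠ 1) : Nat.card (zpowers a) = q := by
  rw [Nat.card_zpowers, hO.orderOf_eq ha ha1]

theorem exists_not_mem_zpowers (a : G) : ∃ b ∈ A, b ∉ zpowers a := by
  by_contra h
  push Not at h
  exact hO.noncyc (Subgroup.isCyclic_of_le (fun x hx => h x hx))

theorem sup_eq {a b : G} (ha : a ∈ A) (ha1 : a ≠ 1) (hb : b ∈ A) (hab : b ∉ zpowers a) :
    zpowers a ⊔ zpowers b = A := by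
  have hle : zpowers a ⊔ zpowers b ≤ A := sup_le (zpowers_le.2 ha) (zpowers_le.2 hb)
  refine Subgroup.eq_of_le_of_card_ge hle ?_
  obtain ⟨k, hk, hk'⟩ := (Nat.dvd_prime_pow hO.prime).1 (hO.card ▸ Subgroup.card_dvd_of_le hle)
  have h1 : zpowers a < zpowers a ⊔ zpowers b :=
    lt_of_le_of_ne le_sup_left fun h => hab (h ▸ mem_sup_right (mem_zpowers b))
  have h2 : q < Nat.card (zpowers a ⊔ zpowers b : Subgroup G) := by
    rw [← hO.card_zpowers ha ha1]
    exact lt_of_le_of_ne (Subgroup.card_le_of_le h1.le) fun h =>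
      h1.ne (Subgroup.eq_of_le_of_card_ge h1.le h.ge)
  rw [hk'] at h2
  interval_cases k
  · simp at h2; exact absurd h2 (by have := hO.prime.two_le; omega)
  · simp at h2
  · rw [hO.card, hk']

theorem ne_one_of_not_mem {a b : G} (hab : b ∉ zpowers a) : b ≠ 1 := fun h => hab (h ▸ one_mem _)

theorem not_mem_symm {a b : G} (ha : a ∈ A) (ha1 : a ≠ 1) (hb : b ∈ A) (hab : b ∉ zpowers a) :
    a ∉ zpowers b := fun h => by
  have h1 : zpowers a ≤ zpowers b := zpowers_le.2 h
  have h2 := Subgroup.eq_of_le_of_card_ge h1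
    (by rw [hO.card_zpowers ha ha1, hO.card_zpowers hb (hO.ne_one_of_not_mem hab)])
  exact hab (h2 ▸ mem_zpowers b)

theorem eq_one_of_two {a b x : G} (ha : a ∈ A) (ha1 : a ≠ 1) (hb : b ∈ A) (hab : b ∉ zpowers a)
    (hx : x ∈ K) (hxa : x ∈ centralizer {a}) (hxb : x ∈ centralizer {b}) : x = 1 := by
  have h : x ∈ K ⊓ centralizer (A : Set G) := by
    refine ⟨hx, ?_⟩
    rw [← hO.sup_eq ha ha1 hb hab]
    have h1 : zpowers a ⊔ zpowers b ≤ centralizer {x} := sup_le
      (zpowers_le.2 (Subgroup.mem_centralizer_singleton_iff.2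
        (Subgroup.mem_centralizer_singleton_iff.1 hxa).symm))
      (zpowers_le.2 (Subgroup.mem_centralizer_singleton_iff.2
        (Subgroup.mem_centralizer_singleton_iff.1 hxb).symm))
    exact fun y hy => Subgroup.mem_centralizer_singleton_iff.1 (h1 hy)
  rwa [hO.fix, Subgroup.mem_bot] at h

theorem inv_line {a : G} (ha : a ∈ A) : A ≤ normalizer ((K ⊓ centralizer {a} : Subgroup G) : Set G) :=
  have := hO.isMulComm
  inv_inf hO.norm (inv_centralizer_singleton ha)

theorem inv_inf_line {a : G} (ha : a ∈ A) {X : Subgroup G} (hX : A ≤ normalizer (X : Set G)) :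
    A ≤ normalizer ((X ⊓ centralizer {a} : Subgroup G) : Set G) :=
  have := hO.isMulComm
  inv_inf hX (inv_centralizer_singleton ha)

theorem comm_line {a x y : G} (ha : a ∈ A) (ha1 : a ≠ 1) (hx : x ∈ K) (hxa : x ∈ centralizer {a})
    (hy : y ∈ K) (hya : y ∈ centralizer {a}) : x * y = y * x :=
  hO.abel a ha ha1 x ⟨hx, hxa⟩ y ⟨hy, hya⟩

theorem le_centralizer_line {a : G} (ha : a ∈ A) (ha1 : a ≠ 1) {X Y : Subgroup G}
    (hX : X ≤ K ⊓ centralizer {a}) (hY : Y ≤ K ⊓ centralizer {a}) :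
    X ≤ centralizer (Y : Set G) := fun x hx =>
  Subgroup.mem_centralizer_iff.2 fun y hy => (hO.abel a ha ha1 x (hX hx) y (hY hy)).symm

theorem comm_of_le_line {a : G} (ha : a ∈ A) (ha1 : a ≠ 1) {X : Subgroup G}
    (hX : X ≤ K ⊓ centralizer {a}) : IsMulCommutative X :=
  ⟨⟨fun x y => Subtype.ext (hO.abel a ha ha1 x (hX x.2) y (hX y.2))⟩⟩

theorem mono {X : Subgroup G} (hX : X ≤ K) (hXA : A ≤ normalizer (X : Set G)) : Op q A X where
  prime := hO.prime
  card := hO.card
  noncyc := hO.noncyc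
  norm := hXA
  cop := hO.cop_le hX
  abel a ha ha1 x hx y hy := hO.abel a ha ha1 x ⟨hX hx.1, hx.2⟩ y ⟨hX hy.1, hy.2⟩
  fix := le_bot_iff.1 ((inf_le_inf_right _ hX).trans hO.fix.le)

/-- An invariant subgroup is generated by its fixed points of the non-identity elements. -/
theorem le_of_lines {X W : Subgroup G} (hX : X ≤ K) (hXA : A ≤ normalizer (X : Set G))
    (hW : ∀ a ∈ A, a ≠ 1 → X ⊓ centralizer {a} ≤ W) : X ≤ W :=
  have := hO.isMulComm
  Coprime.le_of_noncyclic hO.noncyc hXA (hO.cop_le hX) hW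

theorem exists_line_not_le {X W : Subgroup G} (hX : X ≤ K) (hXA : A ≤ normalizer (X : Set G))
    (h : ¬ X ≤ W) : ∃ a ∈ A, a ≠ 1 ∧ ¬ X ⊓ centralizer {a} ≤ W := by
  by_contra hc
  push Not at hc
  exact h (hO.le_of_lines hX hXA hc)

/-- If `Y`, in the line of `a`, acts without fixed points on the abelian `V`, every other line meets `V`. -/
theorem fix_ne_bot {a b : G} (ha : a ∈ A) (ha1 : a ≠ 1) (hb : b ∈ A) (hab : b ∉ zpowers a)
    {V Y : Subgroup G} [IsMulCommutative V] (hVA : A ≤ normalizer (V : Set G))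
    (hY : Y ≤ K ⊓ centralizer {a}) (hYA : A ≤ normalizer (Y : Set G))
    (hYV : Y ≤ normalizer (V : Set G)) (hCY : V ⊓ centralizer (Y : Set G) = ⊥) (hne : V ≠ ⊥) :
    V ⊓ centralizer {b} ≠ ⊥ := by
  have := hO.comm_of_le_line ha ha1 hY
  refine fun h => hne (eq_bot_of_fix_eq_bot hO.prime (hO.pow_q hb) (hYA hb) (hVA hb) hYV ?_ hCY h)
  rw [eq_bot_iff]
  intro y hy
  exact Subgroup.mem_bot.2 (hO.eq_one_of_two ha ha1 hb hab (hY hy.1).1 (hY hy.1).2 hy.2)

/-- Two lines cannot both act without fixed points on an abelian group. -/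
theorem eq_bot_of_two {a b : G} (ha : a ∈ A) (ha1 : a ≠ 1) (hb : b ∈ A) (hab : b ∉ zpowers a)
    {V Y Z : Subgroup G} [IsMulCommutative V] (hVK : V ≤ K) (hVA : A ≤ normalizer (V : Set G))
    (hY : Y ≤ K ⊓ centralizer {a}) (hYA : A ≤ normalizer (Y : Set G))
    (hYV : Y ≤ normalizer (V : Set G)) (hCY : V ⊓ centralizer (Y : Set G) = ⊥)
    (hZ : Z ≤ K ⊓ centralizer {b}) (hZA : A ≤ normalizer (Z : Set G))
    (hZV : Z ≤ normalizer (V : Set G)) (hCZ : V ⊓ centralizer (Z : Set G) = ⊥) : V = ⊥ := by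
  by_contra hne
  set W := V ⊓ centralizer ({b} : Set G) with hW
  have : IsMulCommutative W := ⟨⟨fun x y => Subtype.ext (setLike_mul_comm x.2.1 y.2.1)⟩⟩
  have hZW : Z ≤ normalizer (W : Set G) := fun z hz =>
    Coprime.mem_normalizer_of_forall fun x hx => ⟨commute_conj_mem (hZV hz) hx.1,
      Subgroup.mul_mem _ (Subgroup.mul_mem _ (hZ hz).2 hx.2) (Subgroup.inv_mem _ (hZ hz).2)⟩
  have h1 : W ≠ ⊥ := hO.fix_ne_bot ha ha1 hb hab hVA hY hYA hYV hCY hne
  refine hO.fix_ne_bot hb (hO.ne_one_of_not_mem hab) ha (hO.not_mem_symm ha ha1 hb hab)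
    (hO.inv_inf_line hb hVA) hZ hZA hZW ?_ h1 ?_
  · exact le_bot_iff.1 ((inf_le_inf_right _ inf_le_left).trans hCZ.le)
  · rw [eq_bot_iff]
    intro x hx
    exact Subgroup.mem_bot.2 (hO.eq_one_of_two ha ha1 hb hab (hVK hx.1.1) hx.2 hx.1.2)

end Op

end Cfsg.Agent.FPQ
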